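import Groth.Agent.Proj16.ToProj
import Groth.Prelude.Def_Cone
import Groth.Prelude.Def_PCone

/-!
# The retractions of the pointed cones
-/

universe u

open SetLike AlgebraicGeometry HomogeneousLocalization CategoryTheory CategoryTheory.Limits
open scoped HomogeneousIdeal

namespace Groth.Agent.Proj16

variable {R A : Type u} [CommRing R] [CommRing A] [Algebra R A] (𝒜 : ℕ → Submodule R A) [GradedAlgebra 𝒜]

lemma exists_homogeneous_notMem {I : Ideal A} (h : ¬ (HomogeneousIdeal.irrelevant 𝒜).toIdeal ≤ I) :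
    ∃ (d : ℕ) (f : A), 0 < d ∧ f ∈ 𝒜 d ∧ f ∉ I := by
  by_contra! H
  refine h ?_
  rw [HomogeneousIdeal.irrelevant_eq_span, Ideal.span_le]
  simp only [Set.iUnion_subset_iff]
  exact fun i hi a ha ↦ H i a hi ha

lemma cone_range_chart {d : ℕ} {f : A} (hf : f ∈ 𝒜 d) (hd : 0 < d) :
    Set.range (Cone.chart hf hd) =
      (Cone.pointed 𝒜).ι ⁻¹' (PrimeSpectrum.basicOpen f : Set (PrimeSpectrum A)) := by
  have h : Set.range (Spec.map (CommRingCat.ofHom (algebraMap A (Localization.Away f)))) =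
      (PrimeSpectrum.basicOpen f : Set (PrimeSpectrum A)) :=
    PrimeSpectrum.localization_away_comap_range (Localization.Away f) f
  rw [← h]
  ext z
  constructor
  · rintro ⟨w, rfl⟩
    exact ⟨w, by
      rw [← Scheme.Hom.comp_apply]
      exact congrArg (fun k : Spec (CommRingCat.of (Localization.Away f)) ⟶ Spec (CommRingCat.of A) ↦ k w)
        (IsOpenImmersion.lift_fac _ _ _).symm⟩
  · rintro ⟨w, hw⟩
    refine ⟨w, (Cone.pointed 𝒜).ι.isOpenEmbedding.injective ?_⟩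
    rw [← hw, ← Scheme.Hom.comp_apply]
    exact congrArg (fun k : Spec (CommRingCat.of (Localization.Away f)) ⟶ Spec (CommRingCat.of A) ↦ k w)
      (IsOpenImmersion.lift_fac _ _ _)

/-- The chart data of the retraction of the pointed cone. -/
noncomputable def coneData : ToProjData 𝒜 (Cone.pointed 𝒜 : Scheme.{u}) where
  ring f := CommRingCat.of (Localization.Away f)
  chart hf hd := Cone.chart hf hd
  isOpenImmersion {d f} hf hd := by
    have : IsOpenImmersion (Cone.chart hf hd ≫ (Cone.pointed 𝒜).ι) := by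
      rw [Cone.chart, IsOpenImmersion.lift_fac]
      infer_instance
    exact IsOpenImmersion.of_comp _ (Cone.pointed 𝒜).ι
  covers z := by
    obtain ⟨d, f, hd, hf, hfz⟩ := exists_homogeneous_notMem 𝒜 (I := z.1.asIdeal) fun h ↦ z.2 h
    exact ⟨d, f, hf, hd, (cone_range_chart 𝒜 hf hd).ge hfz⟩
  range_inter hf hd hg he := by
    rw [cone_range_chart, cone_range_chart, cone_range_chart, PrimeSpectrum.basicOpen_mul]
    rfl
  toRing f := CommRingCat.ofHom (algebraMap (Away 𝒜 f) (Localization.Away f))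
  exists_res {d e f g x} hf hd hg he hx hxm := by
    subst hx
    have hu : IsUnit (algebraMap A (Localization.Away (f * g)) f) :=
      isUnit_of_dvd_unit (map_dvd _ ⟨g, rfl⟩) (IsLocalization.Away.algebraMap_isUnit (f * g))
    refine ⟨CommRingCat.ofHom (Localization.awayLift (algebraMap A _) f hu), ?_, ?_⟩
    · apply (cancel_mono (Cone.pointed 𝒜).ι).mp
      rw [Category.assoc, Cone.chart, Cone.chart, IsOpenImmersion.lift_fac,
        IsOpenImmersion.lift_fac, ← Spec.map_comp]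
      exact congrArg Spec.map (CommRingCat.hom_ext (IsLocalization.lift_comp _))
    · refine CommRingCat.hom_ext (RingHom.ext fun a ↦ ?_)
      exact HomogeneousLocalization.val_awayMap 𝒜 hg rfl a

variable {B : Type u} [CommRing B] [Algebra R B] (ℬ : ℕ → Submodule R B) [GradedAlgebra ℬ]
  (φ : 𝒜 →+*ᵍ ℬ)

lemma pcone_range_chart {d : ℕ} {f : A} (hf : f ∈ 𝒜 d) (hd : 0 < d) :
    Set.range (PCone.chart φ hf hd) =
      (PCone.dom φ).ι ⁻¹' (Proj.basicOpen ℬ (φ f) : Set (Proj ℬ)) := by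
  rw [← Proj.opensRange_awayι ℬ (φ f) (φ.2 hf) hd]
  ext z
  constructor
  · rintro ⟨w, rfl⟩
    refine ⟨w, ?_⟩
    rw [← Scheme.Hom.comp_apply, PCone.chart, IsOpenImmersion.lift_fac]
  · rintro ⟨w, hw⟩
    refine ⟨w, (PCone.dom φ).ι.isOpenEmbedding.injective ?_⟩
    rw [← hw, ← Scheme.Hom.comp_apply, PCone.chart, IsOpenImmersion.lift_fac]

/-- The chart data of the morphism `G(φ) ⟶ Proj 𝒜`. -/
noncomputable def pconeData : ToProjData 𝒜 (PCone.dom φ : Scheme.{u}) where
  ring f := CommRingCat.of (Away ℬ (φ f))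
  chart hf hd := PCone.chart φ hf hd
  isOpenImmersion {d f} hf hd := by
    have : IsOpenImmersion (PCone.chart φ hf hd ≫ (PCone.dom φ).ι) := by
      rw [PCone.chart, IsOpenImmersion.lift_fac]
      infer_instance
    exact IsOpenImmersion.of_comp _ (PCone.dom φ).ι
  covers z := by
    obtain ⟨⟨f, d, hd, hf⟩, hz⟩ := TopologicalSpace.Opens.mem_iSup.mp z.2
    exact ⟨d, f, hf, hd, (pcone_range_chart 𝒜 ℬ φ hf hd).ge hz⟩
  range_inter hf hd hg he := by
    rw [pcone_range_chart, pcone_range_chart, pcone_range_chart, map_mul, Proj.basicOpen_mul]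
    rfl
  toRing f := CommRingCat.ofHom (Away.map φ f)
  exists_res {d e f g x} hf hd hg he hx hxm := by
    refine ⟨CommRingCat.ofHom (awayMap ℬ (φ.2 hg) (by rw [hx]; exact map_mul φ f g)), ?_, ?_⟩
    · apply (cancel_mono (PCone.dom φ).ι).mp
      rw [Category.assoc, PCone.chart, PCone.chart, IsOpenImmersion.lift_fac,
        IsOpenImmersion.lift_fac, Proj.SpecMap_awayMap_awayι]
    · refine CommRingCat.hom_ext (RingHom.ext fun a ↦ ?_)
      obtain ⟨n, b, hb, rfl⟩ := a.mk_surjective 𝒜 hf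
      apply HomogeneousLocalization.val_injective
      simp [awayMap_mk, Away.map_mk]

lemma pconeData_preimage {d : ℕ} {f : A} (hf : f ∈ 𝒜 d) (hd : 0 < d) :
    (pconeData 𝒜 ℬ φ).map ⁻¹ᵁ Proj.basicOpen 𝒜 f =
      ((pconeData 𝒜 ℬ φ).chart hf hd).opensRange := by
  refine ToProjData.preimage_basicOpen _ (fun {d e f g} hf hd hg he z hz ↦ ?_) hf hd
  refine (pcone_range_chart 𝒜 ℬ φ hf hd).ge ?_
  change (PCone.dom φ).ι (PCone.chart φ hg he z) ∈ Proj.basicOpen ℬ (φ f)
  rw [← Scheme.Hom.comp_apply, PCone.chart, IsOpenImmersion.lift_fac]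
  change z ∈ Proj.awayι ℬ (φ g) (φ.2 hg) he ⁻¹ᵁ Proj.basicOpen ℬ (φ f)
  have : Away.map φ g (Away.isLocalizationElem hg hf) = Away.isLocalizationElem (φ.2 hg) (φ.2 hf) := by
    rw [Away.map_mk]
    simp [map_pow]
  exact (Proj.awayι_preimage_basicOpen ℬ (φ.2 hg) he (φ.2 hf) hd).ge (this ▸ hz)

omit [Algebra R B] in
lemma awayMk_add {B : Type u} [CommRing B] [Algebra R B] (ℬ : ℕ → Submodule R B) [GradedAlgebra ℬ]
    {s : B} {d : ℕ} (hs : s ∈ ℬ d) (n : ℕ) (a : B) (ha : a ∈ ℬ (n • d)) (k : ℕ) :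
    Away.mk ℬ hs n a ha = Away.mk ℬ hs (n + k) (s ^ k * a) (by
      rw [add_smul, add_comm]; exact SetLike.mul_mem_graded (SetLike.pow_mem_graded k hs) ha) := by
  apply HomogeneousLocalization.val_injective
  simp only [Away.val_mk, Localization.mk_eq_mk_iff, Localization.r_iff_exists]
  exact ⟨1, by simp [pow_add]; ring⟩

lemma awayMap_bijective_of_ge {d : ℕ} (hd : 0 < d) {s : A} (hs : s ∈ 𝒜 d) (d₀ : ℕ)
    (h : ∀ n : ℕ, d₀ ≤ n → Set.BijOn φ (𝒜 n : Set A) (ℬ n : Set B)) :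
    Function.Bijective (Away.map φ s) := by
  constructor
  · rw [injective_iff_map_eq_zero]
    intro x hx
    obtain ⟨n, a, ha, rfl⟩ := x.mk_surjective 𝒜 hs
    rw [Away.map_mk, ← (HomogeneousLocalization.val_injective _).eq_iff,
      Away.val_mk, HomogeneousLocalization.val_zero, Localization.mk_eq_mk'] at hx
    obtain ⟨⟨_, m, rfl⟩, hm⟩ := (IsLocalization.mk'_eq_zero_iff _ _).mp hx
    change φ s ^ m * φ a = 0 at hm
    apply HomogeneousLocalization.val_injective
    rw [Away.val_mk, HomogeneousLocalization.val_zero, Localization.mk_eq_mk']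
    refine (IsLocalization.mk'_eq_zero_iff _ _).mpr ⟨⟨s ^ (m + d₀), _, rfl⟩, ?_⟩
    have hmem : s ^ (m + d₀) * a ∈ 𝒜 ((m + d₀) • d + n • d) :=
      SetLike.mul_mem_graded (SetLike.pow_mem_graded _ hs) ha
    have hpos : d₀ ≤ (m + d₀) • d + n • d := by
      have : d₀ ≤ (m + d₀) * d := by nlinarith
      simp only [smul_eq_mul]; omega
    refine (h _ hpos).injOn hmem (zero_mem _) ?_
    rw [map_zero, map_mul, map_pow, pow_add, mul_comm (φ s ^ m), mul_assoc, hm, mul_zero]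
  · intro x
    obtain ⟨n, b, hb, rfl⟩ := x.mk_surjective ℬ (φ.2 hs)
    rw [awayMk_add ℬ (φ.2 hs) n b hb d₀]
    have hmem : φ s ^ d₀ * b ∈ ℬ ((n + d₀) • d) := by
      rw [add_smul, add_comm]
      exact SetLike.mul_mem_graded (SetLike.pow_mem_graded _ (φ.2 hs)) hb
    obtain ⟨a, ha, hab⟩ := (h ((n + d₀) • d) (by
      simp only [smul_eq_mul]; nlinarith)).surjOn hmem
    refine ⟨Away.mk 𝒜 hs (n + d₀) a ha, ?_⟩
    rw [Away.map_mk]
    congr 1

lemma pcone_dom_eq_top (d₀ : ℕ)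
    (h : ∀ n : ℕ, d₀ ≤ n → Set.BijOn φ (𝒜 n : Set A) (ℬ n : Set B)) : PCone.dom φ = ⊤ := by
  refine top_le_iff.mp fun x _ ↦ ?_
  obtain ⟨d, b, hd, hb, hbx⟩ := exists_homogeneous_notMem ℬ (I := x.asHomogeneousIdeal.toIdeal)
    x.not_irrelevant_le
  obtain ⟨a, ha, hab⟩ := (h ((d₀ + 1) • d) (by simp only [smul_eq_mul]; nlinarith)).surjOn
    (SetLike.pow_mem_graded (d₀ + 1) hb)
  exact TopologicalSpace.Opens.mem_iSup.mpr ⟨⟨a, (d₀ + 1) • d,
    by simp only [smul_eq_mul]; positivity, ha⟩,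
    fun hm ↦ hbx (x.isPrime.mem_of_pow_mem (d₀ + 1) (hab ▸ hm))⟩

end Groth.Agent.Proj16
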