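import Groth.Agent.Proj16.DVRFg

/-!
# Valuation rings along specializations
-/

universe u

open CategoryTheory CategoryTheory.Limits AlgebraicGeometry

namespace Groth.Agent.Proj16

variable {X Y : Scheme.{u}} (p : X ⟶ Y)

section Path

variable {p} {x : X} {y' : Y} (hsp : p x ⤳ y')

/-- The map `O_{Y,y'} → κ(x)` given by a specialization `p x ⤳ y'`. -/
noncomputable def specMapResidue : Y.presheaf.stalk y' ⟶ X.residueField x :=
  Y.presheaf.stalkSpecializes hsp ≫ p.stalkMap x ≫ X.residue x

lemma specMapResidue_fromSpecStalk :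
    Spec.map (specMapResidue hsp) ≫ Y.fromSpecStalk y' = X.fromSpecResidueField x ≫ p := by
  rw [Scheme.fromSpecResidueField, Category.assoc, ← Scheme.SpecMap_stalkMap_fromSpecStalk,
    ← Scheme.SpecMap_stalkSpecializes_fromSpecStalk hsp]
  simp_rw [← Spec.map_comp_assoc]
  rfl

lemma exists_maximalIdeal_ne_zero (hne : y' ≠ p x) :
    ∃ a ∈ IsLocalRing.maximalIdeal (Y.presheaf.stalk y'), (specMapResidue hsp).hom a ≠ 0 := by
  by_contra! h
  refine hne ?_
  have : IsLocalHom (specMapResidue hsp).hom := ⟨fun a ha ↦ by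
    by_contra hn
    rw [h a ((IsLocalRing.mem_maximalIdeal a).mpr hn)] at ha
    exact not_isUnit_zero ha⟩
  have e := congrArg (fun k : Spec (X.residueField x) ⟶ Y ↦ k (IsLocalRing.closedPoint _))
    (specMapResidue_fromSpecStalk hsp)
  simp only [Scheme.Hom.comp_base, TopCat.coe_comp, Function.comp_apply] at e
  rw [Scheme.fromSpecResidueField_apply] at e
  rw [← e]
  have hcl : Spec.map (specMapResidue hsp) (IsLocalRing.closedPoint _) = IsLocalRing.closedPoint _ :=
    IsLocalRing.comap_closedPoint (specMapResidue hsp).hom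
  rw [hcl, Scheme.fromSpecStalk_closedPoint]

lemma exists_path (V : ValuationSubring (X.residueField x))
    (hV : ∀ a, (specMapResidue hsp).hom a ∈ V)
    (hloc : IsLocalHom ((specMapResidue hsp).hom.codRestrict V.toSubring hV)) :
    ∃ h : Spec (CommRingCat.of V) ⟶ Y, h (IsLocalRing.closedPoint V) = y' ∧
      Spec.map (CommRingCat.ofHom V.subtype) ≫ h = X.fromSpecResidueField x ≫ p := by
  let g : Y.presheaf.stalk y' ⟶ CommRingCat.of V :=
    CommRingCat.ofHom ((specMapResidue hsp).hom.codRestrict V.toSubring hV)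
  refine ⟨Spec.map g ≫ Y.fromSpecStalk y', ?_, ?_⟩
  · simp only [Scheme.Hom.comp_base, TopCat.coe_comp, Function.comp_apply]
    have hcl : Spec.map g (IsLocalRing.closedPoint V) = IsLocalRing.closedPoint _ :=
      IsLocalRing.comap_closedPoint g.hom
    rw [hcl, Scheme.fromSpecStalk_closedPoint]
  · rw [← Spec.map_comp_assoc, ← specMapResidue_fromSpecStalk hsp]
    rfl

include hsp in
lemma exists_valuationSubring_path (hne : y' ≠ p x) :
    ∃ (A : ValuationSubring (X.residueField x)) (h : Spec (CommRingCat.of A) ⟶ Y), A ≠ ⊤ ∧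
      h (IsLocalRing.closedPoint A) = y' ∧
      Spec.map (CommRingCat.ofHom A.subtype) ≫ h = X.fromSpecResidueField x ≫ p := by
  obtain ⟨V, hV, hloc⟩ := IsLocalRing.exists_factor_valuationRing (specMapResidue hsp).hom
  obtain ⟨a, ha, ha0⟩ := exists_maximalIdeal_ne_zero hsp hne
  obtain ⟨h, h1, h2⟩ := exists_path hsp V hV hloc
  refine ⟨V, h, fun hT ↦ (IsLocalRing.mem_maximalIdeal a).mp ha (hloc.map_nonunit a ?_), h1, h2⟩
  refine IsUnit.of_mul_eq_one ⟨((specMapResidue hsp).hom a)⁻¹, hT ▸ ValuationSubring.mem_top _⟩ ?_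
  exact Subtype.ext (mul_inv_cancel₀ ha0)

include hsp in
lemma essFiniteType_specMapResidue [LocallyOfFiniteType p] :
    (specMapResidue hsp).hom.EssFiniteType := by
  obtain ⟨_, ⟨U, hU, rfl⟩, hy'U, -⟩ :=
    Y.isBasis_affineOpens.exists_subset_of_mem_open (Set.mem_univ y') isOpen_univ
  have hyU : p x ∈ U := hsp.mem_open U.2 hy'U
  refine RingHom.EssFiniteType.of_comp (Y.presheaf.germ U y' hy'U).hom ?_
  rw [← CommRingCat.hom_comp, specMapResidue, TopCat.Presheaf.germ_stalkSpecializes_assoc,
    CommRingCat.hom_comp, CommRingCat.hom_comp]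
  let : Algebra Γ(Y, U) (Y.presheaf.stalk (p x)) := (Y.presheaf.germ U (p x) hyU).hom.toAlgebra
  have : IsLocalization.AtPrime (Y.presheaf.stalk (p x)) (hU.primeIdealOf ⟨p x, hyU⟩).asIdeal :=
    hU.isLocalization_stalk ⟨p x, hyU⟩
  refine RingHom.EssFiniteType.comp ?_ (RingHom.EssFiniteType.comp ?_
    (RingHom.FiniteType.essFiniteType (RingHom.FiniteType.of_surjective _ (X.residue_surjective x))))
  · exact (RingHom.essFiniteType_algebraMap).mpr
      (Algebra.EssFiniteType.of_isLocalization _ (hU.primeIdealOf ⟨p x, hyU⟩).asIdeal.primeCompl)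
  · exact LocallyOfFiniteType.stalkMap p x

include hsp in
lemma exists_dvr_path [IsLocallyNoetherian Y] [LocallyOfFiniteType p] (hne : y' ≠ p x) :
    ∃ (A : ValuationSubring (X.residueField x)) (h : Spec (CommRingCat.of A) ⟶ Y),
      IsDiscreteValuationRing A ∧ h (IsLocalRing.closedPoint A) = y' ∧
      Spec.map (CommRingCat.ofHom A.subtype) ≫ h = X.fromSpecResidueField x ≫ p := by
  let : Algebra (Y.presheaf.stalk y') (X.residueField x) := (specMapResidue hsp).hom.toAlgebra
  have : Algebra.EssFiniteType (Y.presheaf.stalk y') (X.residueField x) :=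
    RingHom.essFiniteType_algebraMap.mp (essFiniteType_specMapResidue hsp)
  obtain ⟨V, hV, hVA, hloc⟩ := exists_dvr_dominating (Y.presheaf.stalk y') (X.residueField x)
    (exists_maximalIdeal_ne_zero hsp hne)
  obtain ⟨h, h1, h2⟩ := exists_path hsp V hVA hloc
  exact ⟨V, h, hV, h1, h2⟩

end Path

/-- Uniqueness in the valuative criterion for discrete valuation rings. -/
def DVRUniqueness : Prop :=
  ∀ (A : Type u) [CommRing A] [IsDomain A] [IsDiscreteValuationRing A]
    (g₁ g₂ : Spec (CommRingCat.of A) ⟶ X), g₁ ≫ p = g₂ ≫ p →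
    Spec.map (CommRingCat.ofHom (algebraMap A (FractionRing A))) ≫ g₁ =
      Spec.map (CommRingCat.ofHom (algebraMap A (FractionRing A))) ≫ g₂ → g₁ = g₂

/-- Existence in the valuative criterion for discrete valuation rings. -/
def DVRExistence : Prop :=
  ∀ (A : Type u) [CommRing A] [IsDomain A] [IsDiscreteValuationRing A]
    (x : Spec (CommRingCat.of (FractionRing A)) ⟶ X) (y : Spec (CommRingCat.of A) ⟶ Y),
    x ≫ p = Spec.map (CommRingCat.ofHom (algebraMap A (FractionRing A))) ≫ y →
    ∃ l : Spec (CommRingCat.of A) ⟶ X, l ≫ p = y ∧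
      Spec.map (CommRingCat.ofHom (algebraMap A (FractionRing A))) ≫ l = x

lemma exists_fractionRing_spec {K : Type u} [Field K] (A : ValuationSubring K) :
    ∃ e : Spec (CommRingCat.of (FractionRing A)) ⟶ Spec (CommRingCat.of K), IsIso e ∧
      e ≫ Spec.map (CommRingCat.ofHom A.subtype) =
        Spec.map (CommRingCat.ofHom (algebraMap A (FractionRing A))) := by
  let e : FractionRing A ≃ₐ[A] K := FractionRing.algEquiv A K
  refine ⟨Spec.map (CommRingCat.ofHom e.symm.toRingEquiv.toRingHom), ?_, ?_⟩
  · have : IsIso (CommRingCat.ofHom e.symm.toRingEquiv.toRingHom) :=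
      e.symm.toRingEquiv.toCommRingCatIso.isIso_hom
    infer_instance
  · rw [← Spec.map_comp]
    exact congrArg Spec.map (CommRingCat.hom_ext e.symm.toAlgHom.comp_algebraMap)

variable {p}

lemma DVRExistence.specializingMap [IsLocallyNoetherian Y] [LocallyOfFiniteType p]
    (H : DVRExistence p) : SpecializingMap p := by
  intro x y' hsp
  rcases eq_or_ne y' (p x) with rfl | hne
  · exact ⟨x, specializes_refl x, rfl⟩
  obtain ⟨A, h, hA, h1, h2⟩ := exists_dvr_path hsp hne
  obtain ⟨e, he, he'⟩ := exists_fractionRing_spec A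
  obtain ⟨l, hl₁, hl₂⟩ := H A (e ≫ X.fromSpecResidueField x) h
    (by rw [Category.assoc, ← h2, ← Category.assoc, he'])
  rw [← he', Category.assoc, cancel_epi] at hl₂
  refine ⟨l (IsLocalRing.closedPoint A), ?_, ?_⟩
  · simp_rw [← Scheme.fromSpecResidueField_apply x (IsLocalRing.closedPoint (X.residueField x)),
      ← hl₂]
    exact (IsLocalRing.specializes_closedPoint _).map l.continuous
  · rw [← Scheme.Hom.comp_apply, hl₁, h1]

lemma DVRExistence.pullback_snd (H : DVRExistence p) {Y' : Scheme.{u}} (g : Y' ⟶ Y) :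
    DVRExistence (pullback.snd p g) := by
  intro A _ _ _ x y w
  obtain ⟨l, hl₁, hl₂⟩ := H A (x ≫ pullback.fst p g) (y ≫ g)
    (by rw [Category.assoc, pullback.condition, reassoc_of% w])
  refine ⟨pullback.lift l y hl₁, pullback.lift_snd _ _ _, ?_⟩
  apply pullback.hom_ext
  · rw [Category.assoc, pullback.lift_fst, hl₂]
  · rw [Category.assoc, pullback.lift_snd, w]

lemma isSeparated_of_dvrUniqueness [IsLocallyNoetherian Y] [LocallyOfFiniteType p]
    (H : DVRUniqueness p) : IsSeparated p := by
  have : IsLocallyNoetherian X := LocallyOfFiniteType.isLocallyNoetherian p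
  have : IsLocallyNoetherian (pullback p p) :=
    LocallyOfFiniteType.isLocallyNoetherian (pullback.fst p p ≫ p)
  let Δ := pullback.diagonal p
  have hsp : SpecializingMap Δ := by
    intro x z hxz
    rcases eq_or_ne z (Δ x) with rfl | hne
    · exact ⟨x, specializes_refl x, rfl⟩
    obtain ⟨A, h, hA, h1, h2⟩ := exists_dvr_path (p := Δ) hxz hne
    obtain ⟨e, he, he'⟩ := exists_fractionRing_spec A
    have heq := H A (h ≫ pullback.fst p p) (h ≫ pullback.snd p p)
      (by rw [Category.assoc, pullback.condition, Category.assoc]) (by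
        rw [← he', Category.assoc, Category.assoc, reassoc_of% h2, reassoc_of% h2]
        simp [Δ])
    have hh : h = (h ≫ pullback.fst p p) ≫ Δ := by
      apply pullback.hom_ext
      · simp [Δ]
      · rw [Category.assoc, pullback.diagonal_snd, Category.comp_id, heq]
    refine ⟨(h ≫ pullback.fst p p) (IsLocalRing.closedPoint A), ?_, ?_⟩
    · have hg : Spec.map (CommRingCat.ofHom A.subtype) ≫ h ≫ pullback.fst p p =
          X.fromSpecResidueField x := by
        rw [reassoc_of% h2]; simp [Δ]
      simp_rw [← Scheme.fromSpecResidueField_apply x (IsLocalRing.closedPoint (X.residueField x)),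
        ← hg]
      exact (IsLocalRing.specializes_closedPoint _).map (h ≫ pullback.fst p p).continuous
    · rw [← Scheme.Hom.comp_apply, ← hh, h1]
  have : QuasiCompact Δ := inferInstance
  have hcl : IsClosedMap Δ := (isClosedMap_iff_specializingMap Δ).mpr hsp
  exact ⟨IsClosedImmersion.of_isPreimmersion _ hcl.isClosed_range⟩

end Groth.Agent.Proj16
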