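import Mathlib
import Groth.Agent.Rat20Lib.DVRDom
import Groth.Agent.KrullAki.Valuation

/-!
# Discrete valuation rings in finitely generated field extensions
-/

universe u

namespace Groth.Agent.Proj16

variable {A L : Type u} [CommRing A] [IsNoetherianRing A] [Field L] [Algebra A L]
  [Algebra.EssFiniteType A L]

/-- In a field essentially of finite type over a Noetherian ring, a valuation ring can be replaced by
a discrete one with the same centre on `A` and containing prescribed elements. -/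
lemma exists_dvr_of_valuationSubring (V₀ : ValuationSubring L) (hA : ∀ a : A, algebraMap A L a ∈ V₀)
    (S : Finset L) (hS : ∀ s ∈ S, s ∈ V₀) (hne : ∃ t ∈ S, t ≠ 0 ∧ t ∈ V₀.nonunits) :
    ∃ V : ValuationSubring L, IsDiscreteValuationRing V ∧
      (∀ a : A, algebraMap A L a ∈ V ∧
        (algebraMap A L a ∈ V.nonunits ↔ algebraMap A L a ∈ V₀.nonunits)) ∧
      ∀ s ∈ S, s ∈ V ∧ (s ∈ V.nonunits ↔ s ∈ V₀.nonunits) := by
  classical
  let G : Finset L := Algebra.EssFiniteType.finset A L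
  let T : Finset L := S ∪ G.image fun g ↦ if g ∈ V₀ then g else g⁻¹
  have hT : ∀ x ∈ T, x ∈ V₀ := by
    intro x hx
    simp only [T, Finset.mem_union, Finset.mem_image] at hx
    rcases hx with hx | ⟨g, -, rfl⟩
    · exact hS x hx
    · split_ifs with h
      · exact h
      · exact (V₀.mem_or_inv_mem g).resolve_left h
  let C : Subalgebra A L := Algebra.adjoin A (T : Set L)
  have : Algebra.FiniteType A C :=
    (Subalgebra.fg_iff_finiteType C).1 (Subalgebra.fg_adjoin_finset _)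
  have : IsNoetherianRing C := Algebra.FiniteType.isNoetherianRing A C
  have hCV : ∀ c ∈ C, c ∈ V₀ := by
    let S' : Subalgebra A L := { V₀.toSubring with algebraMap_mem' := hA }
    exact show C ≤ S' from Algebra.adjoin_le hT
  have hTC : ∀ x ∈ T, x ∈ C := fun x hx ↦ Algebra.subset_adjoin hx
  let P : L → Prop := fun z ↦ ∃ a ∈ C, ∃ b ∈ C, b ≠ 0 ∧ z = a / b
  have hgen : ∀ z, P z := by
    have h1 : ∀ a ∈ C, P a := fun a ha ↦ ⟨a, ha, 1, C.one_mem, one_ne_zero, (div_one a).symm⟩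
    have hsub : ∀ z ∈ Algebra.adjoin A (G : Set L), P z := fun z hz ↦ by
      induction hz using Algebra.adjoin_induction with
      | mem g hg =>
        have hg' : (if g ∈ V₀ then g else g⁻¹) ∈ C := hTC _
          (Finset.mem_union_right _ (Finset.mem_image.mpr ⟨g, hg, rfl⟩))
        split_ifs at hg' with h
        · exact h1 g hg'
        · refine ⟨1, C.one_mem, g⁻¹, hg', ?_, by simp⟩
          exact inv_ne_zero fun h0 ↦ h (h0 ▸ V₀.zero_mem)
      | algebraMap r => exact h1 _ (C.algebraMap_mem r)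
      | add x y _ _ hx hy =>
        obtain ⟨a, ha, b, hb, hb0, rfl⟩ := hx
        obtain ⟨c, hc, d, hd, hd0, rfl⟩ := hy
        exact ⟨a * d + b * c, C.add_mem (C.mul_mem ha hd) (C.mul_mem hb hc), b * d,
          C.mul_mem hb hd, mul_ne_zero hb0 hd0, div_add_div _ _ hb0 hd0⟩
      | mul x y _ _ hx hy =>
        obtain ⟨a, ha, b, hb, hb0, rfl⟩ := hx
        obtain ⟨c, hc, d, hd, hd0, rfl⟩ := hy
        exact ⟨a * c, C.mul_mem ha hc, b * d, C.mul_mem hb hd, mul_ne_zero hb0 hd0,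
          div_mul_div_comm a b c d⟩
    intro z
    obtain ⟨s, hs, hsu, hzs⟩ := (Algebra.essFiniteType_cond_iff A L G).mp
      Algebra.EssFiniteType.cond.choose_spec z
    obtain ⟨a, ha, b, hb, hb0, hxy⟩ := hsub _ hzs
    obtain ⟨c, hc, d, hd, hd0, hs'⟩ := hsub _ hs
    refine ⟨a * d, C.mul_mem ha hd, b * c, C.mul_mem hb hc, ?_, ?_⟩
    · refine mul_ne_zero hb0 fun h ↦ hsu.ne_zero ?_
      rw [hs', h, zero_div]
    · have hs0 : s ≠ 0 := hsu.ne_zero
      rw [← div_div_div_eq, ← hxy, ← hs', mul_div_assoc, div_self hs0, mul_one]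
  have : IsFractionRing C L := IsFractionRing.of_field C L fun z ↦ by
    obtain ⟨a, ha, b, hb, -, rfl⟩ := hgen z
    exact ⟨⟨a, ha⟩, ⟨b, hb⟩, rfl⟩
  obtain ⟨t, htS, ht0, ht⟩ := hne
  obtain ⟨V, hV, hV'⟩ := Rat20Lib.exists_dvr_same_centre (A := C) V₀ (fun c ↦ hCV _ c.2)
    ⟨⟨t, hTC t (Finset.mem_union_left _ htS)⟩, fun h ↦ ht0 (congrArg Subtype.val h), ht⟩
  exact ⟨V, hV, fun a ↦ hV' (algebraMap A C a),
    fun s hs ↦ hV' ⟨s, hTC s (Finset.mem_union_left _ hs)⟩⟩

variable (A L) in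
/-- A Noetherian local ring mapping to a field, essentially of finite type and with non-zero image of
the maximal ideal, is dominated by a discrete valuation ring of that field. -/
lemma exists_dvr_dominating [IsLocalRing A]
    (h : ∃ a ∈ IsLocalRing.maximalIdeal A, algebraMap A L a ≠ 0) :
    ∃ V : ValuationSubring L, IsDiscreteValuationRing V ∧
      ∃ hV : ∀ a : A, algebraMap A L a ∈ V,
        IsLocalHom ((algebraMap A L).codRestrict V.toSubring hV) := by
  obtain ⟨V₀, hV₀, hloc⟩ := IsLocalRing.exists_factor_valuationRing (algebraMap A L)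
  have hc : ∀ a : A, algebraMap A L a ∈ V₀.nonunits ↔ a ∈ IsLocalRing.maximalIdeal A := by
    intro a
    rw [show algebraMap A L a = ((⟨_, hV₀ a⟩ : V₀) : L) from rfl,
      ValuationSubring.coe_mem_nonunits_iff, IsLocalRing.mem_maximalIdeal,
      IsLocalRing.mem_maximalIdeal, mem_nonunits_iff, mem_nonunits_iff, not_iff_not]
    exact ⟨fun h ↦ hloc.map_nonunit a h, fun h ↦ h.map ((algebraMap A L).codRestrict _ hV₀)⟩
  obtain ⟨a, ha, ha0⟩ := h
  obtain ⟨V, hV, hVA, -⟩ := exists_dvr_of_valuationSubring V₀ hV₀ {algebraMap A L a}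
    (by simpa using hV₀ a) ⟨_, Finset.mem_singleton_self _, ha0, (hc a).mpr ha⟩
  refine ⟨V, hV, fun a ↦ (hVA a).1, ⟨fun b hb ↦ ?_⟩⟩
  by_contra hn
  have h1 : algebraMap A L b ∈ V.nonunits :=
    (hVA b).2.mpr ((hc b).mpr ((IsLocalRing.mem_maximalIdeal b).mpr hn))
  rw [show algebraMap A L b = ((⟨_, (hVA b).1⟩ : V) : L) from rfl,
    ValuationSubring.coe_mem_nonunits_iff] at h1
  exact h1 hb

/-- An element not integral over a Noetherian ring lies outside some discrete valuation ring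
containing it. -/
lemma exists_dvr_notMem_of_not_isIntegral {x : L} (hx : ¬ IsIntegral A x) :
    ∃ V : ValuationSubring L, IsDiscreteValuationRing V ∧
      (∀ a : A, algebraMap A L a ∈ V) ∧ x ∉ V := by
  obtain ⟨V₀, hV₀, hxV⟩ : ∃ V₀ : ValuationSubring L,
      (algebraMap A L).range ≤ V₀.toSubring ∧ x ∉ V₀ := by
    by_contra! hall
    obtain ⟨p, hp, hp'⟩ := KrullAki.isIntegral_of_forall_mem hall
    obtain ⟨q, hq, -, hqm⟩ := Polynomial.lifts_and_natDegree_eq_and_monic
      (f := (algebraMap A L).rangeRestrict) (p := p) (by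
        rw [Polynomial.lifts_iff_coeff_lifts]
        exact fun n ↦ (algebraMap A L).rangeRestrict_surjective _) hp
    refine hx ⟨q, hqm, ?_⟩
    rw [← hq, Polynomial.eval₂_map] at hp'
    exact hp'
  have hA : ∀ a : A, algebraMap A L a ∈ V₀ := fun a ↦ hV₀ ⟨a, rfl⟩
  have hx0 : x ≠ 0 := fun h ↦ hxV (h ▸ V₀.zero_mem)
  have hxinv : x⁻¹ ∈ V₀.nonunits := V₀.inv_mem_nonunits_iff.2 (Or.inr hxV)
  obtain ⟨V, hV, hVA, hVS⟩ := exists_dvr_of_valuationSubring V₀ hA {x⁻¹}
    (by simpa using V₀.nonunits_subset hxinv)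
    ⟨_, Finset.mem_singleton_self _, inv_ne_zero hx0, hxinv⟩
  refine ⟨V, hV, fun a ↦ (hVA a).1, fun hxv ↦ ?_⟩
  exact ((V.mem_nonunits_iff_or).1 ((hVS _ (Finset.mem_singleton_self _)).2.mpr hxinv)).resolve_left
    (inv_ne_zero hx0) (by simpa using hxv)

end Groth.Agent.Proj16
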