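import Mathlib

/-!
# Criteria for universally closed morphisms
-/

universe u

open CategoryTheory CategoryTheory.Limits AlgebraicGeometry

namespace Groth.Agent.Proj16

lemma universallyClosed_of_finite_cover {X Y : Scheme.{u}} (f : X ⟶ Y) {ι : Type*} [Finite ι]
    {Xi : ι → Scheme.{u}} (j : ∀ i, Xi i ⟶ X) (hj : ∀ i, UniversallyClosed (j i ≫ f))
    (hcov : ∀ x : X, ∃ i, x ∈ Set.range (j i)) : UniversallyClosed f := by
  refine ⟨fun X' Y' i₁ i₂ f' H Z hZ ↦ ?_⟩
  have hcov' : ∀ z : X', ∃ i, z ∈ Set.range (pullback.fst i₁ (j i)) := fun z ↦ by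
    obtain ⟨i, hi⟩ := hcov (i₁ z)
    exact ⟨i, by rw [Scheme.Pullback.range_fst]; exact hi⟩
  have : f' '' Z = ⋃ i, (pullback.fst i₁ (j i) ≫ f') ''
      ((pullback.fst i₁ (j i)) ⁻¹' Z) := by
    ext y
    simp only [Set.mem_image, Set.mem_iUnion, Set.mem_preimage, Scheme.Hom.comp_apply]
    constructor
    · rintro ⟨z, hz, rfl⟩
      obtain ⟨i, w, hw⟩ := hcov' z
      exact ⟨i, w, hw ▸ hz, by rw [hw]⟩
    · rintro ⟨i, w, hw, rfl⟩
      exact ⟨_, hw, rfl⟩
  rw [this]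
  refine isClosed_iUnion_of_finite fun i ↦ ?_
  exact (hj i).universally_isClosedMap (pullback.snd i₁ (j i)) i₂ _
    ((IsPullback.of_hasPullback i₁ (j i)).paste_horiz H) _
    (hZ.preimage (pullback.fst i₁ (j i)).continuous)

end Groth.Agent.Proj16
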