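import Groth.Agent.Proj16.Map
import Mathlib.AlgebraicGeometry.Morphisms.OpenImmersion

/-!
# `Proj.map` of inverting an element of degree zero
-/

universe u

open SetLike DirectSum AlgebraicGeometry HomogeneousIdeal HomogeneousLocalization CategoryTheory
  CategoryTheory.Limits

namespace Groth.Agent.Proj16

variable {A σ B τ : Type u} [CommRing A] [SetLike σ A] [AddSubgroupClass σ A]
variable [CommRing B] [SetLike τ B] [AddSubgroupClass τ B]
variable {𝒜 : ℕ → σ} [GradedRing 𝒜] {ℬ : ℕ → τ} [GradedRing ℬ]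

/-- `φ` is the homomorphism inverting the degree zero element `c`. -/
structure InvertsZero (φ : 𝒜 →+*ᵍ ℬ) (c : 𝒜 0) : Prop where
  isUnit : IsUnit (φ (c : A))
  surj : ∀ (n : ℕ), ∀ b ∈ ℬ n, ∃ (k : ℕ), ∃ a ∈ 𝒜 n, b * φ (c : A) ^ k = φ a
  exists_of_eq_zero : ∀ a, φ a = 0 → ∃ k : ℕ, (c : A) ^ k * a = 0

lemma InvertsZero.of_isLocalization (φ : 𝒜 →+*ᵍ ℬ) (c : 𝒜 0) [Algebra A B]
    (hφ : ∀ a, algebraMap A B a = φ a) [IsLocalization.Away (c : A) B] : InvertsZero φ c where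
  isUnit := hφ (c : A) ▸ IsLocalization.Away.algebraMap_isUnit (c : A)
  surj n b hb := by
    obtain ⟨⟨x, _, k, rfl⟩, hxk⟩ := IsLocalization.surj (Submonoid.powers (c : A)) b
    refine ⟨k, GradedRing.proj 𝒜 n x, proj_mem 𝒜 n x, ?_⟩
    rw [hφ, hφ, map_pow] at hxk
    rw [proj_map_commutes, ← hxk, proj_of_mem]
    have := SetLike.mul_mem_graded hb (SetLike.pow_mem_graded k (φ.2 c.2))
    rwa [smul_zero, add_zero] at this
  exists_of_eq_zero a ha := by
    obtain ⟨⟨_, k, rfl⟩, hk⟩ := (IsLocalization.map_eq_zero_iff (Submonoid.powers (c : A)) B a).mp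
      ((hφ a).trans ha)
    exact ⟨k, hk⟩

variable {φ : 𝒜 →+*ᵍ ℬ} {c : 𝒜 0} (h : InvertsZero φ c)
include h

lemma InvertsZero.awayMap_isLocalization {s : A} {d : ℕ} (hs : s ∈ 𝒜 d) :
    @IsLocalization.Away (Away 𝒜 s) _ (fromZeroRingHom 𝒜 (Submonoid.powers s) c)
      (Away ℬ (φ s)) _ (Away.map φ s).toAlgebra := by
  algebraize [(Away.map φ s : Away 𝒜 s →+* Away ℬ (φ s))]
  refine ⟨⟨?_, ?_, ?_⟩⟩
  · rintro ⟨_, k, rfl⟩
    simp only [map_pow]
    refine IsUnit.pow k ?_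
    have hf : algebraMap (Away 𝒜 s) (Away ℬ (φ s)) (fromZeroRingHom 𝒜 _ c) =
        fromZeroRingHom ℬ (Submonoid.powers (φ s)) ⟨φ (c : A), φ.2 c.2⟩ := by
      apply HomogeneousLocalization.val_injective
      simp [RingHom.algebraMap_toAlgebra, Away.map, fromZeroRingHom, HomogeneousLocalization.map_mk]
    rw [hf]
    obtain ⟨v, hv⟩ := h.isUnit.exists_right_inv
    have hv0 : φ (c : A) * GradedRing.proj ℬ 0 v = 1 := by
      have := congrArg (GradedRing.projZeroRingHom ℬ) hv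
      rw [map_mul, map_one, GradedRing.projZeroRingHom_apply, GradedRing.projZeroRingHom_apply]
        at this
      erw [DirectSum.decompose_of_mem_same ℬ (φ.2 c.2)] at this
      exact this
    exact (IsUnit.of_mul_eq_one (⟨_, proj_mem ℬ 0 v⟩ : ℬ 0)
      (Subtype.ext hv0 : (⟨φ (c : A), φ.2 c.2⟩ : ℬ 0) * _ = 1)).map _
  · intro z
    obtain ⟨n, b, hb, rfl⟩ := z.mk_surjective ℬ (φ.2 hs)
    obtain ⟨k, a, ha, hab⟩ := h.surj _ b hb
    refine ⟨(Away.mk 𝒜 hs n a ha, ⟨_, k, rfl⟩), ?_⟩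
    rw [map_pow, RingHom.algebraMap_toAlgebra, Away.map_mk]
    apply HomogeneousLocalization.val_injective
    simp only [HomogeneousLocalization.val_mul, HomogeneousLocalization.val_pow, Away.val_mk]
    simp only [Away.map, fromZeroRingHom, RingHom.coe_mk, MonoidHom.coe_mk, OneHom.coe_mk,
      HomogeneousLocalization.map_mk, val_mk, NumDenSameDeg.map, map_one]
    rw [Localization.mk_pow, Localization.mk_mul, Localization.mk_eq_mk_iff,
      Localization.r_iff_exists]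
    exact ⟨1, by simp [← hab]⟩
  · intro x y hxy
    obtain ⟨n, a, ha, hxy'⟩ := (x - y).mk_surjective 𝒜 hs
    have h0 : Away.map φ s (Away.mk 𝒜 hs n a ha) = 0 := by
      rw [hxy', map_sub, ← RingHom.algebraMap_toAlgebra (Away.map φ s), hxy, sub_self]
    rw [Away.map_mk] at h0
    have h1 := congrArg HomogeneousLocalization.val h0
    rw [Away.val_mk, HomogeneousLocalization.val_zero, Localization.mk_eq_mk'] at h1
    obtain ⟨⟨_, m, rfl⟩, hm⟩ := (IsLocalization.mk'_eq_zero_iff _ _).mp h1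
    obtain ⟨k, hk⟩ := h.exists_of_eq_zero (s ^ m * a) (by rw [map_mul, map_pow]; exact hm)
    refine ⟨⟨_, k, rfl⟩, sub_eq_zero.mp ?_⟩
    rw [← mul_sub, ← hxy']
    apply HomogeneousLocalization.val_injective
    simp only [HomogeneousLocalization.val_mul, HomogeneousLocalization.val_pow, Away.val_mk,
      HomogeneousLocalization.val_zero, fromZeroRingHom, RingHom.coe_mk, MonoidHom.coe_mk,
      OneHom.coe_mk, val_mk]
    rw [Localization.mk_pow, Localization.mk_mul, Localization.mk_eq_mk']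
    refine (IsLocalization.mk'_eq_zero_iff _ _).mpr ⟨⟨s ^ m, m, rfl⟩, ?_⟩
    change s ^ m * ((c : A) ^ k * a) = 0
    linear_combination hk

variable (hφ : irrelevant ℬ ≤ (irrelevant 𝒜).map φ)

lemma InvertsZero.isOpenImmersion_map : IsOpenImmersion (Proj.map φ hφ) :=
  map_of_away φ hφ fun _ s _ hs ↦ by
    algebraize [(Away.map φ s : Away 𝒜 s →+* Away ℬ (φ s))]
    have := h.awayMap_isLocalization hs
    exact IsOpenImmersion.of_isLocalization (S := Away ℬ (φ s))
      (fromZeroRingHom 𝒜 (Submonoid.powers s) c)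

lemma InvertsZero.range_map :
    Set.range (Proj.map φ hφ) = (Proj.toSpecZero 𝒜) ⁻¹' (PrimeSpectrum.basicOpen c).carrier := by
  ext x
  obtain ⟨d, s, hd, hs, hxs, -⟩ := exists_basicOpen_subset isOpen_univ (Set.mem_univ x)
  obtain ⟨z, rfl⟩ : x ∈ (Proj.awayι 𝒜 s hs hd).opensRange := by
    rwa [Proj.opensRange_awayι]
  algebraize [(Away.map φ s : Away 𝒜 s →+* Away ℬ (φ s))]
  have := h.awayMap_isLocalization hs
  have hz : z ∈ Set.range (Spec.map (CommRingCat.ofHom (Away.map φ s))) ↔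
      z ∈ PrimeSpectrum.basicOpen (fromZeroRingHom 𝒜 (Submonoid.powers s) c) :=
    (Set.ext_iff.mp (PrimeSpectrum.localization_away_comap_range (Away ℬ (φ s))
      (fromZeroRingHom 𝒜 (Submonoid.powers s) c)) z :)
  rw [Set.mem_preimage, ← Scheme.Hom.comp_apply, Proj.awayι_toSpecZero]
  refine Iff.trans ?_ hz
  constructor
  · rintro ⟨y, hy⟩
    have hy' : y ∈ (Proj.awayι ℬ (φ s) (φ.2 hs) hd).opensRange := by
      rw [Proj.opensRange_awayι]
      change Proj.map φ hφ y ∈ Proj.basicOpen 𝒜 s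
      rwa [hy]
    obtain ⟨w, rfl⟩ := hy'
    refine ⟨w, (Proj.awayι 𝒜 s hs hd).isOpenEmbedding.injective ?_⟩
    rw [← hy, ← Scheme.Hom.comp_apply, ← Scheme.Hom.comp_apply, Proj.awayι_comp_map φ hφ hd s hs]
  · rintro ⟨w, rfl⟩
    exact ⟨Proj.awayι ℬ (φ s) (φ.2 hs) hd w, by
      rw [← Scheme.Hom.comp_apply, ← Scheme.Hom.comp_apply, Proj.awayι_comp_map]⟩

end Groth.Agent.Proj16
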