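import Groth.Agent.Proj16.RelBasic
import Groth.Agent.Proj16.AwayZero
import Mathlib.AlgebraicGeometry.RelativeGluing
import Mathlib.AlgebraicGeometry.Sites.SmallAffineZariski

/-!
# Existence of the relative `Proj`
-/

universe u

open CategoryTheory CategoryTheory.Limits AlgebraicGeometry TopologicalSpace Opposite
open scoped HomogeneousIdeal

noncomputable section

namespace Groth.Agent.Proj16

variable {Y : Scheme.{u}} (𝒮 : RelProj.QCGrAlg Y)

lemma proj_map_congr {A σ B τ : Type u} [CommRing A] [SetLike σ A] [AddSubgroupClass σ A]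
    [CommRing B] [SetLike τ B] [AddSubgroupClass τ B] {𝒜 : ℕ → σ} [GradedRing 𝒜] {ℬ : ℕ → τ}
    [GradedRing ℬ] {f g : 𝒜 →+*ᵍ ℬ} (e : f = g) (hf) (hg) : Proj.map f hf = Proj.map g hg := by
  subst e; rfl

lemma res_invertsZero (U : Y.Opens) (hU : IsAffineOpen U) (r : Γ(Y, U)) :
    InvertsZero (𝒮.res hU (hU.basicOpen r) (Y.basicOpen_le r)) ((𝒮.strZero U hU).hom r) := by
  algebraize [(𝒮.presheaf.map (homOfLE (Y.basicOpen_le r)).op).hom]
  have : IsLocalization.Away (((𝒮.strZero U hU).hom r : 𝒮.deg U hU 0) : 𝒮.presheaf.obj (op U))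
      (𝒮.presheaf.obj (op (Y.basicOpen r))) := 𝒮.isQC U hU r
  exact InvertsZero.of_isLocalization _ _ (fun _ ↦ rfl)

lemma isOpenImmersion_map_res (U : Y.Opens) (hU : IsAffineOpen U) (r : Γ(Y, U)) :
    IsOpenImmersion (Proj.map (𝒮.res hU (hU.basicOpen r) (Y.basicOpen_le r))
      (𝒮.irrelevant_le_map U hU r)) :=
  (res_invertsZero 𝒮 U hU r).isOpenImmersion_map _

/-- `Proj 𝒮(U) ⟶ U`. -/
def toOpen (U : Y.Opens) (hU : IsAffineOpen U) : Proj (𝒮.deg U hU) ⟶ (U : Scheme.{u}) :=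
  Proj.toSpecZero (𝒮.deg U hU) ≫ Spec.map (𝒮.strZero U hU) ≫ hU.isoSpec.inv

@[reassoc]
lemma toOpen_ι (U : Y.Opens) (hU : IsAffineOpen U) :
    toOpen 𝒮 U hU ≫ U.ι =
      Proj.toSpecZero (𝒮.deg U hU) ≫ Spec.map (𝒮.strZero U hU) ≫ hU.fromSpec := by
  simp [toOpen]

lemma range_map_res (U : Y.Opens) (hU : IsAffineOpen U) (r : Γ(Y, U)) :
    Set.range (Proj.map (𝒮.res hU (hU.basicOpen r) (Y.basicOpen_le r))
      (𝒮.irrelevant_le_map U hU r)) = (toOpen 𝒮 U hU ≫ U.ι) ⁻¹' (Y.basicOpen r).carrier := by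
  rw [(res_invertsZero 𝒮 U hU r).range_map, toOpen_ι, Scheme.Hom.comp_base, TopCat.coe_comp,
    Set.preimage_comp, Scheme.Hom.comp_base, TopCat.coe_comp, Set.preimage_comp]
  congr 1
  change _ = (Spec.map (𝒮.strZero U hU)) ⁻¹' (hU.fromSpec ⁻¹ᵁ Y.basicOpen r : (Spec Γ(Y, U)).Opens)
  rw [hU.fromSpec_preimage_basicOpen]
  rfl

lemma irrelevant_le_res {U V : Y.Opens} (hU : IsAffineOpen U) (hV : IsAffineOpen V) (i : V ≤ U)
    (h : ∃ r : Γ(Y, U), Y.basicOpen r = V) :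
    (𝒮.deg V hV)₊ ≤ ((𝒮.deg U hU)₊).map (𝒮.res hU hV i) := by
  obtain ⟨r, rfl⟩ := h
  exact 𝒮.irrelevant_le_map U hU r

variable {Z : Y.AffineZariskiSite}

/-- The functor `U ↦ Proj 𝒮(U)`. -/
def projFunctor : Y.AffineZariskiSite ⥤ Scheme.{u} where
  obj U := Proj (𝒮.deg U.1 U.2)
  map {U V} i := Proj.map (𝒮.res V.2 U.2 (Scheme.AffineZariskiSite.toOpens_mono i.le))
    (irrelevant_le_res 𝒮 _ _ _ i.le)
  map_id U := by
    refine (proj_map_congr (g := GradedRingHom.id (𝒮.deg U.1 U.2)) ?_ _ (by simp)).trans Proj.map_id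
    ext x
    change (𝒮.presheaf.map (𝟙 (op U.1))).hom x = x
    simp
  map_comp {U V W} i j := by
    refine (proj_map_congr ?_ _ (HomogeneousIdeal.irrelevant_le_map_comp (irrelevant_le_res 𝒮 W.2 V.2 _ j.le)
      (irrelevant_le_res 𝒮 V.2 U.2 _ i.le))).trans (Proj.map_comp _ (hf := irrelevant_le_res 𝒮 _ _ _ j.le)
        _ (hg := irrelevant_le_res 𝒮 _ _ _ i.le))
    ext x
    exact ConcreteCategory.congr_hom (𝒮.presheaf.map_comp
      (homOfLE (Scheme.AffineZariskiSite.toOpens_mono j.le)).op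
      (homOfLE (Scheme.AffineZariskiSite.toOpens_mono i.le)).op) x

lemma map_res_toSpecZero {U V : Y.Opens} (hU : IsAffineOpen U) (hV : IsAffineOpen V) (i : V ≤ U)
    (hi : (𝒮.deg V hV)₊ ≤ ((𝒮.deg U hU)₊).map (𝒮.res hU hV i)) :
    Proj.map (𝒮.res hU hV i) hi ≫ toOpen 𝒮 U hU = toOpen 𝒮 V hV ≫ Y.homOfLE i := by
  rw [← cancel_mono U.ι, Category.assoc, Category.assoc, Scheme.homOfLE_ι, toOpen_ι, toOpen_ι]
  refine (Proj.mapAffineOpenCover _ hi).openCover.hom_ext _ _ ?_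
  suffices h : ∀ (d : ℕ) (hd : 0 < d) (a : 𝒮.presheaf.obj (op U)) (ha : a ∈ 𝒮.deg U hU d),
      Proj.awayι (𝒮.deg V hV) (𝒮.res hU hV i a) ((𝒮.res hU hV i).2 ha) hd ≫
        Proj.map (𝒮.res hU hV i) hi ≫
          Proj.toSpecZero (𝒮.deg U hU) ≫ Spec.map (𝒮.strZero U hU) ≫ hU.fromSpec =
      Proj.awayι (𝒮.deg V hV) (𝒮.res hU hV i a) ((𝒮.res hU hV i).2 ha) hd ≫
        Proj.toSpecZero (𝒮.deg V hV) ≫ Spec.map (𝒮.strZero V hV) ≫ hV.fromSpec from
    fun s ↦ h s.1 s.1.2 s.2 s.2.2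
  intro d hd a ha
  rw [Proj.awayι_comp_map_assoc _ _ hd a ha, Proj.awayι_toSpecZero_assoc,
    Proj.awayι_toSpecZero_assoc, ← hU.map_fromSpec hV (homOfLE i).op, ← Spec.map_comp_assoc,
    ← Spec.map_comp_assoc, ← Spec.map_comp_assoc, ← Spec.map_comp_assoc]
  congr 2
  ext r
  simp only [CommRingCat.hom_comp, CommRingCat.hom_ofHom, RingHom.comp_apply,
    HomogeneousLocalization.Away.map, HomogeneousLocalization.fromZeroRingHom, RingHom.coe_mk,
    MonoidHom.coe_mk, OneHom.coe_mk, HomogeneousLocalization.map_mk, HomogeneousLocalization.val_mk]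
  refine congr_arg₂ Localization.mk ?_ (Subtype.ext (map_one _))
  exact ConcreteCategory.congr_hom (𝒮.str.naturality (homOfLE i).op).symm r

/-- The gluing data of the relative `Proj`. -/
def projGlueData : (Scheme.AffineZariskiSite.directedCover Y).RelativeGluingData where
  functor := projFunctor 𝒮
  natTrans :=
    { app := fun U ↦ toOpen 𝒮 U.1 U.2
      naturality := fun U V i ↦ map_res_toSpecZero 𝒮 V.2 U.2 _ _ }
  equifibered := fun {U V} i ↦ by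
    obtain ⟨r, hr⟩ := i.le
    obtain rfl : U = V.basicOpen r := Subtype.ext hr.symm
    have := isOpenImmersion_map_res 𝒮 V.1 V.2 r
    refine (IsOpenImmersion.isPullback _ _ _ _
      (map_res_toSpecZero 𝒮 V.2 (V.2.basicOpen r) (Y.basicOpen_le r)
        (𝒮.irrelevant_le_map V.1 V.2 r)) ?_).flip
    ext1
    rw [Scheme.Hom.coe_preimage, Scheme.Hom.coe_opensRange, Scheme.Hom.coe_opensRange,
      range_map_res, Scheme.Hom.comp_base, TopCat.coe_comp, Set.preimage_comp]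
    congr 1
    ext y
    constructor
    · rintro ⟨w, rfl⟩
      change (Y.homOfLE _ w).1 ∈ Y.basicOpen r
      rw [Scheme.homOfLE_apply]
      exact w.2
    · exact fun hy ↦ ⟨⟨y.1, hy⟩, Subtype.ext (Scheme.homOfLE_apply _ _)⟩

theorem exists_isRelProj : ∃ (P : Scheme.{u}) (p : P ⟶ Y)
    (chart : ∀ (U : Y.Opens) (hU : IsAffineOpen U),
      (((p ⁻¹ᵁ U : P.Opens) : Scheme.{u}) ≅ Proj (𝒮.deg U hU))),
    RelProj.IsRelProj 𝒮 p chart := by
  let D := projGlueData 𝒮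
  have : (D.functor ⋙ Scheme.forget).IsLocallyDirected :=
    Scheme.Cover.RelativeGluingData.instIsLocallyDirectedI₀CompFunctorForgetOfIsThin ..
  let ι' : ∀ (U : Y.Opens) (hU : IsAffineOpen U), Proj (𝒮.deg U hU) ⟶ D.glued :=
    fun U hU ↦ colimit.ι D.functor ⟨U, hU⟩
  have hopen : ∀ U hU, IsOpenImmersion (ι' U hU) := fun U hU ↦ D.cover.map_prop ⟨U, hU⟩
  have hrange : ∀ U hU, (ι' U hU).opensRange = D.toBase ⁻¹ᵁ U := fun U hU ↦ by
    simpa using! (D.toBase_preimage_eq_opensRange_ι ⟨U, hU⟩).symm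
  have hι : ∀ U hU, ι' U hU ≫ D.toBase = toOpen 𝒮 U hU ≫ U.ι :=
    fun U hU ↦ D.ι_toBase ⟨U, hU⟩
  let e : ∀ (U : Y.Opens) (hU : IsAffineOpen U),
      (((D.toBase ⁻¹ᵁ U : D.glued.Opens) : Scheme.{u}) ≅ Proj (𝒮.deg U hU)) := fun U hU ↦
    have := hopen U hU
    IsOpenImmersion.isoOfRangeEq (D.toBase ⁻¹ᵁ U).ι (ι' U hU)
      (by rw [Scheme.Opens.range_ι, ← Scheme.Hom.coe_opensRange, hrange])
  have he : ∀ U hU, (e U hU).hom ≫ ι' U hU = (D.toBase ⁻¹ᵁ U).ι := fun U hU ↦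
    have := hopen U hU
    IsOpenImmersion.isoOfRangeEq_hom_fac _ _ _
  refine ⟨D.glued, D.toBase, e, ⟨fun U hU ↦ ?_, fun U hU r ↦ ?_⟩⟩
  · rw [← toOpen_ι 𝒮 U hU, ← hι U hU, reassoc_of% (he U hU)]
  · have := hopen U hU
    have hw : Proj.map (𝒮.res hU (hU.basicOpen r) (Y.basicOpen_le r))
        (𝒮.irrelevant_le_map U hU r) ≫ ι' U hU = ι' _ (hU.basicOpen r) :=
      colimit.w D.functor (homOfLE (Scheme.AffineZariskiSite.basicOpen_le ⟨U, hU⟩ r))
    rw [← cancel_mono (ι' U hU), Category.assoc, Category.assoc, he, hw, he, Scheme.homOfLE_ι]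

end Groth.Agent.Proj16
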