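import Groth.Agent.Proj16.RelIntegral

/-!
# Integral relative `Proj`
-/

universe u

open CategoryTheory CategoryTheory.Limits AlgebraicGeometry TopologicalSpace Opposite
open scoped HomogeneousIdeal

noncomputable section

namespace Groth.Agent.Proj16

lemma isIntegral_proj_of_isDomain {A σ : Type u} [CommRing A] [SetLike σ A] [AddSubgroupClass σ A]
    (𝒜 : ℕ → σ) [GradedRing 𝒜] [IsDomain A] (h : (HomogeneousIdeal.irrelevant 𝒜).toIdeal ≠ ⊥) :
    IsIntegral (Proj 𝒜) := by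
  refine (isIntegral_proj_iff 𝒜 fun f _ hf ↦ hf.eq_zero).mpr ⟨?_, fun f _ g _ h ↦ mul_eq_zero.mp h⟩
  exact Submodule.exists_mem_ne_zero_of_ne_bot h

variable {Y P : Scheme.{u}} [IsIntegral Y] {𝒮 : RelProj.QCGrAlg Y} {p : P ⟶ Y}
  {chart : ∀ (U : Y.Opens) (hU : IsAffineOpen U),
    (((p ⁻¹ᵁ U : P.Opens) : Scheme.{u}) ≅ Proj (𝒮.deg U hU))}

lemma isIntegral_relProj
    (hint : ∀ (U : Y.Opens) (hU : IsAffineOpen U), (U : Set Y).Nonempty →
      IsDomain (𝒮.presheaf.obj (op U)) ∧ ((𝒮.deg U hU)₊).toIdeal ≠ ⊥)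
    (chart : ∀ (U : Y.Opens) (hU : IsAffineOpen U),
      (((p ⁻¹ᵁ U : P.Opens) : Scheme.{u}) ≅ Proj (𝒮.deg U hU))) :
    IsIntegral P ∧ DenseRange p := by
  have hI : ∀ (U : Y.Opens) (hU : IsAffineOpen U), (U : Set Y).Nonempty →
      IsIntegral (Proj (𝒮.deg U hU)) := fun U hU hne ↦ by
    have := (hint U hU hne).1
    exact isIntegral_proj_of_isDomain _ (hint U hU hne).2
  have hpt : ∀ (U : Y.Opens), IsAffineOpen U → (U : Set Y).Nonempty →
      ((p ⁻¹ᵁ U : P.Opens) : Set P).Nonempty := fun U hU hne ↦ by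
    have := hI U hU hne
    obtain ⟨z⟩ := (inferInstance : Nonempty (Proj (𝒮.deg U hU)))
    exact ⟨((chart U hU).inv z).1, ((chart U hU).inv z).2⟩
  have hirr : ∀ (U : Y.Opens), IsAffineOpen U →
      IsPreirreducible ((p ⁻¹ᵁ U : P.Opens) : Set P) := fun U hU ↦ by
    rcases (U : Set Y).eq_empty_or_nonempty with he | hne
    · rw [Scheme.Hom.coe_preimage, he, Set.preimage_empty]
      exact isPreirreducible_empty
    · have := hI U hU hne
      have := IsIntegral.of_isIso (chart U hU).inv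
      rw [← Scheme.Opens.range_ι, ← Set.image_univ]
      exact (IrreducibleSpace.isIrreducible_univ _).isPreirreducible.image _
        (p ⁻¹ᵁ U).ι.continuous.continuousOn
  refine ⟨?_, ?_⟩
  · have : AlgebraicGeometry.IsReduced P := by
      have : ∀ U, AlgebraicGeometry.IsReduced ((preimageCover p).X U) := fun U ↦ by
        change AlgebraicGeometry.IsReduced (p ⁻¹ᵁ U.1).toScheme
        rcases (U.1 : Set Y).eq_empty_or_nonempty with he | hne
        · have : IsEmpty ((p ⁻¹ᵁ U.1).toScheme) := ⟨fun x ↦ by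
            have := x.2
            change p x.1 ∈ (U.1 : Set Y) at this
            simp [he] at this⟩
          have : ∀ z : (p ⁻¹ᵁ U.1).toScheme, _root_.IsReduced ((p ⁻¹ᵁ U.1).toScheme.presheaf.stalk z) :=
            fun z ↦ isEmptyElim z
          exact isReduced_of_isReduced_stalk _
        · have := hI U.1 U.2 hne
          exact isReduced_of_isOpenImmersion (chart U.1 U.2).hom
      exact IsReduced.of_openCover (X := P) (preimageCover p)
    have hne : Nonempty P := by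
      obtain ⟨y⟩ := (inferInstance : Nonempty Y)
      obtain ⟨U, hU⟩ := Opens.mem_iSup.mp ((iSup_affineOpens_eq_top Y).ge (Set.mem_univ y))
      exact ⟨(hpt U.1 U.2 ⟨y, hU⟩).choose⟩
    have : PreirreducibleSpace P := ⟨by
      rintro A B hA hB ⟨a, -, ha⟩ ⟨b, -, hb⟩
      obtain ⟨U, haU⟩ := Opens.mem_iSup.mp ((iSup_affineOpens_eq_top Y).ge (Set.mem_univ (p a)))
      obtain ⟨V, hbV⟩ := Opens.mem_iSup.mp ((iSup_affineOpens_eq_top Y).ge (Set.mem_univ (p b)))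
      obtain ⟨y, hy⟩ := nonempty_preirreducible_inter U.1.2 V.1.2 ⟨p a, haU⟩ ⟨p b, hbV⟩
      obtain ⟨r, -, -, hyr⟩ := exists_basicOpen_le_affine_inter U.2 V.2 y hy
      obtain ⟨c, hcU, hcV⟩ : ∃ c, p c ∈ U.1 ∧ p c ∈ V.1 := by
        obtain ⟨r, s, e, hyr⟩ := exists_basicOpen_le_affine_inter U.2 V.2 y hy
        obtain ⟨c, hc⟩ := hpt _ (U.2.basicOpen r) ⟨y, hyr⟩
        exact ⟨c, Y.basicOpen_le r hc, Y.basicOpen_le s (e ▸ hc)⟩
      obtain ⟨w, hw, hwA, hwV⟩ := hirr U.1 U.2 A _ hA (p ⁻¹ᵁ V.1).2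
        ⟨a, haU, ha⟩ ⟨c, hcU, hcV⟩
      obtain ⟨v, -, hvB, hvA⟩ := hirr V.1 V.2 B A hB hA ⟨b, hbV, hb⟩ ⟨w, hwV, hwA⟩
      exact ⟨v, trivial, hvA, hvB⟩⟩
    have : IrreducibleSpace P := ⟨hne⟩
    exact isIntegral_of_irreducibleSpace_of_isReduced _
  · rw [DenseRange, dense_iff_inter_open]
    intro W hW ⟨y, hy⟩
    obtain ⟨_, ⟨U, hU, rfl⟩, hyU, hUW⟩ :=
      Y.isBasis_affineOpens.exists_subset_of_mem_open hy hW
    obtain ⟨x, hx⟩ := hpt U hU ⟨y, hyU⟩
    exact ⟨p x, hUW hx, x, rfl⟩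

lemma isDomain_of_isIntegral_relProj (hP : RelProj.IsRelProj 𝒮 p chart)
    (h0 : ∀ (U : Y.Opens) (hU : IsAffineOpen U), Function.Bijective (𝒮.strZero U hU).hom)
    (hred : ∀ (U : Y.Opens) (hU : IsAffineOpen U) (x : 𝒮.presheaf.obj (op U)),
      x ∈ (𝒮.deg U hU)₊ → IsNilpotent x → x = 0)
    [IsIntegral P] (hdom : DenseRange p) (U : Y.Opens) (hU : IsAffineOpen U)
    (hne : (U : Set Y).Nonempty) :
    IsDomain (𝒮.presheaf.obj (op U)) ∧ ((𝒮.deg U hU)₊).toIdeal ≠ ⊥ := by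
  obtain ⟨x, hxU⟩ := hdom.exists_mem_open U.2 hne
  have : Nonempty ((p ⁻¹ᵁ U).toScheme) := ⟨⟨x, hxU⟩⟩
  have : IsIntegral ((p ⁻¹ᵁ U).toScheme) := isIntegral_of_isOpenImmersion (p ⁻¹ᵁ U).ι
  have : IsIntegral (Proj (𝒮.deg U hU)) := IsIntegral.of_isIso (chart U hU).hom
  obtain ⟨⟨g, hg, hg0⟩, hprime⟩ := (isIntegral_proj_iff _ (hred U hU)).mp this
  have hne' : ((𝒮.deg U hU)₊).toIdeal ≠ ⊥ := fun h ↦ hg0 (by rw [h] at hg; exact hg)
  refine ⟨?_, hne'⟩
  have hA0 : ∀ a ∈ 𝒮.deg U hU 0, a * g = 0 → a = 0 := by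
    intro a ha hag
    have hall : ∀ f ∈ ((𝒮.deg U hU)₊).toIdeal, a * f = 0 := fun f hf ↦
      (hprime (a * f) (Ideal.mul_mem_left _ _ hf) g hg
        (by rw [mul_right_comm, hag, zero_mul])).resolve_right hg0
    obtain ⟨r, hr⟩ := (h0 U hU).2 ⟨a, ha⟩
    by_contra hane
    have hr0 : r ≠ 0 := fun h ↦ hane (by
      rw [h, map_zero] at hr; exact (congrArg Subtype.val hr).symm)
    have hner : (Y.basicOpen r : Set Y).Nonempty := by
      rw [Set.nonempty_iff_ne_empty]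
      intro he
      exact hr0 ((basicOpen_eq_bot_iff r).mp (SetLike.coe_injective (by simpa using he)))
    obtain ⟨y, hyr⟩ := hdom.exists_mem_open (Y.basicOpen r).2 hner
    let z := (chart U hU).hom ⟨y, Y.basicOpen_le r hyr⟩
    have hmem : a ∈ z.asHomogeneousIdeal := by
      obtain ⟨t, ht, htz⟩ := SetLike.not_le_iff_exists.mp z.not_irrelevant_le
      exact (z.isPrime.mem_or_mem (show a * t ∈ z.asHomogeneousIdeal.toIdeal by
        rw [hall t ht]; exact zero_mem _)).resolve_right htz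
    have heq : (toOpen 𝒮 U hU ≫ U.ι) z = p y := by
      rw [toOpen_ι, ← Scheme.Hom.comp_apply, hP.chart_over U hU]
      rfl
    have hz : z ∈ (toOpen 𝒮 U hU ≫ U.ι) ⁻¹' (Y.basicOpen r).carrier := by
      rw [Set.mem_preimage, heq]; exact hyr
    rw [← range_map_res] at hz
    obtain ⟨w, hw⟩ := hz
    have hwmem : 𝒮.res hU (hU.basicOpen r) (Y.basicOpen_le r) a ∈ w.asHomogeneousIdeal.toIdeal := by
      rw [← hw] at hmem; exact hmem
    have hu := (res_invertsZero 𝒮 U hU r).isUnit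
    rw [hr] at hu
    exact w.isPrime.ne_top (Ideal.eq_top_of_isUnit_mem _ hwmem hu)
  have hnt : Nontrivial (𝒮.presheaf.obj (op U)) := ⟨⟨g, 0, hg0⟩⟩
  have hbot : (⊥ : Ideal (𝒮.presheaf.obj (op U))).IsPrime := by
    refine (Ideal.IsHomogeneous.bot (𝒮.deg U hU)).isPrime_of_homogeneous_mem_or_mem
      bot_ne_top ?_
    rintro a b ⟨i, ha⟩ ⟨j, hb⟩ hab
    simp only [Ideal.mem_bot] at hab ⊢
    have hpos : ∀ {k} {c : 𝒮.presheaf.obj (op U)}, 0 < k → c ∈ 𝒮.deg U hU k →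
        c ∈ ((𝒮.deg U hU)₊).toIdeal := fun hk hc ↦ HomogeneousIdeal.mem_irrelevant_of_mem _ hk hc
    rcases eq_or_ne a 0 with h | ha0
    · exact Or.inl h
    refine Or.inr ?_
    have hag : a * g ≠ 0 := fun h ↦ by
      rcases i.eq_zero_or_pos with rfl | hi
      · exact ha0 (hA0 a ha h)
      · exact ((hprime a (hpos hi ha) g hg h).resolve_right hg0 |> ha0)
    have hbg : b * g = 0 := (hprime (a * g) (Ideal.mul_mem_left _ _ hg) (b * g)
      (Ideal.mul_mem_left _ _ hg) (by rw [mul_mul_mul_comm, hab, zero_mul])).resolve_left hag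
    rcases j.eq_zero_or_pos with rfl | hj
    · exact hA0 b hb hbg
    · exact (hprime b (hpos hj hb) g hg hbg).resolve_right hg0
  have : NoZeroDivisors (𝒮.presheaf.obj (op U)) :=
    ⟨fun {a b} h ↦ by simpa using hbot.mem_or_mem (show a * b ∈ (⊥ : Ideal _) by simpa using h)⟩
  exact NoZeroDivisors.to_isDomain _

end Groth.Agent.Proj16
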