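import Groth.Agent.Proj16.DVRPath

/-!
# Centres of valuation rings of the function field and properness
-/

universe u

open CategoryTheory CategoryTheory.Limits AlgebraicGeometry IsLocalRing

namespace Groth.Agent.Proj16

variable {X : Scheme.{u}}

lemma specMap_isDominant {A B : CommRingCat.{u}} (g : A ⟶ B) (hg : Function.Injective g.hom) :
    IsDominant (Spec.map g) := by
  refine ⟨(PrimeSpectrum.denseRange_comap_iff_ker_le_nilRadical (f := g.hom)).mpr ?_⟩
  rw [(RingHom.injective_iff_ker_eq_bot _).mp hg]
  exact bot_le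

/-- A morphism from the spectrum of a valuation subring `V` of a field `L`, given by a point and a
map from its local ring to `L` with values in `V`. -/
noncomputable def valMap {L : Type u} [Field L] (V : ValuationSubring L) {x : X}
    (φ : X.presheaf.stalk x ⟶ CommRingCat.of L) (hφ : ∀ a, φ.hom a ∈ V) :
    Spec (CommRingCat.of V) ⟶ X :=
  Spec.map (CommRingCat.ofHom (φ.hom.codRestrict V.toSubring hφ)) ≫ X.fromSpecStalk x

lemma valMap_generic {L : Type u} [Field L] (V : ValuationSubring L) {x : X}
    (φ : X.presheaf.stalk x ⟶ CommRingCat.of L) (hφ : ∀ a, φ.hom a ∈ V) :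
    Spec.map (CommRingCat.ofHom V.subtype) ≫ valMap V φ hφ = Spec.map φ ≫ X.fromSpecStalk x := by
  rw [valMap, ← Spec.map_comp_assoc]
  rfl

lemma valMap_closedPoint {L : Type u} [Field L] (V : ValuationSubring L) {x : X}
    (φ : X.presheaf.stalk x ⟶ CommRingCat.of L) (hφ : ∀ a, φ.hom a ∈ V)
    (hloc : ∀ a ∈ maximalIdeal (X.presheaf.stalk x), φ.hom a ∈ V.nonunits) :
    valMap V φ hφ (closedPoint V) = x := by
  let g : X.presheaf.stalk x ⟶ CommRingCat.of V :=
    CommRingCat.ofHom (φ.hom.codRestrict V.toSubring hφ)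
  have : IsLocalHom g.hom := ⟨fun a ha ↦ by
    by_contra hn
    have := hloc a ((mem_maximalIdeal a).mpr hn)
    rw [show φ.hom a = ((⟨_, hφ a⟩ : V) : L) from rfl, ValuationSubring.coe_mem_nonunits_iff] at this
    exact this ha⟩
  have hcl : Spec.map g (closedPoint V) = closedPoint _ := comap_closedPoint g.hom
  change (Spec.map g ≫ X.fromSpecStalk x) (closedPoint V) = x
  simp only [Scheme.Hom.comp_base, TopCat.coe_comp, Function.comp_apply]
  rw [hcl, Scheme.fromSpecStalk_closedPoint]

/-- In a separated scheme, a valuation ring dominates at most one point. -/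
lemma eq_of_dominated [X.IsSeparated] {L : Type u} [Field L] (V : ValuationSubring L) {x x' : X}
    (φ : X.presheaf.stalk x ⟶ CommRingCat.of L) (φ' : X.presheaf.stalk x' ⟶ CommRingCat.of L)
    (e : Spec.map φ ≫ X.fromSpecStalk x = Spec.map φ' ≫ X.fromSpecStalk x')
    (hφ : ∀ a, φ.hom a ∈ V) (hφ' : ∀ a, φ'.hom a ∈ V)
    (hloc : ∀ a ∈ maximalIdeal (X.presheaf.stalk x), φ.hom a ∈ V.nonunits)
    (hloc' : ∀ a ∈ maximalIdeal (X.presheaf.stalk x'), φ'.hom a ∈ V.nonunits) : x = x' := by
  have := specMap_isDominant (CommRingCat.ofHom V.subtype) Subtype.coe_injective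
  have h : valMap V φ hφ = valMap V φ' hφ' :=
    ext_of_isDominant (Spec.map (CommRingCat.ofHom V.subtype))
      ((valMap_generic V φ hφ).trans (e.trans (valMap_generic V φ' hφ').symm))
  rw [← valMap_closedPoint V φ hφ hloc, h, valMap_closedPoint V φ' hφ' hloc']

variable [IsIntegral X]

/-- `x` is a centre of the valuation subring `R` of the function field. -/
def IsCentre (R : ValuationSubring X.functionField) (x : X) : Prop :=
  (∀ a : X.presheaf.stalk x, algebraMap (X.presheaf.stalk x) X.functionField a ∈ R) ∧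
    ∀ a ∈ maximalIdeal (X.presheaf.stalk x),
      R.valuation (algebraMap (X.presheaf.stalk x) X.functionField a) < 1

variable {Y : Scheme.{u}} (f : X ⟶ Y)

/-- The map `O_{Y,y} → K(X)` given by a specialization of the image of the generic point. -/
noncomputable def toFunctionField {y : Y} (hy : f (genericPoint X) ⤳ y) :
    Y.presheaf.stalk y ⟶ X.functionField :=
  Y.presheaf.stalkSpecializes hy ≫ f.stalkMap (genericPoint X)

/-- The valuation ring `R` dominates `y` through `f`. -/
def Dominates (R : ValuationSubring X.functionField) {y : Y} (hy : f (genericPoint X) ⤳ y) : Prop :=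
  (∀ a : Y.presheaf.stalk y, (toFunctionField f hy).hom a ∈ R) ∧
    ∀ a ∈ maximalIdeal (Y.presheaf.stalk y), R.valuation ((toFunctionField f hy).hom a) < 1

lemma specMap_toFunctionField {y : Y} (hy : f (genericPoint X) ⤳ y) :
    Spec.map (toFunctionField f hy) ≫ Y.fromSpecStalk y = X.fromSpecStalk (genericPoint X) ≫ f := by
  rw [toFunctionField, Spec.map_comp, Category.assoc,
    Scheme.SpecMap_stalkSpecializes_fromSpecStalk, Scheme.SpecMap_stalkMap_fromSpecStalk]

lemma specMap_algebraMap_stalk (x : X) :
    Spec.map (CommRingCat.ofHom (algebraMap (X.presheaf.stalk x) X.functionField)) ≫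
      X.fromSpecStalk x = X.fromSpecStalk (genericPoint X) :=
  Scheme.SpecMap_stalkSpecializes_fromSpecStalk ((genericPoint_spec X).specializes (Set.mem_univ x))

lemma isCentre_of_lift (R : ValuationSubring X.functionField) (l : Spec (CommRingCat.of R) ⟶ X)
    (hl : Spec.map (CommRingCat.ofHom R.subtype) ≫ l = X.fromSpecStalk (genericPoint X)) :
    IsCentre R (l (closedPoint R)) := by
  let ρ := Scheme.stalkClosedPointTo l
  have hρ : ρ ≫ CommRingCat.ofHom R.subtype =
      CommRingCat.ofHom (algebraMap (X.presheaf.stalk (l (closedPoint R))) X.functionField) := by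
    refine Spec.map_injective ((cancel_mono (X.fromSpecStalk (l (closedPoint R)))).mp ?_)
    rw [specMap_algebraMap_stalk, Spec.map_comp, Category.assoc,
      Scheme.Spec_stalkClosedPointTo_fromSpecStalk]
    exact hl
  have hval : ∀ a, algebraMap (X.presheaf.stalk (l (closedPoint R))) X.functionField a =
      ((ρ.hom a : R) : X.functionField) := fun a ↦
    (congrArg (fun k : X.presheaf.stalk (l (closedPoint R)) ⟶ X.functionField ↦ k a) hρ).symm
  refine ⟨fun a ↦ hval a ▸ (ρ.hom a).2, fun a ha ↦ ?_⟩
  rw [hval, ← ValuationSubring.mem_nonunits_iff, ValuationSubring.coe_mem_nonunits_iff]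
  exact fun h ↦ ha (IsLocalHom.map_nonunit (f := ρ.hom) a h)


/-- Every valuation ring dominating a point of `Y` has a centre on `X`. -/
def HasCentres : Prop :=
  ∀ R : ValuationSubring X.functionField, ∀ (y : Y) (hy : f (genericPoint X) ⤳ y),
    Dominates f R hy → ∃ x, IsCentre R x

lemma hasCentres_of_universallyClosed [UniversallyClosed f] : HasCentres f := by
  intro R y hy hd
  have hV : ValuativeCriterion.Existence f := (UniversallyClosed.eq_valuativeCriterion.le _ _ f ‹_›).1
  obtain ⟨l, hl, -⟩ := (hV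
    { R := R, K := X.functionField, i₁ := X.fromSpecStalk (genericPoint X),
      i₂ := valMap R (toFunctionField f hy) hd.1,
      commSq := ⟨by
        rw [← specMap_toFunctionField f hy]
        exact (valMap_generic R (toFunctionField f hy) hd.1).symm⟩ }).exists_lift
  exact ⟨_, isCentre_of_lift R l hl⟩

lemma isCentre_genericPoint : IsCentre (⊤ : ValuationSubring X.functionField) (genericPoint X) := by
  refine ⟨fun a ↦ ValuationSubring.mem_top _, fun a ha ↦ ?_⟩
  have : a = 0 := by
    by_contra h
    exact ha (isUnit_iff_ne_zero.mpr h)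
  rw [this, map_zero, map_zero]
  exact zero_lt_one

lemma valuativeExistence_of_hasCentres [X.IsSeparated] [Y.IsSeparated] (H : HasCentres f) :
    ValuativeCriterion.Existence f := by
  rintro ⟨R', K', i₁, i₂, ⟨w⟩⟩
  let L : CommRingCat.{u} := CommRingCat.of K'
  let x := i₁ (closedPoint K')
  let y := i₂ (closedPoint R')
  -- the valuation ring of `κ(x)`
  let j : X.residueField x →+* K' := (X.descResidueField (Scheme.stalkClosedPointTo i₁)).hom
  have hi₁ : Spec.map (CommRingCat.ofHom j) ≫ X.fromSpecResidueField x = i₁ :=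
    Scheme.descResidueField_stalkClosedPointTo_fromSpecResidueField K' X i₁
  let V' : ValuationSubring K' := ValuationSubring.ofSubring (algebraMap R' K').range fun z ↦
    (ValuationRing.isInteger_or_isInteger R' z).imp id id
  let A : ValuationSubring (X.residueField x) := V'.comap j
  -- dominate `O_x` in the function field
  obtain ⟨R₁, hR₁, hloc₁⟩ :=
    exists_factor_valuationRing (algebraMap (X.presheaf.stalk x) X.functionField)
  let r₁ : X.presheaf.stalk x →+* R₁ :=
    (algebraMap (X.presheaf.stalk x) X.functionField).codRestrict R₁.toSubring hR₁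
  let ψ : X.residueField x →+* ResidueField R₁ := ResidueField.map r₁
  have hψ : ∀ a, ψ ((X.residue x).hom a) = residue R₁ (r₁ a) := fun a ↦ rfl
  obtain ⟨A₁, hA₁, hlocA⟩ := exists_factor_valuationRing (ψ.comp A.subtype)
  have hA : ∀ a, ψ a ∈ A₁ → a ∈ A := by
    intro a ha
    by_contra haA
    have hinv : a⁻¹ ∈ A := (A.mem_or_inv_mem a).resolve_left haA
    have ha0 : a ≠ 0 := fun h ↦ haA (h ▸ A.zero_mem)
    have hu : IsUnit (⟨a⁻¹, hinv⟩ : A) := hlocA.map_nonunit _ (by
      refine IsUnit.of_mul_eq_one ⟨ψ a, ha⟩ (Subtype.ext ?_)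
      change ψ a⁻¹ * ψ a = 1
      rw [← map_mul, inv_mul_cancel₀ ha0, map_one])
    obtain ⟨⟨b, hb⟩, hab⟩ := hu.exists_right_inv
    have hab' : a⁻¹ * b = 1 := congrArg Subtype.val hab
    rw [eq_inv_of_mul_eq_one_right hab', inv_inv] at hb
    exact haA hb
  -- the composite valuation ring
  let R : ValuationSubring X.functionField :=
    { ((A₁.toSubring.comap (residue R₁)).map R₁.subtype) with
      mem_or_inv_mem' := fun z ↦ by
        have key : ∀ z : X.functionField, z⁻¹ ∉ R₁ →
            ∃ r : R₁, residue R₁ r ∈ A₁ ∧ R₁.subtype r = z := fun z hz ↦ by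
          have hz' : z ∈ R₁.nonunits := by
            rw [← inv_inv z]
            exact R₁.inv_mem_nonunits_iff.mpr (Or.inr hz)
          refine ⟨⟨z, R₁.nonunits_subset hz'⟩, ?_, rfl⟩
          rw [(residue_eq_zero_iff _).mpr]
          · exact A₁.zero_mem
          · exact (ValuationSubring.coe_mem_nonunits_iff (a := ⟨z, R₁.nonunits_subset hz'⟩)).mp hz'
        simp only [Subring.mem_carrier, Subring.mem_map, Subring.mem_comap]
        by_cases h1 : z⁻¹ ∈ R₁
        · by_cases h2 : z ∈ R₁
          · rcases A₁.mem_or_inv_mem (residue R₁ ⟨z, h2⟩) with h | h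
            · exact Or.inl ⟨⟨z, h2⟩, h, rfl⟩
            · refine Or.inr ⟨⟨z⁻¹, h1⟩, ?_, rfl⟩
              rcases eq_or_ne z 0 with rfl | hz0
              · simp only [inv_zero] at *
                exact A₁.zero_mem
              suffices hh : residue R₁ ⟨z⁻¹, h1⟩ = (residue R₁ ⟨z, h2⟩)⁻¹ from hh ▸ h
              refine eq_inv_of_mul_eq_one_right ?_
              rw [← map_mul, show (⟨z, h2⟩ : R₁) * ⟨z⁻¹, h1⟩ = 1 from
                Subtype.ext (mul_inv_cancel₀ hz0), map_one]
          · refine Or.inr ?_
            obtain ⟨r, hr, hr'⟩ := key z⁻¹ (by rwa [inv_inv])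
            exact ⟨r, hr, hr'⟩
        · obtain ⟨r, hr, hr'⟩ := key z h1
          exact Or.inl ⟨r, hr, hr'⟩ }
  have hRiff : ∀ r : R₁, (r : X.functionField) ∈ R ↔ residue R₁ r ∈ A₁ := fun r ↦ by
    refine ⟨?_, fun h ↦ ⟨r, h, rfl⟩⟩
    rintro ⟨r', h, e⟩
    rwa [show r' = r from Subtype.ext e] at h
  have hRx : ∀ a, algebraMap (X.presheaf.stalk x) X.functionField a ∈ R ↔
      (X.residue x).hom a ∈ A := fun a ↦ by
    rw [show algebraMap (X.presheaf.stalk x) X.functionField a = ((r₁ a : R₁) : X.functionField)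
      from rfl, hRiff, ← hψ]
    exact ⟨hA _, fun h ↦ hA₁ ⟨_, h⟩⟩
  have hsub : R ≤ R₁ := by
    rintro _ ⟨r, -, rfl⟩
    exact r.2
  -- `R` dominates `y`
  have hsp : f x ⤳ y := by
    have h1 : f x = i₂ (Spec.map (CommRingCat.ofHom (algebraMap R' K')) (closedPoint K')) :=
      congrArg (fun k : Spec (CommRingCat.of K') ⟶ Y ↦ k (closedPoint K')) w
    rw [h1]
    exact (specializes_closedPoint _).map i₂.continuous
  let φy : Y.presheaf.stalk y ⟶ X.residueField x := specMapResidue hsp
  let σ : Y.presheaf.stalk y ⟶ CommRingCat.of R' := Scheme.stalkClosedPointTo i₂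
  have hσl : IsLocalHom σ.hom := inferInstanceAs (IsLocalHom (Scheme.stalkClosedPointTo i₂).hom)
  have hσ : φy ≫ CommRingCat.ofHom j = σ ≫ CommRingCat.ofHom (algebraMap R' K') := by
    refine Spec.map_injective ((cancel_mono (Y.fromSpecStalk y)).mp ?_)
    rw [Spec.map_comp, Category.assoc, specMapResidue_fromSpecStalk, ← Category.assoc]
    refine ((congrArg (· ≫ f) hi₁).trans w).trans ?_
    rw [Spec.map_comp, Category.assoc, Scheme.Spec_stalkClosedPointTo_fromSpecStalk]
  have hφyA : ∀ a, φy.hom a ∈ A := fun a ↦ ValuationSubring.mem_comap.mpr <|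
    (ValuationSubring.mem_ofSubring _ _ _).mpr ⟨σ.hom a,
      (congrArg (fun k : Y.presheaf.stalk y ⟶ L ↦ k a) hσ).symm⟩
  have hgen : f (genericPoint X) ⤳ y :=
    (((genericPoint_spec X).specializes trivial).map f.continuous).trans hsp
  have hcompat : toFunctionField f hgen = Y.presheaf.stalkSpecializes hsp ≫ f.stalkMap x ≫
      CommRingCat.ofHom (algebraMap (X.presheaf.stalk x) X.functionField) := by
    rw [toFunctionField, ← TopCat.Presheaf.stalkSpecializes_comp Y.presheaf
      (((genericPoint_spec X).specializes (Set.mem_univ x)).map f.continuous) hsp, Category.assoc]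
    exact congrArg (Y.presheaf.stalkSpecializes hsp ≫ ·)
      (Scheme.Hom.stalkSpecializes_stalkMap f (genericPoint X) x ((genericPoint_spec X).specializes (Set.mem_univ x)))
  have hdom : Dominates f R hgen := by
    have hmem : ∀ a, (toFunctionField f hgen).hom a ∈ R := fun a ↦ by
      rw [hcompat]
      exact (hRx _).mpr (hφyA a)
    refine ⟨hmem, fun a ha ↦ ?_⟩
    rw [← ValuationSubring.mem_nonunits_iff,
      show (toFunctionField f hgen).hom a = ((⟨_, hmem a⟩ : R) : X.functionField) from rfl,
      ValuationSubring.coe_mem_nonunits_iff]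
    intro hu
    obtain ⟨⟨b, hb⟩, hab⟩ := hu.exists_right_inv
    refine (mem_maximalIdeal a).mp ha (hσl.map_nonunit a ?_)
    -- transfer the inverse through `R₁`, `A₁` and `A`
    let u : R₁ := r₁ ((Y.presheaf.stalkSpecializes hsp ≫ f.stalkMap x).hom a)
    have hub : u * ⟨b, hsub hb⟩ = 1 := Subtype.ext (by
      have hab' : (toFunctionField f hgen).hom a * b = 1 := congrArg Subtype.val hab
      refine Eq.trans ?_ hab'
      rw [hcompat]
      rfl)
    have hres : ψ (φy.hom a) * residue R₁ ⟨b, hsub hb⟩ = 1 := by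
      rw [show ψ (φy.hom a) = residue R₁ u from rfl, ← map_mul, hub, map_one]
    have hbA : residue R₁ ⟨b, hsub hb⟩ ∈ A₁ := (hRiff ⟨b, hsub hb⟩).mp hb
    have hu' : IsUnit (⟨φy.hom a, hφyA a⟩ : A) := hlocA.map_nonunit _
      (IsUnit.of_mul_eq_one ⟨_, hbA⟩ (Subtype.ext hres))
    obtain ⟨⟨c, t, ht⟩, hc⟩ := hu'.exists_right_inv
    refine IsUnit.of_mul_eq_one t (IsFractionRing.injective R' K' ?_)
    have hc' : φy.hom a * c = 1 := congrArg Subtype.val hc
    have ht' : algebraMap R' K' t = j c := ht
    rw [map_mul, map_one, ht',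
      show algebraMap R' K' (σ.hom a) = j (φy.hom a) from
        (congrArg (fun k : Y.presheaf.stalk y ⟶ L ↦ k a) hσ).symm,
      ← map_mul, hc', map_one]
  obtain ⟨x'', hx''⟩ := H R y hgen hdom
  -- `x` specializes to the centre
  have hloc'' : ∀ a ∈ maximalIdeal (X.presheaf.stalk x''),
      (CommRingCat.ofHom (algebraMap (X.presheaf.stalk x'') X.functionField)).hom a ∈ R.nonunits :=
    fun a ha ↦ (ValuationSubring.mem_nonunits_iff _).mpr (hx''.2 a ha)
  let g'' := valMap R (CommRingCat.ofHom (algebraMap (X.presheaf.stalk x'') X.functionField)) hx''.1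
  let ι : Spec (CommRingCat.of R₁) ⟶ Spec (CommRingCat.of R) :=
    Spec.map (CommRingCat.ofHom (Subring.inclusion hsub))
  have := specMap_isDominant (CommRingCat.ofHom R₁.subtype) Subtype.coe_injective
  have hg : ι ≫ g'' =
      valMap R₁ (CommRingCat.ofHom (algebraMap (X.presheaf.stalk x) X.functionField)) hR₁ := by
    refine ext_of_isDominant (Spec.map (CommRingCat.ofHom R₁.subtype)) ?_
    rw [valMap_generic, ← Spec.map_comp_assoc]
    exact (valMap_generic R _ hx''.1).trans
      ((specMap_algebraMap_stalk x'').trans (specMap_algebraMap_stalk x).symm)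
  have hxx : x ⤳ x'' := by
    have h1 : x = g'' (ι (closedPoint R₁)) := by
      rw [← Scheme.Hom.comp_apply, hg, valMap_closedPoint]
      intro a ha
      refine (ValuationSubring.coe_mem_nonunits_iff (a := r₁ a)).mpr ?_
      exact fun h ↦ ha (hloc₁.map_nonunit a h)
    rw [h1]
    conv_rhs => rw [← valMap_closedPoint R _ hx''.1 hloc'']
    exact (specializes_closedPoint _).map g''.continuous
  let c : X.presheaf.stalk x'' ⟶ X.residueField x :=
    X.presheaf.stalkSpecializes hxx ≫ X.residue x
  have hc : ∀ a, c.hom a ∈ A := fun a ↦ by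
    refine (hRx _).mp ?_
    convert hx''.1 a using 1
    exact congrArg (fun k : X.presheaf.stalk x'' ⟶ X.functionField ↦ k a)
      (X.presheaf.stalkSpecializes_comp ((genericPoint_spec X).specializes trivial) hxx)
  choose t ht using hc
  let τ : X.presheaf.stalk x'' →+* R' :=
    { toFun := t
      map_one' := IsFractionRing.injective R' K' (by simp [ht])
      map_zero' := IsFractionRing.injective R' K' (by simp [ht])
      map_add' := fun a b ↦ IsFractionRing.injective R' K' (by simp [ht])
      map_mul' := fun a b ↦ IsFractionRing.injective R' K' (by simp [ht]) }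
  let l : Spec (CommRingCat.of R') ⟶ X := Spec.map (CommRingCat.ofHom τ) ≫ X.fromSpecStalk x''
  have hl : Spec.map (CommRingCat.ofHom (algebraMap R' K')) ≫ l = i₁ := by
    rw [← hi₁, ← Spec.map_comp_assoc, Scheme.fromSpecResidueField,
      ← Scheme.SpecMap_stalkSpecializes_fromSpecStalk hxx, ← Spec.map_comp_assoc,
      ← Spec.map_comp_assoc]
    congr 2
    exact CommRingCat.hom_ext (RingHom.ext fun a ↦ ht a)
  refine CommSq.HasLift.mk' ⟨l, hl, ?_⟩
  have := specMap_isDominant (CommRingCat.ofHom (algebraMap R' K')) (IsFractionRing.injective R' K')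
  refine ext_of_isDominant (Spec.map (CommRingCat.ofHom (algebraMap R' K'))) ?_
  rw [← Category.assoc, hl]
  exact w

lemma isProper_of_hasCentres [X.IsSeparated] [Y.IsSeparated] [LocallyOfFiniteType f]
    [QuasiCompact f] (H : HasCentres f) : IsProper f := by
  have : IsSeparated (f ≫ terminal.from Y) := by
    rw [terminal.hom_ext (f ≫ terminal.from Y) (terminal.from X)]
    infer_instance
  have : IsSeparated f := IsSeparated.of_comp f (terminal.from Y)
  have : UniversallyClosed f := UniversallyClosed.eq_valuativeCriterion.ge _ _ f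
    ⟨valuativeExistence_of_hasCentres f H, ‹_›⟩
  exact {}

end Groth.Agent.Proj16
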