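import Groth.Agent.Proj16.Graded
import Mathlib.AlgebraicGeometry.ProjectiveSpectrum.Proper
import Mathlib.AlgebraicGeometry.Noetherian

/-!
# Points of `Proj`
-/

universe u

open SetLike DirectSum AlgebraicGeometry HomogeneousIdeal
open scoped Topology

namespace Groth.Agent.Proj16

variable {A σ : Type u} [CommRing A] [SetLike σ A] [AddSubgroupClass σ A]
variable (𝒜 : ℕ → σ) [GradedRing 𝒜]

lemma exists_point {I : Ideal A} (hI : I.IsHomogeneous 𝒜) {f : A} {d : ℕ} (hd : 0 < d)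
    (hf : f ∈ 𝒜 d) (hfI : f ∉ I.radical) :
    ∃ x : ProjectiveSpectrum 𝒜, I ≤ x.asHomogeneousIdeal.toIdeal ∧ f ∉ x.asHomogeneousIdeal := by
  rw [Ideal.radical_eq_sInf, Submodule.mem_sInf] at hfI
  push Not at hfI
  obtain ⟨p, ⟨hIp, hp⟩, hfp⟩ := hfI
  refine ⟨⟨Ideal.homogeneousCore 𝒜 p, Ideal.IsPrime.homogeneousCore hp, fun h ↦ hfp ?_⟩, ?_, fun h ↦ hfp ?_⟩
  · exact Ideal.toIdeal_homogeneousCore_le 𝒜 p (h (mem_irrelevant_of_mem 𝒜 hd hf))
  · exact hI.toIdeal_homogeneousCore_eq_self.symm.trans_le (Ideal.homogeneousCore_mono 𝒜 hIp)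
  · exact Ideal.toIdeal_homogeneousCore_le 𝒜 p h

/-- An element of `A_+` lying in every relevant homogeneous prime over `I` is in the radical. -/
lemma mem_radical_of_forall_point {I : Ideal A} (hI : I.IsHomogeneous 𝒜) {f : A}
    (hf : f ∈ (irrelevant 𝒜).toIdeal)
    (h : ∀ x : ProjectiveSpectrum 𝒜, I ≤ x.asHomogeneousIdeal.toIdeal → f ∈ x.asHomogeneousIdeal) :
    f ∈ I.radical := by
  refine mem_of_forall_proj_mem 𝒜 fun i ↦ ?_
  rcases i.eq_zero_or_pos with rfl | hi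
  · rw [(mem_irrelevant_iff 𝒜 f).mp hf]; exact zero_mem _
  by_contra H
  obtain ⟨x, hx, hfx⟩ := exists_point 𝒜 hI hi (proj_mem 𝒜 i f) H
  exact hfx (x.asHomogeneousIdeal.isHomogeneous i (h x hx))

lemma isHomogeneous_span_of_pos {E : Set A} (hE : ∀ e ∈ E, ∃ d, 0 < d ∧ e ∈ 𝒜 d) :
    (Ideal.span E).IsHomogeneous 𝒜 :=
  Ideal.homogeneous_span 𝒜 E fun e he ↦ let ⟨d, _, hd⟩ := hE e he; ⟨d, hd⟩

lemma iSup_basicOpen_eq_top_iff {ι : Type*} (f : ι → A) (hf : ∀ i, ∃ d, 0 < d ∧ f i ∈ 𝒜 d) :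
    (⨆ i, Proj.basicOpen 𝒜 (f i)) = ⊤ ↔
      (irrelevant 𝒜).toIdeal ≤ (Ideal.span (Set.range f)).radical := by
  constructor
  · intro h a ha
    refine mem_radical_of_forall_point 𝒜 (isHomogeneous_span_of_pos 𝒜 ?_) ha fun x hx ↦ ?_
    · rintro _ ⟨i, rfl⟩; exact hf i
    · obtain ⟨i, hi⟩ := TopologicalSpace.Opens.mem_iSup.mp (h ▸ trivial :
        x ∈ ⨆ i, Proj.basicOpen 𝒜 (f i))
      exact absurd (hx (Ideal.subset_span ⟨i, rfl⟩)) hi
  · refine fun h ↦ top_le_iff.mp fun x _ ↦ TopologicalSpace.Opens.mem_iSup.mpr ?_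
    by_contra! H
    refine x.not_irrelevant_le (h.trans ?_)
    refine x.isPrime.radical_le_iff.mpr (Ideal.span_le.mpr ?_)
    rintro _ ⟨i, rfl⟩
    simpa [Proj.mem_basicOpen] using H i

lemma isEmpty_iff_forall_isNilpotent :
    IsEmpty (Proj 𝒜) ↔ ∀ f ∈ (irrelevant 𝒜).toIdeal, IsNilpotent f := by
  constructor
  · intro h f hf
    have := mem_radical_of_forall_point 𝒜 (I := ⊥) (Ideal.IsHomogeneous.bot 𝒜) hf
      fun x _ ↦ (h.false x).elim
    exact mem_nilradical.mp this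
  · intro h
    constructor
    intro x
    refine x.not_irrelevant_le fun f hf ↦ ?_
    obtain ⟨n, hn⟩ := h f hf
    exact x.isPrime.mem_of_pow_mem n (hn ▸ zero_mem _)

lemma compactSpace_of_fg (h : (irrelevant 𝒜).toIdeal.FG) : CompactSpace (Proj 𝒜) := by
  obtain ⟨s, hs, hspan⟩ := exists_finset_irrelevant_eq_span 𝒜 h
  constructor
  have : (Set.univ : Set (Proj 𝒜)) = ⋃ f : s, (Proj.basicOpen 𝒜 (f : A) : Set (Proj 𝒜)) := by
    rw [← TopologicalSpace.Opens.coe_iSup, Proj.iSup_basicOpen_eq_top, TopologicalSpace.Opens.coe_top]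
    simpa using hspan.le
  rw [this]
  exact isCompact_iUnion fun f ↦ by
    obtain ⟨d, hd, hfd⟩ := hs f f.2
    exact (Proj.isAffineOpen_basicOpen 𝒜 _ hfd hd).isCompact

lemma isNoetherianRing_away [IsNoetherianRing A] {d : ℕ} (f : A) (hf : f ∈ 𝒜 d) :
    IsNoetherianRing (HomogeneousLocalization.Away 𝒜 f) := by
  obtain ⟨_, _⟩ := (isNoetherianRing_iff_degZero 𝒜).mp ‹_›
  have := HomogeneousLocalization.Away.finiteType f d hf
  exact Algebra.FiniteType.isNoetherianRing (𝒜 0) _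

lemma isNoetherian_proj [IsNoetherianRing A] : IsNoetherian (Proj 𝒜) := by
  have := compactSpace_of_fg 𝒜 (_root_.IsNoetherian.noetherian _)
  have : IsLocallyNoetherian (Proj 𝒜) := by
    refine (isLocallyNoetherian_iff_of_affine_openCover (Proj.affineOpenCover 𝒜).openCover).mpr ?_
    intro i
    have : IsNoetherianRing ↑((Proj.affineOpenCover 𝒜).X i) :=
      isNoetherianRing_away 𝒜 (i.2 : A) i.2.2
    exact isNoetherianRing_of_ringEquiv _ (Scheme.ΓSpecIso _).symm.commRingCatIsoToRingEquiv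
  exact { }

end Groth.Agent.Proj16
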