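import Mathlib

/-!
# Universally closed morphisms are detected by affine spaces
-/

universe u

open CategoryTheory CategoryTheory.Limits AlgebraicGeometry MvPolynomial
open scoped TensorProduct

namespace Groth.Agent.Proj16

lemma exists_finset_tensor_equation {R B A : Type u} [CommRing R] [CommRing B] [CommRing A]
    [Algebra R B] [Algebra R A] (I : Ideal (B ⊗[R] A)) (p : PrimeSpectrum A)
    (hfib : ∀ Q : PrimeSpectrum (B ⊗[R] A), I ≤ Q.asIdeal →
      Q.asIdeal.comap (Algebra.TensorProduct.includeRight.toRingHom :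
        A →+* B ⊗[R] A) ≠ p.asIdeal) :
    ∃ s : Set A, s.Finite ∧ ∀ {σ : Type u} (a : σ → A), s ⊆ Set.range a →
      ∃ e : B ⊗[R] MvPolynomial σ R,
        Algebra.TensorProduct.map (AlgHom.id R B) (aeval a) e ∈ I ∧
        ∀ Q : PrimeSpectrum (B ⊗[R] MvPolynomial σ R),
          Q.asIdeal.comap (Algebra.TensorProduct.includeRight.toRingHom :
            MvPolynomial σ R →+* B ⊗[R] MvPolynomial σ R) =
            p.asIdeal.comap (aeval a).toRingHom → e ∉ Q.asIdeal := by
  classical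
  let ι : A →+* B ⊗[R] A := Algebra.TensorProduct.includeRight.toRingHom
  obtain ⟨g, hgp, hgJ⟩ : ∃ g : A, g ∉ p.asIdeal ∧ ι g ∈ I ⊔ p.asIdeal.map ι := by
    by_contra! hall
    have hd : Disjoint ((I ⊔ p.asIdeal.map ι : Ideal _) : Set (B ⊗[R] A))
        (p.asIdeal.primeCompl.map ι : Submonoid (B ⊗[R] A)) := by
      rw [Set.disjoint_left]
      rintro x hx ⟨g, hg, rfl⟩
      exact hall g hg hx
    obtain ⟨Q, hQ, hle, hQd⟩ := Ideal.exists_le_prime_disjoint _ _ hd
    refine hfib ⟨Q, hQ⟩ (le_sup_left.trans hle) (le_antisymm (fun a ha ↦ ?_) ?_)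
    · by_contra hap
      exact Set.disjoint_left.mp hQd ha ⟨a, hap, rfl⟩
    · exact Ideal.map_le_iff_le_comap.mp (le_sup_right.trans hle)
  obtain ⟨z, hz, w, hw, hsum⟩ := Submodule.mem_sup.mp hgJ
  obtain ⟨y, rfl⟩ := p.asIdeal.map_includeRight_eq.le hw
  obtain ⟨S : Finset (B × p.asIdeal), rfl⟩ := TensorProduct.exists_finset y
  refine ⟨insert g ((fun i : B × p.asIdeal ↦ i.2.1) '' S), (S.finite_toSet.image _).insert _, fun {σ} a ha ↦ ?_⟩
  obtain ⟨jg, hjg⟩ := ha (Set.mem_insert _ _)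
  choose j hj using fun i : S ↦ ha (Set.mem_insert_of_mem g ⟨i.1, i.2, rfl⟩)
  refine ⟨1 ⊗ₜ X jg - ∑ i : S, i.1.1 ⊗ₜ X (j i), ?_, fun Q hQ he ↦ ?_⟩
  · convert hz using 1
    rw [eq_sub_of_add_eq hsum]
    simp [hjg, hj, ι]
    exact Finset.sum_attach S fun x ↦ x.1 ⊗ₜ[R] (x.2 : A)
  · have hmem : ∀ f : MvPolynomial σ R, aeval a f ∈ p.asIdeal ↔
        (1 : B) ⊗ₜ[R] f ∈ Q.asIdeal := fun f ↦ (SetLike.ext_iff.mp hQ f).symm
    refine (hjg ▸ hgp : a jg ∉ p.asIdeal) ((aeval_X (R := R) a jg) ▸ (hmem (X jg)).mpr ?_)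
    · have := Ideal.add_mem _ he (Ideal.sum_mem _ (f := fun i : S ↦ i.1.1 ⊗ₜ[R] X (j i))
        (t := Finset.univ) fun i _ ↦ ?_)
      · simpa using this
      · have : (1 : B) ⊗ₜ[R] X (j i) ∈ Q.asIdeal := (hmem _).mp (by simp [hj])
        simpa using Ideal.mul_mem_left _ (i.1.1 ⊗ₜ[R] 1) this

lemma isClosedMap_snd_of_inducing {X X' T T' S : Scheme.{u}} {f : X ⟶ S} {h : T' ⟶ S}
    (hcl : IsClosedMap (pullback.snd f h)) (k : T ⟶ T') [IsOpenImmersion k]
    {fst : X' ⟶ X} {snd : X' ⟶ T} (H : IsPullback fst snd f (k ≫ h)) :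
    IsClosedMap snd := by
  let l : X' ⟶ pullback f h := pullback.lift fst (snd ≫ k) (by simpa using H.w)
  have H' : IsPullback l snd (pullback.snd f h) k :=
    IsPullback.of_right (by rw [pullback.lift_fst]; exact H) (pullback.lift_snd _ _ _)
      (IsPullback.of_hasPullback f h)
  have : IsOpenImmersion l := MorphismProperty.of_isPullback H'.flip ‹_›
  intro Z hZ
  obtain ⟨C, hC, rfl⟩ := l.isOpenEmbedding.isInducing.isClosed_iff.mp hZ
  convert (hcl C hC).preimage k.continuous using 1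
  ext y
  constructor
  · rintro ⟨z, hz, rfl⟩
    exact ⟨l z, hz, by rw [← Scheme.Hom.comp_apply, ← Scheme.Hom.comp_apply, H'.w]⟩
  · rintro ⟨c, hc, e⟩
    obtain ⟨z, hz₁, hz₂⟩ := Scheme.exists_preimage_of_isPullback H' c y e
    exact ⟨z, show l z ∈ C from hz₁ ▸ hc, hz₂⟩

section Chart

variable {R : Type u} [CommRing R] {X : Scheme.{u}} (f : X ⟶ Spec (.of R)) {B : Type u} [CommRing B]
  [Algebra R B] (j : Spec (.of B) ⟶ X) (hj : j ≫ f = Spec.map (CommRingCat.ofHom (algebraMap R B)))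
  (C : Type u) [CommRing C] [Algebra R C]

/-- The chart of `X ×_R C` over an affine chart of `X`. -/
noncomputable def pullbackChart : Spec (.of (B ⊗[R] C)) ⟶
    pullback f (Spec.map (CommRingCat.ofHom (algebraMap R C))) :=
  pullback.lift (Spec.map (CommRingCat.ofHom Algebra.TensorProduct.includeLeftRingHom) ≫ j)
    (Spec.map (CommRingCat.ofHom (Algebra.TensorProduct.includeRight : C →ₐ[R] B ⊗[R] C).toRingHom))
    (by
      rw [Category.assoc, hj, ← Spec.map_comp, ← Spec.map_comp]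
      congr 1
      exact CommRingCat.hom_ext (Algebra.TensorProduct.includeRight :
        C →ₐ[R] B ⊗[R] C).comp_algebraMap.symm)

@[reassoc]
lemma pullbackChart_fst : pullbackChart f j hj C ≫ pullback.fst f _ =
    Spec.map (CommRingCat.ofHom Algebra.TensorProduct.includeLeftRingHom) ≫ j :=
  pullback.lift_fst _ _ _

@[reassoc]
lemma pullbackChart_snd : pullbackChart f j hj C ≫ pullback.snd f _ =
    Spec.map (CommRingCat.ofHom
      (Algebra.TensorProduct.includeRight : C →ₐ[R] B ⊗[R] C).toRingHom) :=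
  pullback.lift_snd _ _ _

lemma pullbackChart_eq : pullbackChart f j hj C = (pullbackSpecIso R B C).inv ≫
    pullback.map _ _ _ _ j (𝟙 _) (𝟙 _) (by simp [hj]) (by simp) := by
  apply pullback.hom_ext
  · rw [pullbackChart, pullback.lift_fst, Category.assoc, pullback.lift_fst,
      pullbackSpecIso_inv_fst_assoc]
  · rw [pullbackChart, pullback.lift_snd, Category.assoc, pullback.lift_snd, Category.comp_id,
      pullbackSpecIso_inv_snd]
    rfl

lemma mem_range_pullbackChart {z} (hz : pullback.fst f _ z ∈ Set.range j) :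
    z ∈ Set.range (pullbackChart f j hj C) := by
  rw [pullbackChart_eq, Scheme.Hom.comp_base, TopCat.coe_comp, Set.range_comp,
    Set.range_eq_univ.mpr (pullbackSpecIso R B C).inv.surjective, Set.image_univ]
  rw [Scheme.Pullback.range_map]
  exact ⟨hz, by simp⟩

instance [IsOpenImmersion j] : IsOpenImmersion (pullbackChart f j hj C) := by
  rw [pullbackChart_eq]
  infer_instance

end Chart

lemma isClosedMap_snd_spec {R : Type u} [CommRing R] {X : Scheme.{u}} (f : X ⟶ Spec (.of R))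
    [CompactSpace X] (H : ∀ n : ℕ, IsClosedMap (pullback.snd f (Spec.map (CommRingCat.ofHom
      (algebraMap R (MvPolynomial (ULift.{u} (Fin n)) R))))))
    (A : Type u) [CommRing A] [Algebra R A] :
    IsClosedMap (pullback.snd f (Spec.map (CommRingCat.ofHom (algebraMap R A)))) := by
  classical
  intro Z hZ
  rw [← isOpen_compl_iff, isOpen_iff_forall_mem_open]
  intro t ht
  let 𝒰 := X.affineCover.finiteSubcover
  let B : 𝒰.I₀ → Type u := fun i ↦ Γ(𝒰.X i, ⊤)
  let eB : ∀ i, 𝒰.X i ≅ Spec (.of (B i)) := fun i ↦ Scheme.isoSpec _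
  let j : ∀ i, Spec (.of (B i)) ⟶ X := fun i ↦ (eB i).inv ≫ 𝒰.f i
  let : ∀ i, Algebra R (B i) := fun i ↦ (Spec.preimage (j i ≫ f)).hom.toAlgebra
  have hψ : ∀ i, j i ≫ f = Spec.map (CommRingCat.ofHom (algebraMap R (B i))) := fun i ↦
    (Spec.map_preimage _).symm
  let c i := pullbackChart f (j i) (hψ i) A
  have hpt : ∀ i, ∃ I : Ideal (B i ⊗[R] A), PrimeSpectrum.zeroLocus I = c i ⁻¹' Z := fun i ↦ by
    obtain ⟨I, hI⟩ := (PrimeSpectrum.isClosed_iff_zeroLocus_ideal _).mp
      (hZ.preimage (c i).continuous)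
    exact ⟨I, hI.symm⟩
  choose I hI using hpt
  have hfib : ∀ i, ∀ Q : PrimeSpectrum (B i ⊗[R] A), I i ≤ Q.asIdeal →
      Q.asIdeal.comap (Algebra.TensorProduct.includeRight.toRingHom :
        A →+* B i ⊗[R] A) ≠ t.asIdeal := by
    intro i Q hQ he
    refine ht ⟨c i Q, (hI i).le hQ, ?_⟩
    rw [← Scheme.Hom.comp_apply, pullbackChart_snd]
    exact PrimeSpectrum.ext he
  choose s hsfin hs using fun i ↦ exists_finset_tensor_equation (I i) t (hfib i)
  obtain ⟨n, a, ha⟩ : ∃ (n : ℕ) (a : Fin n → A), Set.range a = ⋃ i, s i := by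
    obtain ⟨n, a, ha⟩ := (Set.finite_iUnion hsfin).fin_embedding
    exact ⟨n, a, ha⟩
  let σ := ULift.{u} (Fin n)
  let a' : σ → A := a ∘ ULift.down
  have ha' : ∀ i, s i ⊆ Set.range a' := fun i x hx ↦ by
    obtain ⟨k, rfl⟩ := ha.ge (Set.mem_iUnion.mpr ⟨i, hx⟩)
    exact ⟨⟨k⟩, rfl⟩
  choose e he₁ he₂ using fun i ↦ hs i a' (ha' i)
  let φ := Spec.map (CommRingCat.ofHom (aeval (R := R) a').toRingHom)
  have hφ : φ ≫ Spec.map (CommRingCat.ofHom (algebraMap R (MvPolynomial σ R))) =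
      Spec.map (CommRingCat.ofHom (algebraMap R A)) := by
    rw [← Spec.map_comp]
    exact congrArg Spec.map (CommRingCat.hom_ext (aeval (R := R) a').comp_algebraMap)
  let q := pullback.lift (f := f) (g := Spec.map (CommRingCat.ofHom (algebraMap R (MvPolynomial σ R))))
    (pullback.fst f (Spec.map (CommRingCat.ofHom (algebraMap R A))))
    (pullback.snd f (Spec.map (CommRingCat.ofHom (algebraMap R A))) ≫ φ)
    (by rw [Category.assoc, hφ, pullback.condition])
  refine ⟨φ ⁻¹' (pullback.snd f _ '' closure (q '' Z))ᶜ, ?_, ?_, ?_⟩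
  · rintro y hy ⟨z, hz, rfl⟩
    refine hy ⟨q z, subset_closure ⟨z, hz, rfl⟩, ?_⟩
    rw [← Scheme.Hom.comp_apply, pullback.lift_snd]
    rfl
  · exact (H n _ isClosed_closure).isOpen_compl.preimage φ.continuous
  · rintro ⟨z₀, hz₀, hz₀t⟩
    obtain ⟨i, hi⟩ : ∃ i, pullback.fst f _ z₀ ∈ Set.range (j i) := by
      obtain ⟨i, y, hy⟩ := 𝒰.exists_eq (pullback.fst f _ z₀)
      obtain ⟨w, rfl⟩ := (eB i).inv.surjective y
      exact ⟨i, w, hy⟩
    let c₀ := pullbackChart f (j i) (hψ i) (MvPolynomial σ R)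
    obtain ⟨Q, rfl⟩ := mem_range_pullbackChart f (j i) (hψ i) _ hi
    rw [← Scheme.Hom.comp_apply, pullbackChart_snd] at hz₀t
    have hQ := he₂ i Q (congrArg PrimeSpectrum.asIdeal hz₀t)
    obtain ⟨_, ⟨Q', hQ', rfl⟩, z, hz, hzQ⟩ := mem_closure_iff.mp hz₀
      (c₀ '' (PrimeSpectrum.basicOpen (e i) : Set (PrimeSpectrum _)))
      (c₀.isOpenEmbedding.isOpenMap _ (PrimeSpectrum.basicOpen (e i)).isOpen) ⟨Q, hQ, rfl⟩
    have hzj : pullback.fst f _ z ∈ Set.range (j i) := by
      have := congrArg (pullback.fst f _) hzQ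
      rw [← Scheme.Hom.comp_apply, pullback.lift_fst, ← Scheme.Hom.comp_apply,
        pullbackChart_fst] at this
      rw [this]
      exact ⟨_, rfl⟩
    obtain ⟨Q'', rfl⟩ := mem_range_pullbackChart f (j i) (hψ i) _ hzj
    have hmap : c i ≫ q = Spec.map (CommRingCat.ofHom
        (Algebra.TensorProduct.map (AlgHom.id R (B i)) (aeval a')).toRingHom) ≫ c₀ := by
      apply pullback.hom_ext
      · simp only [Category.assoc, pullback.lift_fst, q, c, c₀, pullbackChart_fst]
        rw [← Spec.map_comp_assoc]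
        congr 2
        refine CommRingCat.hom_ext (RingHom.ext fun x ↦ ?_)
        simp
      · simp only [Category.assoc, pullback.lift_snd, q, c, c₀,
          pullbackChart_snd, pullbackChart_snd_assoc, φ, ← Spec.map_comp]
        congr 1
    rw [← Scheme.Hom.comp_apply, hmap, Scheme.Hom.comp_apply] at hzQ
    obtain rfl := c₀.isOpenEmbedding.injective hzQ
    exact hQ' ((hI i).ge hz (he₁ i))

lemma universallyClosed_spec {R : Type u} [CommRing R] {X : Scheme.{u}} (f : X ⟶ Spec (.of R))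
    [QuasiCompact f] (H : ∀ n : ℕ, IsClosedMap (pullback.snd f (Spec.map (CommRingCat.ofHom
      (algebraMap R (MvPolynomial (ULift.{u} (Fin n)) R)))))) :
    UniversallyClosed f := by
  have : CompactSpace X := QuasiCompact.compactSpace_of_compactSpace f
  refine ⟨fun X' Y' i₁ i₂ f' hp ↦ ?_⟩
  refine (IsZariskiLocalAtTarget.iff_of_openCover (P := topologically @IsClosedMap)
    Y'.affineCover).mpr fun k ↦ ?_
  let A := Y'.affineCover.X k
  obtain ⟨φ, hφ⟩ : ∃ φ, (A.isoSpec.inv ≫ Y'.affineCover.f k ≫ i₂) = Spec.map φ :=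
    ⟨_, (Spec.map_preimage _).symm⟩
  let : Algebra R Γ(A, ⊤) := φ.hom.toAlgebra
  have hh := isClosedMap_snd_spec f H Γ(A, ⊤)
  have P : IsPullback (Limits.pullback.fst f' (Y'.affineCover.f k) ≫ i₁)
      (Limits.pullback.snd f' (Y'.affineCover.f k)) f (Y'.affineCover.f k ≫ i₂) :=
    (IsPullback.of_hasPullback _ _).paste_horiz hp.flip
  change IsClosedMap (Limits.pullback.snd f' (Y'.affineCover.f k))
  refine isClosedMap_snd_of_inducing hh A.isoSpec.hom (fst := Limits.pullback.fst f' (Y'.affineCover.f k) ≫ i₁) ?_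
  have e : A.isoSpec.hom ≫ Spec.map (CommRingCat.ofHom (algebraMap R Γ(A, ⊤))) =
      Y'.affineCover.f k ≫ i₂ := by
    change A.isoSpec.hom ≫ Spec.map φ = _
    rw [← hφ]
    exact Iso.hom_inv_id_assoc _ _
  exact (congrArg (IsPullback _ _ f) e).mpr P

/-- A quasi-compact morphism is universally closed as soon as its base changes to affine spaces
are closed maps (Stacks 05JX). -/
lemma universallyClosed_of_affineSpace {X S : Scheme.{u}} (f : X ⟶ S) [QuasiCompact f]
    (H : ∀ n : ℕ, IsClosedMap (pullback.snd f (𝔸(ULift.{u} (Fin n); S) ↘ S))) :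
    UniversallyClosed f := by
  rw [IsZariskiLocalAtTarget.iff_of_openCover (P := @UniversallyClosed) S.affineCover]
  intro k
  let A := S.affineCover.X k
  let g : pullback f (S.affineCover.f k) ⟶ Spec (.of Γ(A, ⊤)) :=
    pullback.snd _ _ ≫ A.isoSpec.hom
  have hg : UniversallyClosed g := by
    refine universallyClosed_spec g fun n ↦ ?_
    let σ := ULift.{u} (Fin n)
    let u₀ : Spec (.of Γ(A, ⊤)) ⟶ S := A.isoSpec.inv ≫ S.affineCover.f k
    let m := (AffineSpace.SpecIso σ (.of Γ(A, ⊤))).inv ≫ AffineSpace.map σ u₀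
    have hm : IsOpenImmersion (AffineSpace.map σ u₀) :=
      MorphismProperty.of_isPullback (AffineSpace.isPullback_map u₀).flip inferInstance
    have hw : m ≫ (𝔸(σ; S) ↘ S) =
        Spec.map (CommRingCat.ofHom (algebraMap Γ(A, ⊤) (MvPolynomial σ Γ(A, ⊤)))) ≫ u₀ := by
      simp only [m, Category.assoc, AffineSpace.map_over, AffineSpace.SpecIso_inv_over_assoc]
      rfl
    have hP : IsPullback (pullback.fst f (S.affineCover.f k)) g f u₀ :=
      IsPullback.of_iso (IsPullback.of_hasPullback f (S.affineCover.f k)) (Iso.refl _) (Iso.refl _)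
        A.isoSpec (Iso.refl _) (by simp) (by simp [g]) (by simp) (by simp [u₀])
    refine isClosedMap_snd_of_inducing (H n) m
      (fst := pullback.fst g _ ≫ pullback.fst f (S.affineCover.f k)) ?_
    rw [hw]
    exact (IsPullback.of_hasPullback g _).flip.paste_vert hP.flip |>.flip
  have : pullback.snd f (S.affineCover.f k) = g ≫ A.isoSpec.inv := by simp [g]
  change UniversallyClosed (pullback.snd f (S.affineCover.f k))
  rw [this]
  infer_instance

end Groth.Agent.Proj16
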