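import Mathlib.RingTheory.GradedAlgebra.FiniteType
import Mathlib.RingTheory.GradedAlgebra.Noetherian
import Mathlib.RingTheory.GradedAlgebra.Homogeneous.Ideal
import Mathlib.RingTheory.GradedAlgebra.Radical
import Mathlib.RingTheory.Adjoin.FG
import Mathlib.RingTheory.FiniteType

/-!
# Generators of graded rings
-/

universe u v

open SetLike DirectSum

namespace Groth.Agent.Proj16

variable {A : Type u} {σ : Type v} [CommRing A] [SetLike σ A] [AddSubgroupClass σ A]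
variable (𝒜 : ℕ → σ) [GradedRing 𝒜]

/-- The degree `n` projection of `x * y` for `y` homogeneous. -/
lemma proj_mul_of_mem {x y : A} {d n : ℕ} (hy : y ∈ 𝒜 d) :
    GradedRing.proj 𝒜 n (x * y) = if d ≤ n then GradedRing.proj 𝒜 (n - d) x * y else 0 := by
  simp only [GradedRing.proj_apply]
  split_ifs with h
  · exact DirectSum.coe_decompose_mul_of_right_mem_of_le 𝒜 hy h
  · exact DirectSum.coe_decompose_mul_of_right_mem_of_not_le 𝒜 hy h

lemma proj_mem (n : ℕ) (x : A) : GradedRing.proj 𝒜 n x ∈ 𝒜 n := SetLike.coe_mem _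

lemma proj_of_mem {n : ℕ} {x : A} (hx : x ∈ 𝒜 n) : GradedRing.proj 𝒜 n x = x :=
  DirectSum.decompose_of_mem_same 𝒜 hx

lemma proj_of_mem_ne {n m : ℕ} {x : A} (hx : x ∈ 𝒜 m) (h : m ≠ n) : GradedRing.proj 𝒜 n x = 0 :=
  DirectSum.decompose_of_mem_ne 𝒜 hx h

/-- Induction on the homogeneous components. -/
lemma mem_of_forall_proj_mem {S : Type*} [SetLike S A] [AddSubmonoidClass S A] {s : S} {x : A}
    (h : ∀ i, GradedRing.proj 𝒜 i x ∈ s) : x ∈ s := by
  classical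
  rw [← DirectSum.sum_support_decompose 𝒜 x]
  exact sum_mem fun i _ ↦ h i

lemma adjoin_eq_top_of_irrelevant_le_span {E : Set A} (hE : ∀ e ∈ E, ∃ d, 0 < d ∧ e ∈ 𝒜 d)
    (h : (HomogeneousIdeal.irrelevant 𝒜).toIdeal ≤ Ideal.span E) :
    Algebra.adjoin (𝒜 0) E = ⊤ := by
  classical
  have key : ∀ n : ℕ, ∀ x ∈ 𝒜 n, x ∈ Algebra.adjoin (𝒜 0) E := by
    intro n
    induction n using Nat.strong_induction_on with
    | h n ih =>
      intro x hx
      rcases n.eq_zero_or_pos with rfl | hn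
      · exact Subalgebra.algebraMap_mem (Algebra.adjoin (𝒜 0) E) ⟨x, hx⟩
      have hmem : x ∈ Submodule.span A E := h (HomogeneousIdeal.mem_irrelevant_of_mem 𝒜 hn hx)
      rw [← proj_of_mem 𝒜 hx]
      clear hx
      suffices H : ∀ z ∈ Submodule.span A E, ∀ a : A,
          GradedRing.proj 𝒜 n (a * z) ∈ Algebra.adjoin (𝒜 0) E by simpa using H x hmem 1
      intro z hz
      induction hz using Submodule.span_induction with
      | mem e he =>
        intro a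
        obtain ⟨d, hd, hed⟩ := hE e he
        rw [proj_mul_of_mem 𝒜 hed]
        split_ifs with hdn
        · exact mul_mem (ih (n - d) (by omega) _ (proj_mem 𝒜 _ _)) (Algebra.subset_adjoin he)
        · exact zero_mem _
      | zero => intro a; simp
      | add y z _ _ hy hz => intro a; rw [mul_add, map_add]; exact add_mem (hy a) (hz a)
      | smul b y _ hy => intro a; rw [smul_eq_mul, ← mul_assoc]; exact hy _
  exact top_le_iff.mp fun x _ ↦ mem_of_forall_proj_mem 𝒜 fun i ↦ key i _ (proj_mem 𝒜 i x)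

lemma irrelevant_le_span_of_adjoin_eq_top {E : Set A} (hE : ∀ e ∈ E, ∃ d, 0 < d ∧ e ∈ 𝒜 d)
    (h : Algebra.adjoin (𝒜 0) E = ⊤) :
    (HomogeneousIdeal.irrelevant 𝒜).toIdeal ≤ Ideal.span E := by
  intro x hx
  have H : ∀ y ∈ Algebra.adjoin (𝒜 0) E, y - GradedRing.proj 𝒜 0 y ∈ Ideal.span E := by
    intro y hy
    induction hy using Algebra.adjoin_induction with
    | mem e he =>
      obtain ⟨d, hd, hed⟩ := hE e he
      rw [proj_of_mem_ne 𝒜 hed hd.ne', sub_zero]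
      exact Ideal.subset_span he
    | algebraMap r =>
      have h0 : GradedRing.proj 𝒜 0 (algebraMap (𝒜 0) A r) = algebraMap (𝒜 0) A r :=
        proj_of_mem 𝒜 r.2
      rw [h0, sub_self]
      exact zero_mem _
    | add y z _ _ hy hz => rw [map_add, add_sub_add_comm]; exact add_mem hy hz
    | mul y z _ _ hy hz =>
      have : GradedRing.proj 𝒜 0 (y * z) = GradedRing.proj 𝒜 0 y * GradedRing.proj 𝒜 0 z := by
        simpa [GradedRing.proj_apply] using map_mul (GradedRing.projZeroRingHom 𝒜) y z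
      rw [this]
      convert add_mem (Ideal.mul_mem_left _ y hz)
        (Ideal.mul_mem_right (GradedRing.proj 𝒜 0 z) _ hy) using 1
      ring
  have := H x (h ▸ trivial)
  rwa [(HomogeneousIdeal.mem_irrelevant_iff 𝒜 x).mp hx, sub_zero] at this

lemma irrelevant_eq_span_iff (E : Set A) (hE : ∀ e ∈ E, ∃ d, 0 < d ∧ e ∈ 𝒜 d) :
    (HomogeneousIdeal.irrelevant 𝒜).toIdeal = Ideal.span E ↔ Algebra.adjoin (𝒜 0) E = ⊤ := by
  refine ⟨fun h ↦ adjoin_eq_top_of_irrelevant_le_span 𝒜 hE h.le, fun h ↦ le_antisymm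
    (irrelevant_le_span_of_adjoin_eq_top 𝒜 hE h) (Ideal.span_le.mpr fun e he ↦ ?_)⟩
  obtain ⟨d, hd, hed⟩ := hE e he
  exact HomogeneousIdeal.mem_irrelevant_of_mem 𝒜 hd hed

lemma exists_finset_irrelevant_eq_span (hfg : (HomogeneousIdeal.irrelevant 𝒜).toIdeal.FG) :
    ∃ s : Finset A, (∀ e ∈ s, ∃ d, 0 < d ∧ e ∈ 𝒜 d) ∧
      (HomogeneousIdeal.irrelevant 𝒜).toIdeal = Ideal.span (s : Set A) := by
  rw [HomogeneousIdeal.irrelevant_eq_span] at hfg ⊢
  obtain ⟨s, hs, hspan⟩ := Submodule.fg_span_iff_fg_span_finset_subset _ |>.mp hfg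
  refine ⟨s, fun e he ↦ ?_, hspan⟩
  simpa using hs he

lemma irrelevant_fg_iff :
    (HomogeneousIdeal.irrelevant 𝒜).toIdeal.FG ↔ Algebra.FiniteType (𝒜 0) A := by
  constructor
  · intro hfg
    obtain ⟨s, hs, hspan⟩ := exists_finset_irrelevant_eq_span 𝒜 hfg
    exact ⟨⟨s, (irrelevant_eq_span_iff 𝒜 _ fun e he ↦ hs e he).mp hspan⟩⟩
  · intro h
    obtain ⟨s, hs, hs'⟩ := GradedAlgebra.exists_finset_adjoin_eq_top_and_homogeneous_ne_zero 𝒜
    have hE : ∀ e ∈ (s : Set A), ∃ d, 0 < d ∧ e ∈ 𝒜 d := fun e he ↦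
      let ⟨d, hd, hed⟩ := hs' e he; ⟨d, Nat.pos_of_ne_zero hd, hed⟩
    exact ⟨s, ((irrelevant_eq_span_iff 𝒜 _ hE).mpr hs).symm⟩

lemma isNoetherianRing_iff_degZero :
    IsNoetherianRing A ↔ IsNoetherianRing (𝒜 0) ∧ Algebra.FiniteType (𝒜 0) A := by
  refine ⟨fun _ ↦ ⟨inferInstance, (irrelevant_fg_iff 𝒜).mp (IsNoetherian.noetherian _)⟩, ?_⟩
  rintro ⟨_, _⟩
  exact Algebra.FiniteType.isNoetherianRing (𝒜 0) A

/-- A graded ring of finite type has finitely many homogeneous generators of positive degree. -/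
lemma exists_generators [Algebra.FiniteType (𝒜 0) A] :
    ∃ (N : ℕ) (g : Fin N → A) (d : Fin N → ℕ), (∀ j, 0 < d j) ∧ (∀ j, g j ∈ 𝒜 (d j)) ∧
      Algebra.adjoin (𝒜 0) (Set.range g) = ⊤ := by
  obtain ⟨s, hs, hs'⟩ := GradedAlgebra.exists_finset_adjoin_eq_top_and_homogeneous_ne_zero 𝒜
  choose d hd hgd using hs'
  refine ⟨s.card, fun j ↦ (s.equivFin.symm j).1, fun j ↦ d _ (s.equivFin.symm j).2,
    fun j ↦ Nat.pos_of_ne_zero (hd _ _), fun j ↦ hgd _ _, ?_⟩
  convert hs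
  exact (s.equivFin.symm.surjective.range_comp (fun x : s ↦ x.1)).trans (by simp)

variable {𝒜}

/-- Induction over monomials in homogeneous generators, in a fixed degree. -/
lemma induction_on_monomials {N : ℕ} {g : Fin N → A} {d : Fin N → ℕ} (hg : ∀ j, g j ∈ 𝒜 (d j))
    (hgen : Algebra.adjoin (𝒜 0) (Set.range g) = ⊤) {n : ℕ} {P : A → Prop} (h0 : P 0)
    (hadd : ∀ x y, P x → P y → P (x + y))
    (hmon : ∀ c ∈ 𝒜 0, ∀ e : Fin N → ℕ, ∑ j, e j * d j = n → P (c * ∏ j, g j ^ e j))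
    {x : A} (hx : x ∈ 𝒜 n) : P x := by
  classical
  rw [← proj_of_mem 𝒜 hx]
  have hmem : x ∈ (⊤ : Subalgebra (𝒜 0) A) := trivial
  rw [← hgen, Algebra.adjoin_range_eq_range_aeval] at hmem
  obtain ⟨p, rfl⟩ := hmem
  clear hx
  induction p using MvPolynomial.induction_on' with
  | monomial e c =>
    have hdeg : (c : A) * ∏ j, g j ^ e j ∈ 𝒜 (∑ j, e j * d j) := by
      have := SetLike.prod_pow_mem_graded 𝒜 d g e fun j (_ : j ∈ Finset.univ) ↦ hg j
      simpa using SetLike.mul_mem_graded c.2 this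
    have heq : MvPolynomial.aeval g (MvPolynomial.monomial e c) =
        (c : A) * ∏ j, g j ^ e j := by
      rw [MvPolynomial.aeval_monomial, Finsupp.prod_fintype _ _ (fun i ↦ pow_zero _)]
      rfl
    simp only [AlgHom.toRingHom_eq_coe, RingHom.coe_coe, heq]
    by_cases h : ∑ j, e j * d j = n
    · rw [proj_of_mem 𝒜 (h ▸ hdeg)]; exact hmon c c.2 e h
    · rw [proj_of_mem_ne 𝒜 hdeg h]; exact h0
  | add p q hp hq => rw [map_add, map_add]; exact hadd _ _ hp hq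

lemma monomial_mem {N : ℕ} {g : Fin N → A} {d : Fin N → ℕ} (hg : ∀ j, g j ∈ 𝒜 (d j))
    (e : Fin N → ℕ) {n : ℕ} (he : ∑ j, e j * d j = n) : ∏ j, g j ^ e j ∈ 𝒜 n :=
  he ▸ by simpa using SetLike.prod_pow_mem_graded 𝒜 d g e fun j (_ : j ∈ Finset.univ) ↦ hg j

variable (𝒜)

/-- There is a `q > 0` with `A_{n+q} = A_q A_n` for all large `n`. -/
lemma exists_period [Algebra.FiniteType (𝒜 0) A] :
    ∃ q n₀ : ℕ, 0 < q ∧ ∀ n, n₀ ≤ n → ∀ x ∈ 𝒜 (n + q),
      x ∈ AddSubmonoid.closure {y | ∃ a ∈ 𝒜 q, ∃ b ∈ 𝒜 n, a * b = y} := by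
  obtain ⟨N, g, d, hd, hg, hgen⟩ := exists_generators 𝒜
  refine ⟨∏ j, d j, N * ∏ j, d j, Finset.prod_pos fun j _ ↦ hd j, fun n hn x hx ↦ ?_⟩
  refine induction_on_monomials hg hgen (zero_mem _) (fun _ _ ↦ add_mem) (fun c hc e he ↦ ?_) hx
  have hq : 0 < ∏ j, d j := Finset.prod_pos fun j _ ↦ hd j
  obtain ⟨i, hi⟩ : ∃ i, (∏ j, d j) ≤ e i * d i := by
    by_contra! H
    have : ∑ j, e j * d j ≤ ∑ _j : Fin N, ∏ j, d j := Finset.sum_le_sum fun j _ ↦ (H j).le
    simp only [Finset.sum_const, Finset.card_univ, Fintype.card_fin, smul_eq_mul] at this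
    omega
  obtain ⟨q', hq'⟩ : d i ∣ ∏ j, d j := Finset.dvd_prod_of_mem _ (Finset.mem_univ i)
  have hle : q' ≤ e i := by
    rw [hq', mul_comm] at hi
    exact Nat.le_of_mul_le_mul_right hi (hd i)
  classical
  have heq : ∀ j, (Function.update e i (e i - q')) j + (if j = i then q' else 0) = e j := by
    intro j; by_cases h : j = i
    · subst h; simp; omega
    · simp [h]
  have hsum : ∑ j, (Function.update e i (e i - q')) j * d j + ∏ j, d j = n + ∏ j, d j := by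
    rw [← he, hq']
    conv_rhs => enter [2, j]; rw [← heq j, add_mul]
    rw [Finset.sum_add_distrib]
    simp [ite_mul, mul_comm]
  refine AddSubmonoid.subset_closure ⟨g i ^ q', ?_,
    c * ∏ j, g j ^ (Function.update e i (e i - q')) j, ?_, ?_⟩
  · simpa [hq', mul_comm] using SetLike.pow_mem_graded q' (hg i)
  · simpa using SetLike.mul_mem_graded hc (monomial_mem hg _ (Nat.add_right_cancel hsum))
  · conv_rhs => enter [2, 2, j]; rw [← heq j, pow_add]
    rw [Finset.prod_mul_distrib]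
    simp [pow_ite]
    ring

/-- The irrelevant ideal's powers contain all large degree elements. -/
lemma exists_mem_irrelevant_pow [Algebra.FiniteType (𝒜 0) A] (n : ℕ) :
    ∃ m₀ : ℕ, ∀ m, m₀ ≤ m → ∀ x ∈ 𝒜 m, x ∈ (HomogeneousIdeal.irrelevant 𝒜).toIdeal ^ n := by
  obtain ⟨N, g, d, hd, hg, hgen⟩ := exists_generators 𝒜
  refine ⟨n * ∑ j, d j + 1, fun m hm x hx ↦ ?_⟩
  refine induction_on_monomials hg hgen (zero_mem _) (fun _ _ ↦ add_mem) (fun c hc e he ↦ ?_) hx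
  refine Ideal.mul_mem_left _ _ (Ideal.pow_le_pow_right (?_ : n ≤ ∑ j, e j) ?_)
  · by_contra! H
    have : ∑ j, e j * d j ≤ (∑ j, e j) * ∑ j, d j := by
      rw [Finset.sum_mul]
      exact Finset.sum_le_sum fun j _ ↦
        Nat.mul_le_mul_left _ (Finset.single_le_sum (fun i _ ↦ Nat.zero_le (d i)) (Finset.mem_univ j))
    have := this.trans (Nat.mul_le_mul_right _ H.le)
    omega
  · rw [← Finset.prod_pow_eq_pow_sum]
    exact Ideal.prod_mem_prod fun j _ ↦
      Ideal.pow_mem_pow (HomogeneousIdeal.mem_irrelevant_of_mem 𝒜 (hd j) (hg j)) _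

section Algebra

variable {R : Type*} [CommRing R] [Algebra R A] (ℰ : ℕ → Submodule R A) [GradedAlgebra ℰ]

lemma exists_period_submodule [Algebra.FiniteType (ℰ 0) A] :
    ∃ q n₀ : ℕ, 0 < q ∧ ∀ n, n₀ ≤ n → ℰ (n + q) = ℰ q * ℰ n := by
  obtain ⟨q, n₀, hq, h⟩ := exists_period ℰ
  refine ⟨q, n₀, hq, fun n hn ↦ le_antisymm (fun x hx ↦ ?_) ?_⟩
  · refine AddSubmonoid.closure_le (S := (ℰ q * ℰ n).toAddSubmonoid) |>.mpr ?_ (h n hn x hx)
    rintro _ ⟨a, ha, b, hb, rfl⟩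
    exact Submodule.mul_mem_mul ha hb
  · rw [Submodule.mul_le]
    exact fun a ha b hb ↦ add_comm q n ▸ SetLike.mul_mem_graded ha hb

lemma pow_le_graded (h m : ℕ) (hm : 0 < m) : ℰ h ^ m ≤ ℰ (m * h) := by
  induction m, hm using Nat.le_induction with
  | base => simp
  | succ m hm ih =>
    rw [pow_succ, Submodule.mul_le]
    exact fun a ha b hb ↦ Nat.succ_mul m h ▸ SetLike.mul_mem_graded (ih ha) hb

lemma exists_pow_degree_eq [Algebra.FiniteType (ℰ 0) A] :
    ∃ h : ℕ, 0 < h ∧ ∀ m : ℕ, 0 < m → ℰ (m * h) = ℰ h ^ m := by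
  obtain ⟨q, n₀, hq, h⟩ := exists_period_submodule ℰ
  refine ⟨(n₀ + 1) * q, Nat.mul_pos n₀.succ_pos hq, ?_⟩
  have hge : n₀ ≤ (n₀ + 1) * q := n₀.le_succ.trans (Nat.le_mul_of_pos_right _ hq)
  have hrec : ∀ k n, n₀ ≤ n → ℰ (n + (k + 1) * q) = ℰ q ^ (k + 1) * ℰ n := by
    intro k
    induction k with
    | zero => intro n hn; simpa using h n hn
    | succ k ih =>
      intro n hn
      rw [show n + (k + 1 + 1) * q = (n + (k + 1) * q) + q by ring, h _ (hn.trans (by omega)),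
        ih n hn, ← mul_assoc, ← pow_succ']
  intro m hm
  induction m, hm using Nat.le_induction with
  | base => simp
  | succ m hm ih =>
    refine le_antisymm ?_ (pow_le_graded ℰ _ _ (Nat.succ_pos m))
    rw [show (m + 1) * ((n₀ + 1) * q) = m * ((n₀ + 1) * q) + (n₀ + 1) * q by ring,
      hrec n₀ _ (hge.trans (Nat.le_mul_of_pos_left _ hm)), ih, pow_succ' (ℰ ((n₀ + 1) * q))]
    exact mul_le_mul' (pow_le_graded ℰ q (n₀ + 1) n₀.succ_pos) le_rfl

end Algebra

end Groth.Agent.Proj16
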