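import Groth.Agent.Proj16.Points
import Mathlib.AlgebraicGeometry.ProjectiveSpectrum.Functor
import Mathlib.AlgebraicGeometry.Morphisms.ClosedImmersion

/-!
# Local properties of `Proj.map`, reduced and integral `Proj`
-/

universe u

open SetLike DirectSum AlgebraicGeometry HomogeneousIdeal HomogeneousLocalization CategoryTheory
  CategoryTheory.Limits

namespace Groth.Agent.Proj16

variable {A σ B τ : Type u} [CommRing A] [SetLike σ A] [AddSubgroupClass σ A]
variable [CommRing B] [SetLike τ B] [AddSubgroupClass τ B]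
variable {𝒜 : ℕ → σ} [GradedRing 𝒜] {ℬ : ℕ → τ} [GradedRing ℬ]
variable (φ : 𝒜 →+*ᵍ ℬ) (hφ : irrelevant ℬ ≤ (irrelevant 𝒜).map φ)

lemma proj_map_commutes (i : ℕ) (a : A) :
    φ (GradedRing.proj 𝒜 i a) = GradedRing.proj ℬ i (φ a) := by
  simp [GradedRing.proj_apply]

lemma exists_mem_of_surjective (hφ : Function.Surjective φ) {n : ℕ} {b : B} (hb : b ∈ ℬ n) :
    ∃ a ∈ 𝒜 n, φ a = b := by
  obtain ⟨a, rfl⟩ := hφ b
  exact ⟨_, proj_mem 𝒜 n a, by rw [proj_map_commutes, proj_of_mem ℬ hb]⟩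

lemma awayMap_surjective {s : A} {d : ℕ} (hs : s ∈ 𝒜 d) (hφ : Function.Surjective φ) :
    Function.Surjective (Away.map φ s) := by
  intro x
  obtain ⟨n, b, hb, rfl⟩ := x.mk_surjective ℬ (φ.2 hs)
  obtain ⟨a, ha, rfl⟩ := exists_mem_of_surjective φ hφ hb
  exact ⟨Away.mk 𝒜 hs n a ha, Away.map_mk ..⟩

lemma awayMk_succ {s : A} {d : ℕ} (hs : s ∈ 𝒜 d) (n : ℕ) (a : A) (ha : a ∈ 𝒜 (n • d)) :
    Away.mk 𝒜 hs n a ha = Away.mk 𝒜 hs (n + 1) (s * a) (by
      simpa [Nat.succ_mul, add_comm] using SetLike.mul_mem_graded hs ha) := by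
  apply HomogeneousLocalization.val_injective
  simp only [Away.val_mk, Localization.mk_eq_mk_iff, Localization.r_iff_exists]
  exact ⟨1, by simp [pow_succ]; ring⟩

lemma awayMap_bijective {s : A} {d : ℕ} (hd : 0 < d) (hs : s ∈ 𝒜 d)
    (h : ∀ n : ℕ, 0 < n → Set.BijOn φ (𝒜 n : Set A) (ℬ n : Set B)) :
    Function.Bijective (Away.map φ s) := by
  constructor
  · rw [injective_iff_map_eq_zero]
    intro x hx
    obtain ⟨n, a, ha, rfl⟩ := x.mk_surjective 𝒜 hs
    rw [Away.map_mk, ← (HomogeneousLocalization.val_injective _).eq_iff,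
      Away.val_mk, HomogeneousLocalization.val_zero, Localization.mk_eq_mk'] at hx
    obtain ⟨⟨_, m, rfl⟩, hm⟩ := (IsLocalization.mk'_eq_zero_iff _ _).mp hx
    apply HomogeneousLocalization.val_injective
    rw [Away.val_mk, HomogeneousLocalization.val_zero, Localization.mk_eq_mk']
    refine (IsLocalization.mk'_eq_zero_iff _ _).mpr ⟨⟨s ^ (m + 1), _, rfl⟩, ?_⟩
    have hmem : s ^ (m + 1) * a ∈ 𝒜 ((m + 1) • d + n • d) :=
      SetLike.mul_mem_graded (SetLike.pow_mem_graded _ hs) ha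
    have hpos : 0 < (m + 1) • d + n • d := by simp only [smul_eq_mul]; positivity
    refine (h _ hpos).injOn hmem (zero_mem _) ?_
    change φ s ^ m * φ a = 0 at hm
    rw [map_zero, map_mul, map_pow, pow_succ']
    rw [mul_assoc, hm, mul_zero]
  · intro x
    obtain ⟨n, b, hb, rfl⟩ := x.mk_surjective ℬ (φ.2 hs)
    rw [awayMk_succ]
    obtain ⟨a, ha, hab⟩ := (h ((n + 1) • d) (by simp only [smul_eq_mul]; positivity)).surjOn
      (show φ s * b ∈ ℬ ((n + 1) • d) by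
        simpa [Nat.succ_mul, add_comm] using SetLike.mul_mem_graded (φ.2 hs) hb)
    refine ⟨Away.mk 𝒜 hs (n + 1) a ha, ?_⟩
    rw [Away.map_mk]
    congr 1

/-- A property local at the target holds for `Proj.map` if it holds on the standard charts. -/
lemma map_of_away {P : MorphismProperty Scheme.{u}} [IsZariskiLocalAtTarget P]
    (h : ∀ (d : ℕ) (s : A), 0 < d → s ∈ 𝒜 d → P (Spec.map (CommRingCat.ofHom (Away.map φ s)))) :
    P (Proj.map φ hφ) := by
  refine IsZariskiLocalAtTarget.of_openCover (Proj.affineOpenCover 𝒜).openCover fun i ↦ ?_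
  let hs := i.2.2
  have sq : IsPullback (Spec.map (CommRingCat.ofHom (Away.map φ (i.2 : A))))
      (Proj.awayι ℬ (φ i.2) (φ.2 hs) i.1.2) (Proj.awayι 𝒜 _ hs i.1.2) (Proj.map φ hφ) := by
    refine IsOpenImmersion.isPullback _ _ _ _ (Proj.awayι_comp_map φ hφ i.1.2 _ hs) ?_
    rw [Proj.opensRange_awayι, Proj.opensRange_awayι, Proj.map_preimage_basicOpen]
  change P (pullback.snd (Proj.map φ hφ) (Proj.awayι 𝒜 _ hs i.1.2))
  rw [← sq.flip.isoPullback_inv_snd]
  exact (MorphismProperty.cancel_left_of_respectsIso P _ _).mpr (h _ _ i.1.2 hs)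

lemma isAffineHom_map : IsAffineHom (Proj.map φ hφ) :=
  map_of_away φ hφ fun _ _ _ _ ↦ inferInstance

lemma isClosedImmersion_map (hsurj : Function.Surjective φ) : IsClosedImmersion (Proj.map φ hφ) :=
  map_of_away φ hφ fun _ _ _ hs ↦
    IsClosedImmersion.spec_of_surjective _ (awayMap_surjective φ hs hsurj)

lemma isIso_map_of_bijOn (h : ∀ n : ℕ, 0 < n → Set.BijOn φ (𝒜 n : Set A) (ℬ n : Set B)) :
    IsIso (Proj.map φ hφ) :=
  map_of_away (P := MorphismProperty.isomorphisms Scheme.{u}) φ hφ fun _ s hd hs ↦ by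
    have : IsIso (CommRingCat.ofHom (Away.map φ s)) :=
      (ConcreteCategory.isIso_iff_bijective _).mpr (awayMap_bijective φ hd hs h)
    simp only [MorphismProperty.isomorphisms.iff]
    infer_instance

lemma exists_basicOpen_subset {U : Set (Proj 𝒜)} (hU : IsOpen U) {x : Proj 𝒜} (hx : x ∈ U) :
    ∃ (d : ℕ) (f : A), 0 < d ∧ f ∈ 𝒜 d ∧ x ∈ Proj.basicOpen 𝒜 f ∧
      (Proj.basicOpen 𝒜 f : Set (Proj 𝒜)) ⊆ U := by
  obtain ⟨_, ⟨h, rfl⟩, hxh, hsub⟩ :=
    (ProjectiveSpectrum.isTopologicalBasis_basic_opens 𝒜).exists_subset_of_mem_open hx hU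
  have hxh' : h ∉ x.asHomogeneousIdeal := hxh
  obtain ⟨i, hi⟩ : ∃ i, GradedRing.proj 𝒜 i h ∉ x.asHomogeneousIdeal := by
    by_contra! H
    exact hxh' (mem_of_forall_proj_mem 𝒜 (s := x.asHomogeneousIdeal.toIdeal) H)
  obtain ⟨j, hj⟩ : ∃ (j : Σ i : PNat, 𝒜 i), (j.2 : A) ∉ x.asHomogeneousIdeal := by
    by_contra! H
    refine x.not_irrelevant_le ?_
    rw [← toIdeal_le_toIdeal_iff, irrelevant_eq_span, Ideal.span_le]
    simp only [Set.iUnion_subset_iff]
    exact fun i hi a ha ↦ H ⟨⟨i, hi⟩, ⟨a, ha⟩⟩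
  refine ⟨j.1 + i, j.2 * GradedRing.proj 𝒜 i h, Nat.add_pos_left j.1.2 _,
    SetLike.mul_mem_graded j.2.2 (proj_mem 𝒜 i h), ?_, ?_⟩
  · exact fun hmem ↦ (x.isPrime.mem_or_mem hmem).elim hj hi
  · refine fun y hy ↦ hsub fun hyh ↦ hy (Ideal.mul_mem_left _ _ ?_)
    exact y.asHomogeneousIdeal.isHomogeneous i hyh

lemma denseRange_map (hker : ∀ a : A, φ a = 0 → IsNilpotent a) :
    DenseRange (Proj.map φ hφ) := by
  rw [DenseRange, dense_iff_inter_open]
  intro U hU ⟨x, hx⟩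
  obtain ⟨d, f, hd, hf, hxf, hsub⟩ := exists_basicOpen_subset hU hx
  obtain ⟨y, hy⟩ : (Proj.basicOpen ℬ (φ f) : Set (Proj ℬ)).Nonempty := by
    suffices φ f ∉ (⊥ : Ideal B).radical by
      obtain ⟨y, -, hy⟩ := exists_point ℬ (Ideal.IsHomogeneous.bot ℬ) hd (φ.2 hf) this
      exact ⟨y, hy⟩
    rintro ⟨n, hn⟩
    obtain ⟨m, hm⟩ := hker _ ((map_pow φ f n).trans hn)
    refine hxf (x.isPrime.mem_of_pow_mem (n * m) ?_)
    rw [pow_mul, hm]
    exact zero_mem _
  exact ⟨_, hsub (show Proj.map φ hφ y ∈ Proj.basicOpen 𝒜 f from hy), y, rfl⟩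

section Reduced

variable (𝒜)

lemma isReduced_away (hred : ∀ f ∈ (irrelevant 𝒜).toIdeal, IsNilpotent f → f = 0)
    {s : A} {d : ℕ} (hd : 0 < d) (hs : s ∈ 𝒜 d) : _root_.IsReduced (Away 𝒜 s) := by
  refine ⟨fun x ⟨N, hN⟩ ↦ ?_⟩
  obtain ⟨n, a, ha, rfl⟩ := x.mk_surjective 𝒜 hs
  have := congrArg HomogeneousLocalization.val hN
  rw [HomogeneousLocalization.val_pow, Away.val_mk, HomogeneousLocalization.val_zero,
    Localization.mk_pow, Localization.mk_eq_mk'] at this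
  obtain ⟨⟨_, m, rfl⟩, hm⟩ := (IsLocalization.mk'_eq_zero_iff _ _).mp this
  have hnil : IsNilpotent (s * a) := by
    refine ⟨N + m, ?_⟩
    change s ^ m * a ^ N = 0 at hm
    calc (s * a) ^ (N + m) = s ^ N * a ^ m * (s ^ m * a ^ N) := by ring
      _ = 0 := by rw [hm, mul_zero]
  have h0 := hred _ (Ideal.mul_mem_right a _ (mem_irrelevant_of_mem 𝒜 hd hs)) hnil
  apply HomogeneousLocalization.val_injective
  rw [Away.val_mk, HomogeneousLocalization.val_zero, Localization.mk_eq_mk']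
  exact (IsLocalization.mk'_eq_zero_iff _ _).mpr ⟨⟨s, 1, pow_one s⟩, h0⟩

lemma isReduced_proj (hred : ∀ f ∈ (irrelevant 𝒜).toIdeal, IsNilpotent f → f = 0) :
    AlgebraicGeometry.IsReduced (Proj 𝒜) :=
  have : ∀ i, AlgebraicGeometry.IsReduced ((Proj.affineOpenCover 𝒜).openCover.X i) := fun i ↦ by
    have := isReduced_away 𝒜 hred i.1.2 i.2.2
    exact inferInstanceAs (AlgebraicGeometry.IsReduced
      (Spec (.of (Away 𝒜 (i.2 : A)))))
  IsReduced.of_openCover (X := Proj 𝒜) (Proj.affineOpenCover 𝒜).openCover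

lemma isIntegral_proj_iff (hred : ∀ f ∈ (irrelevant 𝒜).toIdeal, IsNilpotent f → f = 0) :
    AlgebraicGeometry.IsIntegral (Proj 𝒜) ↔
      ((∃ f ∈ (irrelevant 𝒜).toIdeal, f ≠ 0) ∧
        ∀ f ∈ (irrelevant 𝒜).toIdeal, ∀ g ∈ (irrelevant 𝒜).toIdeal,
          f * g = 0 → f = 0 ∨ g = 0) := by
  constructor
  · intro h
    obtain ⟨x₀⟩ := (inferInstance : Nonempty (Proj 𝒜))
    have hir : IrreducibleSpace (Proj 𝒜) := inferInstance
    refine ⟨?_, fun f hf g hg hfg ↦ ?_⟩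
    · by_contra! H
      exact x₀.not_irrelevant_le fun f hf ↦ (H f hf).symm ▸ zero_mem _
    · have hsub : (Set.univ : Set (Proj 𝒜)) ⊆ ProjectiveSpectrum.zeroLocus 𝒜 {f} ∪
          ProjectiveSpectrum.zeroLocus 𝒜 {g} := fun x _ ↦ by
        rcases x.isPrime.mem_or_mem (show f * g ∈ x.asHomogeneousIdeal.toIdeal from
          hfg ▸ zero_mem _) with h | h
        · exact Or.inl (Set.singleton_subset_iff.mpr h)
        · exact Or.inr (Set.singleton_subset_iff.mpr h)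
      have key : ∀ a ∈ (irrelevant 𝒜).toIdeal,
          Set.univ ⊆ ProjectiveSpectrum.zeroLocus 𝒜 {a} → a = 0 := fun a ha hsub ↦
        hred a ha (mem_nilradical.mp (mem_radical_of_forall_point 𝒜 (I := ⊥)
          (Ideal.IsHomogeneous.bot 𝒜) ha fun x _ ↦ hsub (Set.mem_univ x) (Set.mem_singleton a)))
      exact (isPreirreducible_iff_isClosed_union_isClosed.mp
        (IrreducibleSpace.isIrreducible_univ (Proj 𝒜)).isPreirreducible _ _
        (ProjectiveSpectrum.isClosed_zeroLocus 𝒜 _) (ProjectiveSpectrum.isClosed_zeroLocus 𝒜 _)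
        hsub).imp (key f hf) (key g hg)
  · rintro ⟨⟨f, hf, hf0⟩, hprime⟩
    have := isReduced_proj 𝒜 hred
    have : Nonempty (Proj 𝒜) := by
      rw [← not_isEmpty_iff]
      exact fun h ↦ hf0 (hred f hf ((isEmpty_iff_forall_isNilpotent 𝒜).mp h f hf))
    have : PreirreducibleSpace (Proj 𝒜) := ⟨by
      rintro U V hU hV ⟨x, -, hx⟩ ⟨y, -, hy⟩
      obtain ⟨i, a, hi, ha, hxa, hsa⟩ := exists_basicOpen_subset hU hx
      obtain ⟨j, b, hj, hb, hyb, hsb⟩ := exists_basicOpen_subset hV hy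
      have hab : a * b ≠ 0 := fun h ↦ by
        rcases hprime a (mem_irrelevant_of_mem 𝒜 hi ha) b (mem_irrelevant_of_mem 𝒜 hj hb) h
          with h | h
        · exact hxa (h ▸ zero_mem _)
        · exact hyb (h ▸ zero_mem _)
      obtain ⟨z, -, hz⟩ := exists_point 𝒜 (Ideal.IsHomogeneous.bot 𝒜) (Nat.add_pos_left hi j)
        (SetLike.mul_mem_graded ha hb) fun h ↦ hab (hred _
          (mem_irrelevant_of_mem 𝒜 (Nat.add_pos_left hi j) (SetLike.mul_mem_graded ha hb))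
          (mem_nilradical.mp h))
      exact ⟨z, trivial, hsa fun h ↦ hz (Ideal.mul_mem_right _ _ h),
        hsb fun h ↦ hz (Ideal.mul_mem_left _ _ h)⟩⟩
    have : IrreducibleSpace (Proj 𝒜) := ⟨inferInstance⟩
    exact isIntegral_of_irreducibleSpace_of_isReduced _

end Reduced

end Groth.Agent.Proj16
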