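import Groth.Prelude.Def_RelProj
import Groth.Agent.Proj16.Map

/-!
# Gluing morphisms out of a scheme over affine opens of the base; basics on relative `Proj`
-/

universe u

open CategoryTheory CategoryTheory.Limits AlgebraicGeometry TopologicalSpace Opposite
open scoped HomogeneousIdeal

noncomputable section

namespace Groth.Agent.Proj16

section glue

variable {Y P Q : Scheme.{u}} (p : P ⟶ Y)

/-- The open cover of `P` by the preimages of the affine opens of `Y`. -/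
def preimageCover : P.OpenCover :=
  P.openCoverOfIsOpenCover (fun U : Y.affineOpens ↦ p ⁻¹ᵁ U.1)
    (by rw [IsOpenCover, ← p.preimage_iSup, iSup_affineOpens_eq_top, p.preimage_top])

@[simp] lemma preimageCover_f (U : Y.affineOpens) : (preimageCover p).f U = (p ⁻¹ᵁ U.1).ι := rfl

variable {p}

lemma hom_ext_affine {g₁ g₂ : P ⟶ Q}
    (h : ∀ (U : Y.Opens), IsAffineOpen U → (p ⁻¹ᵁ U).ι ≫ g₁ = (p ⁻¹ᵁ U).ι ≫ g₂) : g₁ = g₂ :=
  (preimageCover p).hom_ext g₁ g₂ fun U ↦ h U.1 U.2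

variable (f : ∀ (U : Y.Opens), IsAffineOpen U → ((p ⁻¹ᵁ U : P.Opens).toScheme ⟶ Q))
  (hf : ∀ (U : Y.Opens) (hU : IsAffineOpen U) (r : Γ(Y, U)),
    P.homOfLE (p.preimage_mono (Y.basicOpen_le r)) ≫ f U hU = f _ (hU.basicOpen r))

include hf in
lemma glue_aux {U V : Y.Opens} (hU : IsAffineOpen U) (hV : IsAffineOpen V) :
    P.homOfLE (inf_le_left : p ⁻¹ᵁ U ⊓ p ⁻¹ᵁ V ≤ p ⁻¹ᵁ U) ≫ f U hU =
      P.homOfLE (inf_le_right : p ⁻¹ᵁ U ⊓ p ⁻¹ᵁ V ≤ p ⁻¹ᵁ V) ≫ f V hV := by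
  have key : ∀ x : ↑(p ⁻¹ᵁ U ⊓ p ⁻¹ᵁ V), ∃ (W : P.Opens) (hW : W ≤ p ⁻¹ᵁ U ⊓ p ⁻¹ᵁ V),
      x.1 ∈ W ∧ P.homOfLE (hW.trans inf_le_left) ≫ f U hU =
        P.homOfLE (hW.trans inf_le_right) ≫ f V hV := by
    rintro ⟨x, hxU, hxV⟩
    obtain ⟨r, s, e, hx⟩ := exists_basicOpen_le_affine_inter hU hV (p x) ⟨hxU, hxV⟩
    refine ⟨p ⁻¹ᵁ Y.basicOpen r, le_inf (p.preimage_mono (Y.basicOpen_le r))
      (p.preimage_mono (e ▸ Y.basicOpen_le s)), hx, ?_⟩
    rw [hf U hU r]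
    have h1 : P.homOfLE (p.preimage_mono e.le) ≫ f _ (hV.basicOpen s) = f _ (hU.basicOpen r) := by
      clear hx
      revert e
      generalize hU.basicOpen r = h₁
      revert h₁
      generalize Y.basicOpen r = W
      rintro h₁ rfl
      simp
    rw [← h1, ← hf V hV s, Scheme.homOfLE_homOfLE_assoc]
  refine Scheme.hom_ext_of_forall _ _ fun x ↦ ?_
  obtain ⟨W, hW, hxW, hcomp⟩ := key x
  let O : P.Opens := p ⁻¹ᵁ U ⊓ p ⁻¹ᵁ V
  refine ⟨O.ι ⁻¹ᵁ W, hxW, ?_⟩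
  have hr : Set.range ((O.ι ⁻¹ᵁ W).ι ≫ O.ι) ⊆ Set.range W.ι := by
    rintro _ ⟨y, rfl⟩
    rw [Scheme.Opens.range_ι]
    exact y.2
  let j := IsOpenImmersion.lift W.ι ((O.ι ⁻¹ᵁ W).ι ≫ O.ι) hr
  have hj : ∀ (T : P.Opens) (hT : O ≤ T),
      (O.ι ⁻¹ᵁ W).ι ≫ P.homOfLE hT = j ≫ P.homOfLE (hW.trans hT) := fun T hT ↦ by
    rw [← cancel_mono T.ι, Category.assoc, Category.assoc, Scheme.homOfLE_ι, Scheme.homOfLE_ι]
    exact (IsOpenImmersion.lift_fac _ _ _).symm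
  rw [reassoc_of% (hj _ inf_le_left), reassoc_of% (hj _ inf_le_right), hcomp]

include hf in
/-- A family of morphisms on the preimages of the affine opens of the base, compatible with
restriction to basic opens, glues uniquely. -/
theorem existsUnique_glue :
    ∃! g : P ⟶ Q, ∀ (U : Y.Opens) (hU : IsAffineOpen U), (p ⁻¹ᵁ U).ι ≫ g = f U hU := by
  have h : ∀ (U : Y.Opens) (hU : IsAffineOpen U) (V : Y.Opens) (hV : IsAffineOpen V),
      pullback.fst (p ⁻¹ᵁ U).ι (p ⁻¹ᵁ V).ι ≫ f U hU =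
        pullback.snd (p ⁻¹ᵁ U).ι (p ⁻¹ᵁ V).ι ≫ f V hV := by
    intro U hU V hV
    let O : P.Opens := p ⁻¹ᵁ U ⊓ p ⁻¹ᵁ V
    have hr : Set.range (pullback.fst (p ⁻¹ᵁ U).ι (p ⁻¹ᵁ V).ι ≫ (p ⁻¹ᵁ U).ι) ⊆
        Set.range O.ι := by
      rintro _ ⟨y, rfl⟩
      rw [Scheme.Opens.range_ι]
      refine ⟨(pullback.fst (p ⁻¹ᵁ U).ι (p ⁻¹ᵁ V).ι y).2, ?_⟩
      rw [pullback.condition]
      exact (pullback.snd (p ⁻¹ᵁ U).ι (p ⁻¹ᵁ V).ι y).2
    let j := IsOpenImmersion.lift O.ι (pullback.fst (p ⁻¹ᵁ U).ι (p ⁻¹ᵁ V).ι ≫ (p ⁻¹ᵁ U).ι) hr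
    have hjU : pullback.fst (p ⁻¹ᵁ U).ι (p ⁻¹ᵁ V).ι = j ≫ P.homOfLE (inf_le_left : O ≤ _) := by
      rw [← cancel_mono (p ⁻¹ᵁ U).ι, Category.assoc, Scheme.homOfLE_ι]
      exact (IsOpenImmersion.lift_fac _ _ _).symm
    have hjV : pullback.snd (p ⁻¹ᵁ U).ι (p ⁻¹ᵁ V).ι = j ≫ P.homOfLE (inf_le_right : O ≤ _) := by
      rw [← cancel_mono (p ⁻¹ᵁ V).ι, Category.assoc, Scheme.homOfLE_ι]
      exact pullback.condition.symm.trans (IsOpenImmersion.lift_fac _ _ _).symm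
    rw [hjU, hjV, Category.assoc, Category.assoc, glue_aux f hf hU hV]
  let g := (preimageCover p).glueMorphisms (fun U ↦ f U.1 U.2) fun U V ↦ h U.1 U.2 V.1 V.2
  have hg : ∀ (U : Y.Opens) (hU : IsAffineOpen U), (p ⁻¹ᵁ U).ι ≫ g = f U hU :=
    fun U hU ↦ (preimageCover p).ι_glueMorphisms (fun U ↦ f U.1 U.2) _ ⟨U, hU⟩
  exact ⟨g, hg, fun g' hg' ↦ hom_ext_affine fun U hU ↦ (hg' U hU).trans (hg U hU).symm⟩

end glue

section relProj

variable {Y P : Scheme.{u}} {𝒮 : RelProj.QCGrAlg Y} {p : P ⟶ Y}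
  {chart : ∀ (U : Y.Opens) (hU : IsAffineOpen U),
    (((p ⁻¹ᵁ U : P.Opens) : Scheme.{u}) ≅ Proj (𝒮.deg U hU))}
  (hP : RelProj.IsRelProj 𝒮 p chart)
include hP

lemma morphismRestrict_eq (U : Y.Opens) (hU : IsAffineOpen U) :
    p ∣_ U = (chart U hU).hom ≫ Proj.toSpecZero (𝒮.deg U hU) ≫ Spec.map (𝒮.strZero U hU) ≫
      hU.isoSpec.inv := by
  rw [← cancel_mono U.ι, morphismRestrict_ι]
  simpa using (hP.chart_over U hU).symm

/-- A property local at the target holds for `Proj 𝒮 ⟶ Y` if it holds over the affine opens. -/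
lemma of_affineOpens (Pr : MorphismProperty Scheme.{u}) [IsZariskiLocalAtTarget Pr]
    (h : ∀ (U : Y.Opens) (hU : IsAffineOpen U),
      Pr (Proj.toSpecZero (𝒮.deg U hU) ≫ Spec.map (𝒮.strZero U hU))) : Pr p := by
  refine IsZariskiLocalAtTarget.of_iSup_eq_top (fun U : Y.affineOpens ↦ U.1)
    (iSup_affineOpens_eq_top Y) fun U ↦ ?_
  rw [morphismRestrict_eq hP U.1 U.2, MorphismProperty.cancel_left_of_respectsIso Pr,
    ← Category.assoc, MorphismProperty.cancel_right_of_respectsIso Pr]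
  exact h U.1 U.2

lemma isSeparated : IsSeparated p :=
  of_affineOpens hP @IsSeparated fun _ _ ↦ inferInstance

lemma finiteType_of_finiteType
    (hft : ∀ (U : Y.Opens) (_ : IsAffineOpen U), (𝒮.str.app (op U)).hom.FiniteType) :
    LocallyOfFiniteType p ∧ QuasiCompact p := by
  have key : ∀ (U : Y.Opens) (hU : IsAffineOpen U),
      Algebra.FiniteType (𝒮.deg U hU 0) (𝒮.presheaf.obj (op U)) ∧
        (𝒮.strZero U hU).hom.FiniteType := fun U hU ↦ by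
    refine ⟨?_, ?_⟩
    · obtain ⟨T, hT⟩ := (hft U hU : @Algebra.FiniteType _ _ _ _ (𝒮.str.app (op U)).hom.toAlgebra)
      refine ⟨⟨T, ?_⟩⟩
      rw [← top_le_iff]
      intro x hx
      letI := (𝒮.str.app (op U)).hom.toAlgebra
      have hx' : x ∈ Algebra.adjoin Γ(Y, U) (T : Set (𝒮.presheaf.obj (op U))) := hT ▸ trivial
      clear hx
      induction hx' using Algebra.adjoin_induction with
      | mem y hy => exact Algebra.subset_adjoin hy
      | algebraMap r =>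
        exact Subalgebra.algebraMap_mem (Algebra.adjoin (𝒮.deg U hU 0) _)
          ⟨_, 𝒮.str_mem U hU r⟩
      | add _ _ _ _ h₁ h₂ => exact add_mem h₁ h₂
      | mul _ _ _ _ h₁ h₂ => exact mul_mem h₁ h₂
    · have : (GradedRing.projZeroRingHom' (𝒮.deg U hU)).comp (𝒮.str.app (op U)).hom =
          (𝒮.strZero U hU).hom := RingHom.ext fun r ↦ Subtype.ext
        (DirectSum.decompose_of_mem_same _ (𝒮.str_mem U hU r))
      rw [← this]
      exact (hft U hU).comp_surjective (GradedRing.projZeroRingHom'_surjective _)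
  refine ⟨of_affineOpens hP @LocallyOfFiniteType fun U hU ↦ ?_,
    of_affineOpens hP @QuasiCompact fun U hU ↦ ?_⟩
  · have := (key U hU).1
    have : LocallyOfFiniteType (Spec.map (𝒮.strZero U hU)) :=
      (HasRingHomProperty.Spec_iff (P := @LocallyOfFiniteType)).mpr (key U hU).2
    infer_instance
  · have := (key U hU).1
    infer_instance

lemma isReduced
    (hred : ∀ (U : Y.Opens) (hU : IsAffineOpen U) (x : 𝒮.presheaf.obj (op U)),
      x ∈ (𝒮.deg U hU)₊ → IsNilpotent x → x = 0) : AlgebraicGeometry.IsReduced P :=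
  have : ∀ U, AlgebraicGeometry.IsReduced ((preimageCover p).X U) := fun U ↦ by
    have := isReduced_proj (𝒮.deg U.1 U.2) (hred U.1 U.2)
    exact isReduced_of_isOpenImmersion (chart U.1 U.2).hom
  IsReduced.of_openCover (X := P) (preimageCover p)

omit hP in
lemma existsUnique_iso_chart {P' : Scheme.{u}} {p' : P' ⟶ Y}
    {chart' : ∀ (U : Y.Opens) (hU : IsAffineOpen U),
      (((p' ⁻¹ᵁ U : P'.Opens) : Scheme.{u}) ≅ Proj (𝒮.deg U hU))}
    (hP : RelProj.IsRelProj 𝒮 p chart) (hP' : RelProj.IsRelProj 𝒮 p' chart') :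
    ∃! e : P ⟶ P', ∀ (U : Y.Opens) (hU : IsAffineOpen U),
      (p ⁻¹ᵁ U).ι ≫ e = (chart U hU).hom ≫ (chart' U hU).inv ≫ (p' ⁻¹ᵁ U).ι := by
  refine existsUnique_glue _ fun U hU r ↦ ?_
  have h' : Proj.map (𝒮.res hU (hU.basicOpen r) (Y.basicOpen_le r))
      (𝒮.irrelevant_le_map U hU r) ≫ (chart' U hU).inv =
      (chart' _ (hU.basicOpen r)).inv ≫ P'.homOfLE (p'.preimage_mono (Y.basicOpen_le r)) := by
    rw [Iso.comp_inv_eq, Category.assoc, hP'.chart_res U hU r, Iso.inv_hom_id_assoc]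
  rw [reassoc_of% (hP.chart_res U hU r), reassoc_of% h', Scheme.homOfLE_ι]

omit hP in
lemma isIso_of_chart {P' : Scheme.{u}} {p' : P' ⟶ Y}
    {chart' : ∀ (U : Y.Opens) (hU : IsAffineOpen U),
      (((p' ⁻¹ᵁ U : P'.Opens) : Scheme.{u}) ≅ Proj (𝒮.deg U hU))}
    (hP : RelProj.IsRelProj 𝒮 p chart) (hP' : RelProj.IsRelProj 𝒮 p' chart') {e : P ⟶ P'}
    (he : ∀ (U : Y.Opens) (hU : IsAffineOpen U),
      (p ⁻¹ᵁ U).ι ≫ e = (chart U hU).hom ≫ (chart' U hU).inv ≫ (p' ⁻¹ᵁ U).ι) :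
    IsIso e ∧ e ≫ p' = p := by
  obtain ⟨e', he', -⟩ := existsUnique_iso_chart hP' hP
  refine ⟨⟨e', hom_ext_affine (p := p) fun U hU ↦ ?_, hom_ext_affine (p := p') fun U hU ↦ ?_⟩,
    hom_ext_affine (p := p) fun U hU ↦ ?_⟩
  · rw [reassoc_of% (he U hU), he' U hU]; simp
  · rw [reassoc_of% (he' U hU), he U hU]; simp
  · rw [reassoc_of% (he U hU), ← hP'.chart_over U hU, Iso.inv_hom_id_assoc, hP.chart_over U hU]

end relProj

end Groth.Agent.Proj16
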