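import Groth.Agent.Proj16.RelExist

/-!
# Morphisms of relative `Proj`s, basic opens of global sections
-/

universe u

open CategoryTheory CategoryTheory.Limits AlgebraicGeometry TopologicalSpace Opposite
open scoped HomogeneousIdeal

noncomputable section

namespace Groth.Agent.Proj16

variable {Y : Scheme.{u}}

section map

variable {𝒜 ℬ : RelProj.QCGrAlg Y} (φ : 𝒜.toQCAlg ⟶ ℬ.toQCAlg) (hφ : RelProj.IsGradedHom φ)

lemma gradedHomAt_comp_res (U V : Y.Opens) (hU : IsAffineOpen U) (hV : IsAffineOpen V) (i : V ≤ U) :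
    (ℬ.res hU hV i).comp (RelProj.gradedHomAt φ hφ U hU) =
      (RelProj.gradedHomAt φ hφ V hV).comp (𝒜.res hU hV i) := by
  ext x
  exact ConcreteCategory.congr_hom (φ.hom.naturality (homOfLE i).op).symm x

variable (hirr : ∀ (U : Y.Opens) (hU : IsAffineOpen U),
      (ℬ.deg U hU)₊ ≤ ((𝒜.deg U hU)₊).map (RelProj.gradedHomAt φ hφ U hU))
variable {PA PB : Scheme.{u}} {pA : PA ⟶ Y} {pB : PB ⟶ Y}
  {chartA : ∀ (U : Y.Opens) (hU : IsAffineOpen U),
    (((pA ⁻¹ᵁ U : PA.Opens) : Scheme.{u}) ≅ Proj (𝒜.deg U hU))}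
  {chartB : ∀ (U : Y.Opens) (hU : IsAffineOpen U),
    (((pB ⁻¹ᵁ U : PB.Opens) : Scheme.{u}) ≅ Proj (ℬ.deg U hU))}
  (hA : RelProj.IsRelProj 𝒜 pA chartA) (hB : RelProj.IsRelProj ℬ pB chartB)

include hA hB

lemma existsUnique_isRelProjMap :
    ∃! h : PB ⟶ PA, RelProj.IsRelProjMap φ hφ hirr chartA chartB h := by
  refine existsUnique_glue _ fun U hU r ↦ ?_
  have hle := Y.basicOpen_le r
  have h1 : Proj.map (ℬ.res hU (hU.basicOpen r) hle) (ℬ.irrelevant_le_map U hU r) ≫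
      Proj.map (RelProj.gradedHomAt φ hφ U hU) (hirr U hU) =
      Proj.map (RelProj.gradedHomAt φ hφ _ (hU.basicOpen r)) (hirr _ _) ≫
        Proj.map (𝒜.res hU (hU.basicOpen r) hle) (𝒜.irrelevant_le_map U hU r) := by
    rw [← Proj.map_comp, ← Proj.map_comp]
    exact proj_map_congr (gradedHomAt_comp_res φ hφ U _ hU (hU.basicOpen r) hle) _ _
  have h2 : Proj.map (𝒜.res hU (hU.basicOpen r) hle) (𝒜.irrelevant_le_map U hU r) ≫
      (chartA U hU).inv =
      (chartA _ (hU.basicOpen r)).inv ≫ PA.homOfLE (pA.preimage_mono hle) := by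
    rw [Iso.comp_inv_eq, Category.assoc, hA.chart_res U hU r, Iso.inv_hom_id_assoc]
  rw [reassoc_of% (hB.chart_res U hU r), reassoc_of% h1, reassoc_of% h2, Scheme.homOfLE_ι]

variable {φ hφ hirr}
variable {h : PB ⟶ PA} (hh : RelProj.IsRelProjMap φ hφ hirr chartA chartB h)
include hh

lemma relProjMap_comp : h ≫ pA = pB := by
  refine hom_ext_affine (p := pB) fun U hU ↦ ?_
  rw [reassoc_of% (hh U hU), ← hA.chart_over U hU, Iso.inv_hom_id_assoc, ← hB.chart_over U hU,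
    ← toOpen_ι, ← toOpen_ι]
  congr 1
  rw [← Category.assoc]
  congr 1
  rw [← cancel_mono U.ι, Category.assoc, toOpen_ι, toOpen_ι]
  refine (Proj.mapAffineOpenCover _ (hirr U hU)).openCover.hom_ext _ _ ?_
  suffices h : ∀ (d : ℕ) (hd : 0 < d) (a : 𝒜.presheaf.obj (op U)) (ha : a ∈ 𝒜.deg U hU d),
      Proj.awayι (ℬ.deg U hU) (RelProj.gradedHomAt φ hφ U hU a)
          ((RelProj.gradedHomAt φ hφ U hU).2 ha) hd ≫
        Proj.map (RelProj.gradedHomAt φ hφ U hU) (hirr U hU) ≫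
          Proj.toSpecZero (𝒜.deg U hU) ≫ Spec.map (𝒜.strZero U hU) ≫ hU.fromSpec =
      Proj.awayι (ℬ.deg U hU) (RelProj.gradedHomAt φ hφ U hU a)
          ((RelProj.gradedHomAt φ hφ U hU).2 ha) hd ≫
          Proj.toSpecZero (ℬ.deg U hU) ≫ Spec.map (ℬ.strZero U hU) ≫ hU.fromSpec from
    fun s ↦ h s.1 s.1.2 s.2 s.2.2
  intro d hd a ha
  rw [Proj.awayι_comp_map_assoc _ _ hd a ha, Proj.awayι_toSpecZero_assoc,
    Proj.awayι_toSpecZero_assoc, ← Spec.map_comp_assoc, ← Spec.map_comp_assoc,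
    ← Spec.map_comp_assoc]
  congr 2
  ext r
  simp only [CommRingCat.hom_comp, CommRingCat.hom_ofHom, RingHom.comp_apply,
    HomogeneousLocalization.Away.map, HomogeneousLocalization.fromZeroRingHom, RingHom.coe_mk,
    MonoidHom.coe_mk, OneHom.coe_mk, HomogeneousLocalization.map_mk, HomogeneousLocalization.val_mk]
  refine congr_arg₂ Localization.mk ?_ (Subtype.ext (map_one _))
  exact ConcreteCategory.congr_hom (congr_app φ.comm (op U)) r

/-- A property local at the target holds for a map of relative `Proj`s if it holds affine-locally. -/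
lemma relProjMap_of_affineOpens (Pr : MorphismProperty Scheme.{u}) [IsZariskiLocalAtTarget Pr]
    (hPr : ∀ (U : Y.Opens) (hU : IsAffineOpen U),
      Pr (Proj.map (RelProj.gradedHomAt φ hφ U hU) (hirr U hU))) : Pr h := by
  have hcomp := relProjMap_comp hA hB hh
  refine IsZariskiLocalAtTarget.of_iSup_eq_top (fun U : Y.affineOpens ↦ pA ⁻¹ᵁ U.1)
    (by rw [← pA.preimage_iSup, iSup_affineOpens_eq_top, pA.preimage_top]) fun U ↦ ?_
  have heq : h ⁻¹ᵁ (pA ⁻¹ᵁ U.1) = pB ⁻¹ᵁ U.1 := by rw [← Scheme.Hom.comp_preimage, hcomp]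
  have : h ∣_ (pA ⁻¹ᵁ U.1) = (PB.isoOfEq heq).hom ≫ (chartB U.1 U.2).hom ≫
      Proj.map (RelProj.gradedHomAt φ hφ U.1 U.2) (hirr U.1 U.2) ≫ (chartA U.1 U.2).inv := by
    rw [← cancel_mono (pA ⁻¹ᵁ U.1).ι, morphismRestrict_ι]
    simp only [Category.assoc]
    rw [← hh U.1 U.2, Scheme.isoOfEq_hom_ι_assoc]
  rw [this, MorphismProperty.cancel_left_of_respectsIso Pr,
    MorphismProperty.cancel_left_of_respectsIso Pr, MorphismProperty.cancel_right_of_respectsIso Pr]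
  exact hPr U.1 U.2

end map

section basicOpen

variable {P : Scheme.{u}} {𝒮 : RelProj.QCGrAlg Y} {p : P ⟶ Y}
  {chart : ∀ (U : Y.Opens) (hU : IsAffineOpen U),
    (((p ⁻¹ᵁ U : P.Opens) : Scheme.{u}) ≅ Proj (𝒮.deg U hU))}
  (hP : RelProj.IsRelProj 𝒮 p chart) (f : 𝒮.presheaf.obj (op ⊤))

/-- `D₊(f)` inside `p⁻¹ U`. -/
abbrev basicOpenOn (chart : ∀ (U : Y.Opens) (hU : IsAffineOpen U),
    (((p ⁻¹ᵁ U : P.Opens) : Scheme.{u}) ≅ Proj (𝒮.deg U hU))) (f : 𝒮.presheaf.obj (op ⊤))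
    (U : Y.Opens) (hU : IsAffineOpen U) : P.Opens :=
  (p ⁻¹ᵁ U).ι ''ᵁ ((chart U hU).hom ⁻¹ᵁ
    Proj.basicOpen (𝒮.deg U hU) ((𝒮.presheaf.map (homOfLE le_top).op).hom f))

lemma basicOpenOn_le (U : Y.Opens) (hU : IsAffineOpen U) : basicOpenOn chart f U hU ≤ p ⁻¹ᵁ U :=
  ((p ⁻¹ᵁ U).ι.image_mono le_top).trans (p ⁻¹ᵁ U).ι_image_top.le

include hP in
lemma basicOpenOn_basicOpen (U : Y.Opens) (hU : IsAffineOpen U) (r : Γ(Y, U)) :
    basicOpenOn chart f (Y.basicOpen r) (hU.basicOpen r) =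
      basicOpenOn chart f U hU ⊓ p ⁻¹ᵁ Y.basicOpen r := by
  have key : (chart _ (hU.basicOpen r)).hom ⁻¹ᵁ Proj.basicOpen (𝒮.deg _ (hU.basicOpen r))
      ((𝒮.presheaf.map (homOfLE le_top).op).hom f) =
      P.homOfLE (p.preimage_mono (Y.basicOpen_le r)) ⁻¹ᵁ ((chart U hU).hom ⁻¹ᵁ
        Proj.basicOpen (𝒮.deg U hU) ((𝒮.presheaf.map (homOfLE le_top).op).hom f)) := by
    rw [← Scheme.Hom.comp_preimage, hP.chart_res U hU r, Scheme.Hom.comp_preimage,
      Proj.map_preimage_basicOpen]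
    congr 2
    exact ConcreteCategory.congr_hom (𝒮.presheaf.map_comp (homOfLE (le_top : U ≤ ⊤)).op
      (homOfLE (Y.basicOpen_le r)).op) f
  unfold basicOpenOn
  rw [key, Scheme.ι_image_homOfLE_eq_ι_image_inf]

include hP in
lemma basicOpenOn_inf_le (U V : Y.Opens) (hU : IsAffineOpen U) (hV : IsAffineOpen V) :
    basicOpenOn chart f V hV ⊓ p ⁻¹ᵁ U ≤ basicOpenOn chart f U hU := by
  rintro x ⟨hxV, hxU⟩
  obtain ⟨r, s, e, hx⟩ := exists_basicOpen_le_affine_inter hU hV (p x)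
    ⟨hxU, basicOpenOn_le f V hV hxV⟩
  have hxs : x ∈ basicOpenOn chart f (Y.basicOpen s) (hV.basicOpen s) := by
    rw [basicOpenOn_basicOpen hP f V hV s]
    exact ⟨hxV, (e ▸ hx : p x ∈ Y.basicOpen s)⟩
  have hxr : x ∈ basicOpenOn chart f (Y.basicOpen r) (hU.basicOpen r) := by
    convert hxs using 2
  rw [basicOpenOn_basicOpen hP f U hU r] at hxr
  exact hxr.1

include hP in
lemma exists_basicOpen_global :
    ∃ Xf : P.Opens, ∀ (U : Y.Opens) (hU : IsAffineOpen U),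
      Xf ⊓ p ⁻¹ᵁ U = basicOpenOn chart f U hU := by
  refine ⟨⨆ V : Y.affineOpens, basicOpenOn chart f V.1 V.2, fun U hU ↦ le_antisymm ?_ ?_⟩
  · rw [iSup_inf_eq]
    exact iSup_le fun V ↦ basicOpenOn_inf_le hP f U V.1 hU V.2
  · exact le_inf (le_iSup (fun V : Y.affineOpens ↦ basicOpenOn chart f V.1 V.2) ⟨U, hU⟩)
      (basicOpenOn_le f U hU)

end basicOpen

end Groth.Agent.Proj16
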