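import Groth.Agent.Proj16.DVRPath
import Groth.Agent.Proj16.UClosedAffine

/-!
# The valuative criteria with discrete valuation rings
-/

universe u

open CategoryTheory CategoryTheory.Limits AlgebraicGeometry

namespace Groth.Agent.Proj16

lemma universallyClosed_of_dvrExistence {X Y : Scheme.{u}} [IsLocallyNoetherian Y] (f : X ⟶ Y)
    [LocallyOfFiniteType f] [QuasiCompact f] (H : DVRExistence f) : UniversallyClosed f := by
  refine universallyClosed_of_affineSpace f fun n ↦ ?_
  have : IsLocallyNoetherian 𝔸(ULift.{u} (Fin n); Y) :=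
    LocallyOfFiniteType.isLocallyNoetherian (𝔸(ULift.{u} (Fin n); Y) ↘ Y)
  exact (isClosedMap_iff_specializingMap _).mpr
    ((H.pullback_snd (𝔸(ULift.{u} (Fin n); Y) ↘ Y)).specializingMap)

lemma dvrUniqueness_of_isSeparated {X Y : Scheme.{u}} (f : X ⟶ Y) [IsSeparated f] :
    DVRUniqueness f := by
  intro A _ _ _ g₁ g₂ h₁ h₂
  have hV : ValuativeCriterion.Uniqueness f :=
    (IsSeparated.eq_valuativeCriterion.le _ _ f ‹_›).1
  have w : CommSq (Spec.map (CommRingCat.ofHom (algebraMap A (FractionRing A))) ≫ g₁)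
      (Spec.map (CommRingCat.ofHom (algebraMap A (FractionRing A)))) f (g₁ ≫ f) :=
    ⟨Category.assoc _ _ _⟩
  exact congrArg CommSq.LiftStruct.l
    ((hV { R := A, K := FractionRing A, commSq := w, .. }).elim
      ⟨g₁, rfl, rfl⟩ ⟨g₂, h₂.symm, h₁.symm⟩)

lemma dvrExistence_of_universallyClosed {X Y : Scheme.{u}} (f : X ⟶ Y) [UniversallyClosed f] :
    DVRExistence f := by
  intro A _ _ _ x y w
  have hV : ValuativeCriterion.Existence f := (UniversallyClosed.eq_valuativeCriterion.le _ _ f ‹_›).1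
  obtain ⟨l, hl₁, hl₂⟩ :=
    (hV { R := A, K := FractionRing A, i₁ := x, i₂ := y, commSq := ⟨w⟩ }).exists_lift
  exact ⟨l, hl₂, hl₁⟩

lemma isProper_of_dvr {X Y : Scheme.{u}} [IsLocallyNoetherian Y] (f : X ⟶ Y) [LocallyOfFiniteType f]
    [QuasiCompact f] (he : DVRExistence f) (hu : DVRUniqueness f) : IsProper f := by
  have := isSeparated_of_dvrUniqueness hu
  have := universallyClosed_of_dvrExistence f he
  exact {}

end Groth.Agent.Proj16
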