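import Mathlib.LinearAlgebra.Eigenspace.Charpoly
import Mathlib.LinearAlgebra.Eigenspace.Minpoly
import Mathlib.LinearAlgebra.Charpoly.BaseChange
import Mathlib.RingTheory.Polynomial.IsIntegral
import Mathlib.RingTheory.Localization.BaseChange
import Mathlib.FieldTheory.IsAlgClosed.AlgebraicClosure

/-!
# Characteristic polynomials of endomorphisms of finite modules over a domain
-/

universe u

open Polynomial TensorProduct

namespace Groth.Agent.Proj16

variable (A : Type u) [CommRing A] [IsDomain A] (K : Type u) [Field K] [Algebra A K]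
variable (E : Type u) [AddCommGroup E] [Module A E] [Module.Finite A E]

lemma isIntegral_charpoly_coeff (u : E →ₗ[A] E) (i : ℕ) :
    IsIntegral A ((u.baseChange K).charpoly.coeff i) := by
  obtain ⟨p, hp, hpu⟩ := LinearMap.exists_monic_and_aeval_eq_zero A u
  let L := AlgebraicClosure K
  refine (isIntegral_algebraMap_iff (R := A) (algebraMap K L).injective).mp ?_
  have hm : ((u.baseChange K).charpoly.map (algebraMap K L)).Monic :=
    (u.baseChange K).charpoly_monic.map _
  rw [← coeff_map]
  refine isIntegral_coeff_of_factors _ (by simp [hm.leadingCoeff, isIntegral_one])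
    (IsAlgClosed.splits _) ?_ i
  intro x hx
  rw [← LinearMap.charpoly_baseChange,
    ← Module.End.hasEigenvalue_iff_isRoot_charpoly] at hx
  obtain ⟨v, hv⟩ := hx.exists_hasEigenvector
  have h0 : aeval (u.baseChange K) p = 0 := by
    have h := aeval_algHom_apply (Module.End.baseChangeHom A K E) u p
    rw [hpu, map_zero] at h
    exact h
  rw [← aeval_map_algebraMap K] at h0
  have h1 : aeval ((u.baseChange K).baseChange L) (p.map (algebraMap A K)) = 0 := by
    have h := aeval_algHom_apply (Module.End.baseChangeHom K L (K ⊗[A] E)) (u.baseChange K)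
      (p.map (algebraMap A K))
    rw [h0, map_zero] at h
    exact h
  rw [← aeval_map_algebraMap L] at h1
  have h2 := Module.End.aeval_apply_of_hasEigenvector (p := (p.map (algebraMap A K)).map (algebraMap K L)) hv
  rw [h1, LinearMap.zero_apply, Eq.comm, smul_eq_zero] at h2
  refine ⟨p, hp, ?_⟩
  rcases h2 with h2 | h2
  · rwa [Polynomial.map_map, ← IsScalarTower.algebraMap_eq, eval_map] at h2
  · exact absurd h2 hv.2

variable [IsFractionRing A K]

omit [Module.Finite A E] in
lemma mk_one_injective [Module.IsTorsionFree A E] :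
    Function.Injective (TensorProduct.mk A K E 1) := by
  rw [← LinearMap.ker_eq_bot, LinearMap.ker_eq_bot']
  intro x hx
  obtain ⟨c, hc⟩ := (IsLocalizedModule.eq_zero_iff (nonZeroDivisors A) _).mp hx
  exact (smul_eq_zero.mp (hc : (c : A) • x = 0)).resolve_left (nonZeroDivisors.ne_zero c.2)

lemma isUnit_of_det_eq (u : E →ₗ[A] E) (a : A)
    (ha : algebraMap A K a = LinearMap.det (u.baseChange K)) (hu : Function.Bijective u) :
    IsUnit a := by
  let e := LinearEquiv.ofBijective u hu
  let b := LinearMap.det (e.symm.toLinearMap.baseChange K)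
  have hab : algebraMap A K a * b = 1 := by
    rw [ha, ← map_mul, ← LinearMap.baseChange_mul]
    have : u * e.symm.toLinearMap = 1 := LinearMap.ext e.apply_symm_apply
    rw [this, LinearMap.baseChange_one, map_one]
  have hint : IsIntegral A b := by
    have := isIntegral_charpoly_coeff A K E e.symm.toLinearMap
    simp only [b, LinearMap.det_eq_sign_charpoly_coeff]
    exact ((isIntegral_one.neg).pow _).mul (this 0)
  obtain ⟨p, hp, hpb⟩ := hint
  have hn : p.natDegree ≠ 0 := by
    intro h
    rw [hp.natDegree_eq_zero.mp h] at hpb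
    simp at hpb
  have key : 1 + a * (∑ i ∈ Finset.range p.natDegree,
      p.coeff i * a ^ (p.natDegree - 1 - i)) = 0 := by
    apply IsFractionRing.injective A K
    have h2 : algebraMap A K a ^ p.natDegree * aeval b p = 0 := by
      rw [aeval_def, hpb, mul_zero]
    rw [aeval_eq_sum_range, Finset.sum_range_succ, mul_add, hp.coeff_natDegree, one_smul,
      ← mul_pow, hab, one_pow, Finset.mul_sum] at h2
    rw [map_zero, ← h2, map_add, map_one, Finset.mul_sum, map_sum, add_comm]
    congr 1
    refine Finset.sum_congr rfl fun i hi ↦ ?_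
    have hi' := Finset.mem_range.mp hi
    rw [Algebra.smul_def, show p.natDegree = 1 + (p.natDegree - 1 - i) + i by omega]
    simp only [map_mul, map_pow]
    rw [show (1 + (p.natDegree - 1 - i) + i - 1 - i) = p.natDegree - 1 - i by omega]
    have hpow : algebraMap A K a ^ i * b ^ i = 1 := by rw [← mul_pow, hab, one_pow]
    linear_combination (-(algebraMap A K (p.coeff i)) * algebraMap A K a ^
      (1 + (p.natDegree - 1 - i))) * hpow
  exact IsUnit.of_mul_eq_one _ (show a * (-∑ i ∈ Finset.range p.natDegree,
      p.coeff i * a ^ (p.natDegree - 1 - i)) = 1 by linear_combination -key)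

lemma bijective_of_isUnit_det [Module.IsTorsionFree A E] (u : E →ₗ[A] E)
    (hcoeff : ∀ i : ℕ, ((u.baseChange K).charpoly).coeff i ∈ (algebraMap A K).range)
    (a : A) (ha : algebraMap A K a = LinearMap.det (u.baseChange K)) (hunit : IsUnit a) :
    Function.Bijective u := by
  have hl : (u.baseChange K).charpoly ∈ Polynomial.lifts (algebraMap A K) :=
    (lifts_iff_coeff_lifts _).mpr fun n ↦ hcoeff n
  obtain ⟨q, hq⟩ := hl
  change q.map (algebraMap A K) = _ at hq
  have h0 : aeval u q = 0 := by
    refine LinearMap.ext fun x ↦ mk_one_injective A K E ?_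
    have h := aeval_algHom_apply (Module.End.baseChangeHom A K E) u q
    have h' : aeval (u.baseChange K) q = 0 := by
      rw [← aeval_map_algebraMap K, hq, LinearMap.aeval_self_charpoly]
    change aeval (u.baseChange K) q = (aeval u q).baseChange K at h
    have := LinearMap.congr_fun (h.symm.trans h') (1 ⊗ₜ x)
    simpa using this
  have hq0 : IsUnit (q.coeff 0) := by
    have hdet : algebraMap A K a =
        algebraMap A K ((-1) ^ Module.finrank K (K ⊗[A] E) * q.coeff 0) := by
      rw [ha, LinearMap.det_eq_sign_charpoly_coeff, ← hq, coeff_map]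
      simp
    rw [IsFractionRing.injective A K hdet] at hunit
    exact isUnit_of_mul_isUnit_right hunit
  have hk : aeval u q = u * aeval u q.divX + algebraMap A (Module.End A E) (q.coeff 0) := by
    have h := congrArg (aeval u) (X_mul_divX_add q)
    rw [map_add, map_mul, aeval_X, aeval_C] at h
    exact h.symm
  have hr : u * aeval u q.divX = - algebraMap A (Module.End A E) (q.coeff 0) :=
    eq_neg_of_add_eq_zero_left (hk ▸ h0)
  have hcomm : aeval u q.divX * u = u * aeval u q.divX := by
    conv_lhs => arg 2; rw [← aeval_X (R := A) u]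
    conv_rhs => arg 1; rw [← aeval_X (R := A) u]
    rw [← map_mul, ← map_mul, mul_comm]
  have hunit' : IsUnit (u * aeval u q.divX) := hr ▸ (hq0.map _).neg
  have hbij := (Module.End.isUnit_iff _).mp hunit'
  refine ⟨Function.Injective.of_comp (f := aeval u q.divX) ?_,
    Function.Surjective.of_comp (g := aeval u q.divX) hbij.2⟩
  have := hbij.1
  rw [← hcomm] at this
  exact this

end Groth.Agent.Proj16
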