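import Groth.Agent.Proj16.Centre

/-!
# Centres of discrete valuation rings
-/

universe u

open CategoryTheory CategoryTheory.Limits AlgebraicGeometry IsLocalRing TopologicalSpace

namespace Groth.Agent.Proj16

variable {X Y : Scheme.{u}} [IsIntegral X] (f : X ⟶ Y)

lemma hasCentres_of_dvr [Y.IsSeparated] [IsLocallyNoetherian Y] [LocallyOfFiniteType f]
    [QuasiCompact f]
    (H : ∀ R : ValuationSubring X.functionField, IsDiscreteValuationRing R →
      ∀ (y : Y) (hy : f (genericPoint X) ⤳ y), Dominates f R hy → ∃ x, IsCentre R x) :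
    HasCentres f := by
  classical
  intro R y hy hd
  rcases eq_or_ne R ⊤ with rfl | hR
  · exact ⟨_, isCentre_genericPoint⟩
  obtain ⟨_, ⟨W, hW, rfl⟩, hyW, -⟩ :=
    Y.isBasis_affineOpens.exists_subset_of_mem_open (Set.mem_univ y) isOpen_univ
  obtain ⟨s, hsf, hs⟩ := (isCompact_and_isOpen_iff_finite_and_eq_biUnion_affineOpens
    (X := X) (U := ((f ⁻¹ᵁ W : X.Opens) : Set X))).mp
      ⟨f.isCompact_preimage hW.isCompact, (f ⁻¹ᵁ W).2⟩
  have hηW : genericPoint X ∈ f ⁻¹ᵁ W := hy.mem_open W.2 hyW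
  have hgen : ∀ U : X.Opens, (U : Set X).Nonempty → genericPoint X ∈ U := fun U hU ↦
    ((genericPoint_spec X).mem_open_set_iff U.2).mpr (by simpa using hU)
  by_cases hcase : ∃ U ∈ s, ∃ hU : genericPoint X ∈ U.1, ∀ a : Γ(X, U.1),
      (X.presheaf.germ U.1 _ hU).hom a ∈ R
  · obtain ⟨⟨U, hUaff⟩, -, hU, hmem⟩ := hcase
    let ψ : Γ(X, U) ⟶ CommRingCat.of R :=
      CommRingCat.ofHom ((X.presheaf.germ U _ hU).hom.codRestrict R.toSubring hmem)
    refine ⟨_, isCentre_of_lift R (Spec.map ψ ≫ hUaff.fromSpec) ?_⟩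
    rw [← Spec.map_comp_assoc, ← hUaff.fromSpecStalk_eq_fromSpecStalk hU]
    rfl
  push_neg at hcase
  -- some elements of the function field without centre
  have : ∀ U : s, (U.1.1 : Set X).Nonempty → ∃ t : X.functionField, t ∉ R ∧
      ∀ x ∈ U.1.1, ∃ a : X.presheaf.stalk x,
        algebraMap (X.presheaf.stalk x) X.functionField a = t := fun U hne ↦ by
    obtain ⟨a, ha⟩ := hcase U.1 U.2 (hgen _ hne)
    have : Nonempty U.1.1 := hne.to_subtype
    exact ⟨_, ha, fun x hx ↦ ⟨X.presheaf.germ U.1.1 x hx a,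
      X.algebraMap_germ_eq_germToFunctionField hx a⟩⟩
  choose t htR ht using this
  have : Fintype s := hsf.fintype
  let S : Finset X.functionField :=
    Finset.univ.image fun U : {U : s // (U.1.1 : Set X).Nonempty} ↦ (t U.1 U.2)⁻¹
  have ht0 : ∀ U hU, t U hU ≠ 0 := fun U hU h ↦ htR U hU (h ▸ R.zero_mem)
  have htinv : ∀ U hU, (t U hU)⁻¹ ∈ R.nonunits := fun U hU ↦
    R.inv_mem_nonunits_iff.mpr (Or.inr (htR U hU))
  have hSne : ∃ z ∈ S, z ≠ 0 ∧ z ∈ R.nonunits := by
    obtain ⟨U, hU, hηU⟩ := Set.mem_iUnion₂.mp (hs.le hηW)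
    let U' : {U : s // (U.1.1 : Set X).Nonempty} := ⟨⟨U, hU⟩, _, hηU⟩
    exact ⟨_, Finset.mem_image_of_mem _ (Finset.mem_univ U'), inv_ne_zero (ht0 _ _), htinv _ _⟩
  have hSR : ∀ z ∈ S, z ∈ R := by
    intro z hz
    obtain ⟨U, -, rfl⟩ := Finset.mem_image.mp hz
    exact R.nonunits_subset (htinv _ _)
  let gW : Γ(Y, W) ⟶ X.functionField := Y.presheaf.germ W y hyW ≫ toFunctionField f hy
  let : Algebra Γ(Y, W) X.functionField := gW.hom.toAlgebra
  have : IsNoetherianRing Γ(Y, W) := IsLocallyNoetherian.component_noetherian ⟨W, hW⟩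
  have hηW' : f (genericPoint X) ∈ W := hηW
  have : Algebra.EssFiniteType Γ(Y, W) X.functionField := by
    refine RingHom.essFiniteType_algebraMap.mp ?_
    change gW.hom.EssFiniteType
    have : gW = Y.presheaf.germ W (f (genericPoint X)) hηW' ≫ f.stalkMap (genericPoint X) := by
      simp only [gW, toFunctionField]
      exact TopCat.Presheaf.germ_stalkSpecializes_assoc _ _ _ _
    rw [this, CommRingCat.hom_comp]
    let : Algebra Γ(Y, W) (Y.presheaf.stalk (f (genericPoint X))) :=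
      (Y.presheaf.germ W _ hηW').hom.toAlgebra
    have : IsLocalization.AtPrime (Y.presheaf.stalk (f (genericPoint X)))
        (hW.primeIdealOf ⟨_, hηW'⟩).asIdeal := hW.isLocalization_stalk ⟨_, hηW'⟩
    exact RingHom.EssFiniteType.comp (RingHom.essFiniteType_algebraMap.mpr
        (Algebra.EssFiniteType.of_isLocalization _ (hW.primeIdealOf ⟨_, hηW'⟩).asIdeal.primeCompl))
      (LocallyOfFiniteType.stalkMap f (genericPoint X))
  obtain ⟨V, hV, hVA, hVS⟩ := exists_dvr_of_valuationSubring R (A := Γ(Y, W))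
    (fun a ↦ hd.1 _) S hSR hSne
  -- `V` dominates `y`
  let : Algebra Γ(Y, W) (Y.presheaf.stalk y) := (Y.presheaf.germ W y hyW).hom.toAlgebra
  have : IsLocalization.AtPrime (Y.presheaf.stalk y) (hW.primeIdealOf ⟨y, hyW⟩).asIdeal :=
    hW.isLocalization_stalk ⟨y, hyW⟩
  have hsurj : ∀ a : Y.presheaf.stalk y, ∃ b c : Γ(Y, W),
      (algebraMap Γ(Y, W) X.functionField c)⁻¹ ∈ V ∧
      (toFunctionField f hy).hom a =
        algebraMap Γ(Y, W) X.functionField b * (algebraMap Γ(Y, W) X.functionField c)⁻¹ ∧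
      (a ∈ maximalIdeal (Y.presheaf.stalk y) → algebraMap Γ(Y, W) X.functionField b ∈ R.nonunits) := by
    intro a
    obtain ⟨⟨b, c⟩, hbc⟩ := IsLocalization.surj (hW.primeIdealOf ⟨y, hyW⟩).asIdeal.primeCompl a
    have hu : IsUnit (algebraMap Γ(Y, W) (Y.presheaf.stalk y) c) := IsLocalization.map_units _ c
    have hc0 : algebraMap Γ(Y, W) X.functionField c ≠ 0 := (hu.map (toFunctionField f hy).hom).ne_zero
    have hcR : algebraMap Γ(Y, W) X.functionField c ∉ R.nonunits := fun h ↦ by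
      rw [ValuationSubring.mem_nonunits_iff] at h
      have h1 : IsUnit ((toFunctionField f hy).hom.codRestrict R.toSubring hd.1
          (algebraMap Γ(Y, W) (Y.presheaf.stalk y) c)) := hu.map _
      exact h.ne ((R.valuation_eq_one_iff _).mp h1)
    refine ⟨b, c, ?_, ?_, fun ha ↦ ?_⟩
    · by_contra hn
      exact hcR ((hVA c).2.mp ((V.mem_nonunits_iff_or).mpr (Or.inr hn)))
    · rw [eq_mul_inv_iff_mul_eq₀ hc0]
      exact ((toFunctionField f hy).hom.map_mul a _).symm.trans (congrArg _ hbc)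
    · rw [ValuationSubring.mem_nonunits_iff]
      refine hd.2 _ ?_
      change algebraMap Γ(Y, W) (Y.presheaf.stalk y) b ∈ _
      rw [← hbc]
      exact Ideal.mul_mem_right _ _ ha
  have hVmem : ∀ a, (toFunctionField f hy).hom a ∈ V := fun a ↦ by
    obtain ⟨b, c, hc, he, -⟩ := hsurj a
    exact he ▸ V.mul_mem _ _ (hVA b).1 hc
  have hVloc : ∀ a ∈ maximalIdeal (Y.presheaf.stalk y),
      V.valuation ((toFunctionField f hy).hom a) < 1 := fun a ha ↦ by
    obtain ⟨b, c, hc, he, hb⟩ := hsurj a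
    rw [he, map_mul]
    exact mul_lt_one_of_lt_of_le ((ValuationSubring.mem_nonunits_iff _).mp ((hVA b).2.mpr (hb ha)))
      ((V.valuation_le_one_iff _).mpr hc)
  obtain ⟨x, hx⟩ := H V hV y hy ⟨hVmem, hVloc⟩
  have hfx : f x = y := by
    refine eq_of_dominated V (f.stalkMap x ≫
      CommRingCat.ofHom (algebraMap (X.presheaf.stalk x) X.functionField))
      (toFunctionField f hy) ?_ (fun a ↦ hx.1 _) hVmem (fun a ha ↦ ?_)
      (fun a ha ↦ (ValuationSubring.mem_nonunits_iff _).mpr (hVloc a ha))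
    · rw [specMap_toFunctionField, Spec.map_comp, Category.assoc,
        Scheme.SpecMap_stalkMap_fromSpecStalk, ← Category.assoc]
      exact congrArg (· ≫ f) (specMap_algebraMap_stalk x)
    · refine (ValuationSubring.mem_nonunits_iff _).mpr (hx.2 _ ?_)
      exact fun h ↦ ha (isUnit_of_map_unit (f.stalkMap x).hom a h)
  obtain ⟨U, hU, hxU⟩ := Set.mem_iUnion₂.mp (hs.le (show x ∈ f ⁻¹ᵁ W by simpa [hfx] using hyW))
  obtain ⟨a, ha⟩ := ht ⟨U, hU⟩ ⟨x, hxU⟩ x hxU
  let U' : {U : s // (U.1.1 : Set X).Nonempty} := ⟨⟨U, hU⟩, x, hxU⟩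
  exfalso
  exact ((V.inv_mem_nonunits_iff).mp
    ((hVS _ (Finset.mem_image_of_mem _ (Finset.mem_univ U'))).2.mpr (htinv _ _))).elim
      (ht0 _ _) (fun h ↦ h (ha ▸ hx.1 a))

end Groth.Agent.Proj16
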