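import Groth.Agent.VarDim.Fibre
import Groth.Agent.VarDim.IrredFibres

/-!
# One-dimensional schemes of finite type over a field
-/

universe u

open CategoryTheory AlgebraicGeometry TopologicalSpace

namespace Groth.Agent.Proj16

open VarDim

variable {k : Type u} [Field k] {X : Scheme.{u}} (p : X ⟶ Spec (CommRingCat.of k))
  [LocallyOfFiniteType p]

/-- The dimension of all local rings at closed points is one. -/
def ClosedDimOne (X : Scheme.{u}) : Prop :=
  ∀ x : X, IsClosed ({x} : Set X) → ringKrullDim (X.presheaf.stalk x) = 1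

/-- `z` is the generic point of an irreducible component. -/
def IsMaximalPoint (z : X) : Prop := ∀ y, y ⤳ z → y = z

lemma closedDimOne_iff_deg :
    ClosedDimOne X ↔ ∀ z : X, IsMaximalPoint z → deg p z = 1 := by
  constructor
  · intro h z hz
    obtain ⟨c, hzc, hc⟩ := exists_closed_specialization p z
    obtain ⟨b, hb, ⟨η, hη, hηd⟩, hle⟩ := exists_deg_add_stalk p c
    have hb1 : b = 1 := by
      have := hb.symm.trans (h c hc)
      exact_mod_cast this
    have h0 : deg p c = 0 := (closedPoint_iff_deg_eq_zero p c).1 hc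
    have h1 := hle z hzc
    rcases Nat.eq_zero_or_pos (deg p z) with hz0 | hpos
    · exfalso
      have hzcl : IsClosed ({z} : Set X) := (closedPoint_iff_deg_eq_zero p z).2 hz0
      obtain ⟨b', hb', ⟨η', hη', hηd'⟩, -⟩ := exists_deg_add_stalk p z
      have : b' = 1 := by
        have := hb'.symm.trans (h z hzcl)
        exact_mod_cast this
      rw [hz η' hη', hz0, this] at hηd'
      exact absurd hηd' (by omega)
    · omega
  · intro h c hc
    obtain ⟨b, hb, ⟨η, hη, hηd⟩, hle⟩ := exists_deg_add_stalk p c
    have h0 : deg p c = 0 := (closedPoint_iff_deg_eq_zero p c).1 hc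
    obtain ⟨η', hη', hmax⟩ := exists_maximal_generalization p η
    have h1 := h η' hmax
    have h2 := hle η' (hη'.trans hη)
    have h3 := deg_le_of_specializes p hη'
    have hb1 : b = 1 := by omega
    rw [hb, hb1]
    rfl

include p in
lemma eq_of_not_isClosed (h : ClosedDimOne X) {x z : X} (hx : ¬ IsClosed ({x} : Set X))
    (hzx : z ⤳ x) (hz : IsMaximalPoint z) : z = x := by
  refine eq_of_specializes_of_deg_le p hzx ?_
  have h1 := (closedDimOne_iff_deg p).1 h z hz
  have h2 : deg p x ≠ 0 := fun h0 ↦ hx ((closedPoint_iff_deg_eq_zero p x).2 h0)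
  omega

omit [Field k] in
lemma isMaximalPoint_of_closure {x : X} (hx : closure ({x} : Set X) ∈ irreducibleComponents X) :
    IsMaximalPoint x := by
  obtain ⟨z, hz, hmax⟩ := exists_generic_of_component hx
  have h1 : z ⤳ x := specializes_iff_mem_closure.2 (hz ▸ subset_closure rfl)
  have h2 : x ⤳ z := specializes_iff_mem_closure.2 (hz.symm ▸ subset_closure rfl)
  rw [(h2.antisymm h1).eq]
  exact hmax

include p in
lemma closedDimOne_iff_closed_irreducible :
    ClosedDimOne X ↔
      ((∀ F : Set X, IsClosed F → IsIrreducible F → F ∉ irreducibleComponents (X : Type u) →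
          ∃ x : X, IsClosed ({x} : Set X) ∧ F = {x}) ∧
        ∀ x : X, IsClosed ({x} : Set X) → ({x} : Set X) ∉ irreducibleComponents (X : Type u)) := by
  constructor
  · intro h
    refine ⟨fun F hF hirr hnc ↦ ?_, fun x hx hcomp ↦ ?_⟩
    · have hgen : closure {hirr.genericPoint} = F := by
        rw [hirr.genericPoint_closure_eq, hF.closure_eq]
      by_cases hcl : IsClosed ({hirr.genericPoint} : Set X)
      · exact ⟨_, hcl, hgen.symm.trans hcl.closure_eq⟩
      · obtain ⟨η, hη, hmax⟩ := exists_maximal_generalization p hirr.genericPoint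
        refine absurd ?_ hnc
        rw [← hgen, ← eq_of_not_isClosed p h hcl hη hmax]
        exact closure_mem_irreducibleComponents hmax
    · have hm := isMaximalPoint_of_closure (x := x) (by rwa [hx.closure_eq])
      have := (closedDimOne_iff_deg p).1 h x hm
      rw [(closedPoint_iff_deg_eq_zero p x).1 hx] at this
      exact zero_ne_one this
  · rintro ⟨h1, h2⟩
    refine (closedDimOne_iff_deg p).2 fun z hz ↦ ?_
    have hz0 : deg p z ≠ 0 := fun h0 ↦ by
      have hc := (closedPoint_iff_deg_eq_zero p z).2 h0
      refine h2 z hc ?_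
      rw [← hc.closure_eq]
      exact closure_mem_irreducibleComponents hz
    by_contra hne
    -- a point strictly between `z` and the closed points
    have hh : (2 : ℕ∞) ≤ Order.height z := by
      rw [height_eq_deg p z]
      exact_mod_cast (show 2 ≤ deg p z by omega)
    obtain ⟨s, hs, hlen⟩ := Order.exists_series_of_le_height z (n := 2) hh
    have hlt : s.eraseLast.last < z := hs ▸ RelSeries.eraseLast_last_rel_last s (by omega)
    let y := s.eraseLast.last
    have hy0 : deg p y ≠ 0 := by
      have h3 : ((s.eraseLast).length : ℕ∞) ≤ Order.height y := Order.length_le_height_last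
      have h5 : s.eraseLast.length = 1 := by
        rw [RelSeries.eraseLast_length, hlen]
      rw [height_eq_deg p y, h5] at h3
      intro h0
      rw [h0] at h3
      exact absurd h3 (by norm_num)
    obtain ⟨hzy, hyz⟩ := lt_iff_le_not_ge.1 hlt
    obtain ⟨c, hc, hF⟩ := h1 (closure {y}) isClosed_closure isIrreducible_singleton.closure
      (fun hcomp ↦ hyz (by
        change y ⤳ z
        rw [isMaximalPoint_of_closure hcomp z hzy]))
    have hyc : y = c := (Set.mem_singleton_iff.1 (hF ▸ subset_closure rfl))
    exact hy0 ((closedPoint_iff_deg_eq_zero p y).1 (hyc ▸ hc))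

include p in
lemma curve_structure [CompactSpace X] [IrreducibleSpace X] (h : ClosedDimOne X) :
    (∀ x : X, ¬ IsClosed ({x} : Set X) → x = genericPoint X) ∧
      ∀ F : Set X, IsClosed F → (F ≠ Set.univ ↔ (F.Finite ∧ ∀ x ∈ F, IsClosed ({x} : Set X))) := by
  have hη : IsMaximalPoint (genericPoint X) := fun y hy ↦
    (hy.antisymm ((genericPoint_spec X).specializes (Set.mem_univ y))).eq
  have hnc : ¬ IsClosed ({genericPoint X} : Set X) := fun hc ↦ by
    have := (closedDimOne_iff_deg p).1 h _ hη
    rw [(closedPoint_iff_deg_eq_zero p _).1 hc] at this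
    exact zero_ne_one this
  have h1 : ∀ x : X, ¬ IsClosed ({x} : Set X) → x = genericPoint X := fun x hx ↦
    (eq_of_not_isClosed p h hx ((genericPoint_spec X).specializes (Set.mem_univ x)) hη).symm
  refine ⟨h1, fun F hF ↦ ⟨fun hne ↦ ?_, fun ⟨_, hall⟩ he ↦ hnc (hall _ (he ▸ Set.mem_univ _))⟩⟩
  have hall : ∀ x ∈ F, IsClosed ({x} : Set X) := fun x hx ↦ by
    by_contra hc
    refine hne (Set.univ_subset_iff.1 ?_)
    rw [← genericPoint_spec X]
    exact closure_minimal (Set.singleton_subset_iff.2 (h1 x hc ▸ hx)) hF
  refine ⟨?_, hall⟩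
  have : IsLocallyNoetherian X := LocallyOfFiniteType.isLocallyNoetherian p
  have : IsNoetherian X := {}
  obtain ⟨S, hS, hS', hSi, rfl⟩ := NoetherianSpace.exists_finite_set_isClosed_irreducible hF
  refine hS.sUnion fun t ht ↦ ?_
  have hg : closure {(hSi t ht).genericPoint} = t := by
    rw [(hSi t ht).genericPoint_closure_eq, (hS' t ht).closure_eq]
  have hmem : (hSi t ht).genericPoint ∈ t :=
    hg.le (subset_closure (Set.mem_singleton _))
  rw [← hg, (hall _ (Set.mem_sUnion_of_mem hmem ht)).closure_eq]
  exact Set.finite_singleton _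

lemma isDominant_iff_finite_fibres {Y : Scheme.{u}} (q : Y ⟶ Spec (CommRingCat.of k))
    [LocallyOfFiniteType q] [CompactSpace X] [CompactSpace Y] [IrreducibleSpace X] [IrreducibleSpace Y]
    (hX : ClosedDimOne X) (hY : ClosedDimOne Y) (f : X ⟶ Y) (hf : f ≫ q = p) :
    IsDominant f ↔ ∀ y : Y, (f ⁻¹' {y}).Finite := by
  obtain ⟨hXpts, hXcl⟩ := curve_structure p hX
  obtain ⟨hYpts, hYcl⟩ := curve_structure q hY
  have hηY : ¬ IsClosed ({genericPoint Y} : Set Y) := fun hc ↦
    ((hYcl _ hc).2 ⟨Set.finite_singleton _, fun x hx ↦ by rwa [Set.mem_singleton_iff.1 hx]⟩)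
      (Set.univ_subset_iff.1 (by rw [← genericPoint_spec Y, hc.closure_eq]))
  have hclosed : ∀ x : X, IsClosed ({x} : Set X) → IsClosed ({f x} : Set Y) := fun x hx ↦ by
    rw [closedPoint_iff_deg_eq_zero q]
    have h1 := deg_map_le f q hf x
    rw [(closedPoint_iff_deg_eq_zero p x).1 hx] at h1
    omega
  constructor
  · intro hd y
    have hη : f (genericPoint X) = genericPoint Y := by
      refine (genericPoint_spec Y).eq ?_ |>.symm
      rw [IsGenericPoint, Set.eq_univ_iff_forall]
      intro y
      refine closure_minimal ?_ isClosed_closure (f.denseRange.closure_range ▸ Set.mem_univ y)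
      rintro _ ⟨x, rfl⟩
      exact specializes_iff_mem_closure.mp
        (((genericPoint_spec X).specializes (Set.mem_univ x)).map f.continuous)
    by_cases hy : IsClosed ({y} : Set Y)
    · refine ((hXcl _ (hy.preimage f.continuous)).1 fun hall ↦ ?_).1
      have : genericPoint X ∈ f ⁻¹' {y} := hall ▸ Set.mem_univ _
      exact hηY (by rw [← hη, Set.mem_singleton_iff.1 this]; exact hy)
    · refine (Set.finite_singleton (genericPoint X)).subset fun x hx ↦ ?_
      refine hXpts x fun hc ↦ hy ?_
      rw [← (show f x = y from hx)]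
      exact hclosed x hc
  · intro hfin
    refine ⟨?_⟩
    by_cases hy : IsClosed ({f (genericPoint X)} : Set Y)
    · exfalso
      have hall : f ⁻¹' {f (genericPoint X)} = Set.univ := by
        refine Set.univ_subset_iff.1 ?_
        rw [← genericPoint_spec X]
        exact closure_minimal (Set.singleton_subset_iff.2 rfl) (hy.preimage f.continuous)
      have hXfin : (Set.univ : Set X).Finite := hall ▸ hfin _
      have : IsLocallyNoetherian X := LocallyOfFiniteType.isLocallyNoetherian p
      have : JacobsonSpace X := LocallyOfFiniteType.jacobsonSpace p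
      have hcp : IsClosed (closedPoints X) :=
        Set.biUnion_of_singleton (closedPoints X) ▸
          (hXfin.subset (Set.subset_univ _)).isClosed_biUnion fun x hx ↦ hx
      have huniv : closedPoints X = Set.univ := by
        rw [← hcp.closure_eq, closure_closedPoints]
      exact (hXcl _ isClosed_univ).2 ⟨hXfin, fun x _ ↦ huniv.ge (Set.mem_univ x)⟩ rfl
    · rw [DenseRange, dense_iff_closure_eq, ← Set.univ_subset_iff, ← genericPoint_spec Y,
        ← hYpts _ hy]
      exact closure_mono (Set.singleton_subset_iff.2 ⟨_, rfl⟩)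

end Groth.Agent.Proj16
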