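import Groth.Agent.Proj16.ToProj

/-!
# `B_(f) ≅ B/(f - 1)` and Veronese maps of degree zero localizations
-/

universe u

open SetLike HomogeneousLocalization

namespace Groth.Agent.Proj16

variable {R B : Type u} [CommRing R] [CommRing B] [Algebra R B] (ℬ : ℕ → Submodule R B) [GradedAlgebra ℬ]

/-- The map `B_(f) → B/(f-1)`. -/
noncomputable def awayToQuot (f : B) : Away ℬ f →+* B ⧸ Ideal.span {f - 1} :=
  (Localization.awayLift (Ideal.Quotient.mk (Ideal.span {f - 1})) f (by
    rw [(Ideal.Quotient.eq).mpr (Ideal.mem_span_singleton_self (f - 1)), map_one]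
    exact isUnit_one)).comp (algebraMap (Away ℬ f) (Localization.Away f))

lemma quot_mk_self (f : B) : Ideal.Quotient.mk (Ideal.span {f - 1}) f = 1 := by
  rw [(Ideal.Quotient.eq).mpr (Ideal.mem_span_singleton_self (f - 1)), map_one]

lemma awayToQuot_mk {f : B} {d : ℕ} (hf : f ∈ ℬ d) (n : ℕ) (x : B) (hx : x ∈ ℬ (n • d)) :
    awayToQuot ℬ f (Away.mk ℬ hf n x hx) = Ideal.Quotient.mk _ x := by
  simp only [awayToQuot, RingHom.comp_apply, HomogeneousLocalization.algebraMap_apply, Away.val_mk]
  rw [Localization.mk_eq_mk']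
  unfold Localization.awayLift IsLocalization.Away.lift
  rw [IsLocalization.lift_mk'_spec]
  simp [quot_mk_self]

lemma awayToQuot_bijective {f : B} (hf : f ∈ ℬ 1) : Function.Bijective (awayToQuot ℬ f) := by
  constructor
  · rw [injective_iff_map_eq_zero]
    intro z hz
    obtain ⟨n, b, hb, rfl⟩ := z.mk_surjective ℬ hf
    rw [awayToQuot_mk, Ideal.Quotient.eq_zero_iff_mem, Ideal.mem_span_singleton] at hz
    obtain ⟨c, hc⟩ := hz
    have hbn : b ∈ ℬ n := by simpa using hb
    -- the components of `c`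
    let C : ℕ → B := fun i ↦ GradedRing.proj ℬ i c
    have hfc : ∀ i, GradedRing.proj ℬ (i + 1) (f * c) = f * C i := fun i ↦ by
      simp only [C, GradedRing.proj_apply]
      rw [DirectSum.coe_decompose_mul_of_left_mem_of_le ℬ hf (by omega)]
      simp
    have hfc0 : GradedRing.proj ℬ 0 (f * c) = 0 := by
      simp only [GradedRing.proj_apply]
      exact DirectSum.coe_decompose_mul_of_left_mem_of_not_le ℬ hf (by omega)
    have hcomp : ∀ i, GradedRing.proj ℬ i b = GradedRing.proj ℬ i (f * c) - C i := fun i ↦ by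
      rw [hc, sub_mul, one_mul, map_sub]
    have hlow : ∀ i, i < n → C i = 0 := by
      intro i
      induction i with
      | zero =>
        intro h
        have := hcomp 0
        rw [proj_of_mem_ne ℬ hbn (by omega), hfc0] at this
        simpa using this.symm
      | succ i ih =>
        intro h
        have := hcomp (i + 1)
        rw [proj_of_mem_ne ℬ hbn (by omega), hfc, ih (by omega)] at this
        simpa using this.symm
    have hn : C n = -b := by
      have := hcomp n
      rw [proj_of_mem ℬ hbn] at this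
      rcases n with - | i
      · rw [hfc0] at this; rw [this]; simp
      · rw [hfc, hlow i (by omega)] at this; rw [this]; simp
    have hhigh : ∀ j, C (n + j) = -(f ^ j * b) := by
      intro j
      induction j with
      | zero => simpa using hn
      | succ j ih =>
        have := hcomp (n + j + 1)
        rw [proj_of_mem_ne ℬ hbn (by omega), hfc, ih] at this
        rw [← Nat.add_assoc, pow_succ']
        have h2 : C (n + j + 1) = f * -(f ^ j * b) := (sub_eq_zero.mp this.symm).symm
        rw [h2]; ring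
    obtain ⟨j, hj⟩ : ∃ j, C (n + j) = 0 := by
      classical
      obtain ⟨M, hM⟩ := (DirectSum.decompose ℬ c).support.bddAbove
      refine ⟨M + 1, ?_⟩
      simp only [C, GradedRing.proj_apply]
      by_contra hne
      have := hM (DFinsupp.mem_support_iff.mpr fun h ↦ hne (by rw [h]; rfl))
      omega
    rw [hhigh, neg_eq_zero] at hj
    apply HomogeneousLocalization.val_injective
    rw [Away.val_mk, HomogeneousLocalization.val_zero, Localization.mk_eq_mk']
    exact (IsLocalization.mk'_eq_zero_iff _ _).mpr ⟨⟨f ^ j, j, rfl⟩, hj⟩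
  · intro x
    obtain ⟨b, rfl⟩ := Ideal.Quotient.mk_surjective x
    induction b using DirectSum.Decomposition.inductionOn ℬ with
    | zero => exact ⟨0, by simp⟩
    | homogeneous m =>
      rename_i i
      exact ⟨Away.mk ℬ hf i m (by simp), awayToQuot_mk ℬ hf i _ _⟩
    | add m m' hm hm' =>
      obtain ⟨a, ha⟩ := hm
      obtain ⟨a', ha'⟩ := hm'
      exact ⟨a + a', by rw [map_add, map_add, ha, ha']⟩

variable {A : Type u} [CommRing A] [Algebra R A] (𝒜 : ℕ → Submodule R A) [GradedAlgebra 𝒜]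
  {d : ℕ} (φ : B →+* A)

/-- A degree multiplying homomorphism acts on degree zero localizations. -/
lemma exists_veroneseAwayMap (hdeg : ∀ k, ∀ b ∈ ℬ k, φ b ∈ 𝒜 (k * d)) (g : B) :
    ∃ θ : Away ℬ g →+* Away 𝒜 (φ g),
      (algebraMap (Away 𝒜 (φ g)) (Localization.Away (φ g))).comp θ =
        (Localization.awayMap φ g).comp (algebraMap (Away ℬ g) (Localization.Away g)) := by
  have hex : ∀ z : Away ℬ g, ∃ w : Away 𝒜 (φ g), w.val = Localization.awayMap φ g z.val := by
    intro z
    obtain ⟨c, rfl⟩ := HomogeneousLocalization.mk_surjective z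
    refine ⟨HomogeneousLocalization.mk ⟨c.deg * d, ⟨φ c.num, hdeg _ _ c.num.2⟩,
      ⟨φ c.den, hdeg _ _ c.den.2⟩, ?_⟩, ?_⟩
    · obtain ⟨k, hk⟩ := c.den_mem
      exact ⟨k, by change φ g ^ k = φ c.den; rw [← map_pow]; exact congrArg φ hk⟩
    · rw [HomogeneousLocalization.val_mk, HomogeneousLocalization.val_mk, Localization.mk_eq_mk',
        Localization.mk_eq_mk']
      unfold Localization.awayMap IsLocalization.Away.map
      rw [IsLocalization.map_mk']
  choose t ht using hex
  refine ⟨{ toFun := t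
            map_one' := HomogeneousLocalization.val_injective _ (by simp [ht])
            map_zero' := HomogeneousLocalization.val_injective _ (by simp [ht])
            map_add' := fun a b ↦ HomogeneousLocalization.val_injective _ (by simp [ht])
            map_mul' := fun a b ↦ HomogeneousLocalization.val_injective _ (by simp [ht]) }, ?_⟩
  exact RingHom.ext ht

/-- The map of degree zero localizations of a degree multiplying homomorphism. -/
noncomputable def veroneseAwayMap (hdeg : ∀ k, ∀ b ∈ ℬ k, φ b ∈ 𝒜 (k * d)) (g : B) :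
    Away ℬ g →+* Away 𝒜 (φ g) :=
  (exists_veroneseAwayMap ℬ 𝒜 φ hdeg g).choose

lemma val_veroneseAwayMap (hdeg : ∀ k, ∀ b ∈ ℬ k, φ b ∈ 𝒜 (k * d)) (g : B) (z : Away ℬ g) :
    (veroneseAwayMap ℬ 𝒜 φ hdeg g z).val = Localization.awayMap φ g z.val :=
  RingHom.congr_fun (exists_veroneseAwayMap ℬ 𝒜 φ hdeg g).choose_spec z

lemma veroneseAwayMap_mk (hdeg : ∀ k, ∀ b ∈ ℬ k, φ b ∈ 𝒜 (k * d)) {n : ℕ} {g : B}
    (hg : g ∈ ℬ n) (k : ℕ) (b : B) (hb : b ∈ ℬ (k • n)) :
    veroneseAwayMap ℬ 𝒜 φ hdeg g (Away.mk ℬ hg k b hb) =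
      Away.mk 𝒜 (hdeg n g hg) k (φ b) (by simpa [mul_assoc] using hdeg _ b hb) := by
  apply HomogeneousLocalization.val_injective
  rw [val_veroneseAwayMap, Away.val_mk, Away.val_mk, Localization.mk_eq_mk', Localization.mk_eq_mk']
  unfold Localization.awayMap IsLocalization.Away.map
  rw [IsLocalization.map_mk']
  simp [map_pow]

lemma veroneseAwayMap_bijective (hdeg : ∀ k, ∀ b ∈ ℬ k, φ b ∈ 𝒜 (k * d))
    (hφ : Function.Injective φ) (hsurj : ∀ k, ∀ a ∈ 𝒜 (k * d), ∃ b ∈ ℬ k, φ b = a) {n : ℕ} {g : B}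
    (hg : g ∈ ℬ n) : Function.Bijective (veroneseAwayMap ℬ 𝒜 φ hdeg g) := by
  constructor
  · rw [injective_iff_map_eq_zero]
    intro z hz
    obtain ⟨k, b, hb, rfl⟩ := z.mk_surjective ℬ hg
    rw [veroneseAwayMap_mk, ← (HomogeneousLocalization.val_injective _).eq_iff,
      Away.val_mk, HomogeneousLocalization.val_zero, Localization.mk_eq_mk'] at hz
    obtain ⟨⟨_, m, rfl⟩, hm⟩ := (IsLocalization.mk'_eq_zero_iff _ _).mp hz
    apply HomogeneousLocalization.val_injective
    rw [Away.val_mk, HomogeneousLocalization.val_zero, Localization.mk_eq_mk']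
    refine (IsLocalization.mk'_eq_zero_iff _ _).mpr ⟨⟨g ^ m, m, rfl⟩, hφ ?_⟩
    simpa using hm
  · intro w
    obtain ⟨k, a, ha, rfl⟩ := w.mk_surjective 𝒜 (hdeg n g hg)
    obtain ⟨b, hb, rfl⟩ := hsurj (k • n) a (by simpa [mul_assoc] using ha)
    exact ⟨Away.mk ℬ hg k b hb, veroneseAwayMap_mk ℬ 𝒜 φ hdeg hg k b hb⟩

lemma proj_map_veronese (hdeg : ∀ k, ∀ b ∈ ℬ k, φ b ∈ 𝒜 (k * d)) (hd : 0 < d) (k : ℕ) (b : B) :
    GradedRing.proj 𝒜 (k * d) (φ b) = φ (GradedRing.proj ℬ k b) := by
  induction b using DirectSum.Decomposition.inductionOn ℬ with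
  | zero => simp
  | homogeneous m =>
    rename_i i
    obtain rfl | hik := eq_or_ne i k
    · rw [proj_of_mem 𝒜 (hdeg _ _ m.2), proj_of_mem ℬ m.2]
    · rw [proj_of_mem_ne 𝒜 (hdeg _ _ m.2) (fun h ↦ hik (Nat.eq_of_mul_eq_mul_right hd (by omega))),
        proj_of_mem_ne ℬ m.2 (by omega), map_zero]
  | add m m' hm hm' => simp only [map_add, hm, hm']

end Groth.Agent.Proj16
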