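import Mathlib

/-!
# The generic stalk map of an integral morphism
-/

universe u

open CategoryTheory CategoryTheory.Limits AlgebraicGeometry

namespace Groth.Agent.Proj16

lemma fractionField_integral {A B K L : Type u} [CommRing A] [CommRing B] [Field K] [Field L]
    [Algebra A K] [Algebra B L] [IsFractionRing B L] (q : A →+* B) (φ : K →+* L)
    (h : φ.comp (algebraMap A K) = (algebraMap B L).comp q) :
    (q.IsIntegral → φ.IsIntegral) ∧ (q.Finite → φ.Finite) := by
  let : Algebra K L := φ.toAlgebra
  let : Algebra A B := q.toAlgebra
  have hint : q.IsIntegral → ∀ b, IsIntegral K (algebraMap B L b) := by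
    intro hq b
    obtain ⟨p, hp, hp'⟩ := hq b
    refine ⟨p.map (algebraMap A K), hp.map _, ?_⟩
    rw [Polynomial.eval₂_map, show (algebraMap K L).comp (algebraMap A K) = _ from h,
      ← Polynomial.hom_eval₂, hp', map_zero]
  have hall : q.IsIntegral → ∀ (S : Subalgebra K L), (∀ b, algebraMap B L b ∈ S) →
      ∀ z, z ∈ S := by
    intro hq S hS z
    obtain ⟨b, c, -, rfl⟩ := IsFractionRing.div_surjective (A := B) z
    rw [div_eq_mul_inv]
    exact S.mul_mem (hS b) (Algebra.adjoin_le (Set.singleton_subset_iff.mpr (hS c))
      (hint hq c).inv_mem_adjoin)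
  constructor
  · intro hq z
    exact hall hq (integralClosure K L) (hint hq) z
  · intro hq
    obtain ⟨s, hs⟩ := (hq : Module.Finite A B).fg_top
    classical
    let S := Algebra.adjoin K ((s.image (algebraMap B L) : Finset L) : Set L)
    have hS : ∀ b, algebraMap B L b ∈ S := fun b ↦ by
      have hb : b ∈ Submodule.span A (s : Set B) := hs ▸ Submodule.mem_top
      induction hb using Submodule.span_induction with
      | mem x hx => exact Algebra.subset_adjoin (Finset.mem_image_of_mem _ hx)
      | zero => rw [map_zero]; exact S.zero_mem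
      | add x y _ _ hx hy => rw [map_add]; exact S.add_mem hx hy
      | smul a x _ hx =>
        rw [Algebra.smul_def, map_mul,
          show algebraMap B L (algebraMap A B a) = algebraMap K L (algebraMap A K a) from
            (RingHom.congr_fun h a).symm]
        exact S.mul_mem (S.algebraMap_mem _) hx
    have hI : q.IsIntegral := RingHom.IsIntegral.of_finite hq
    have htop : S = ⊤ := top_le_iff.mp fun z _ ↦ hall hI S hS z
    change Module.Finite K L
    refine ⟨?_⟩
    rw [← Algebra.top_toSubmodule, ← htop]
    refine fg_adjoin_of_finite (Finset.finite_toSet _) fun x hx ↦ ?_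
    obtain ⟨b, -, rfl⟩ := Finset.mem_image.mp (Finset.mem_coe.mp hx)
    exact hint hI b

end Groth.Agent.Proj16
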