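import Groth.Agent.Proj16.Graded
import Mathlib.Algebra.DirectSum.Decomposition
import Mathlib.Algebra.Module.Submodule.Lattice

/-!
# Rings graded by additive subgroups, as `ℤ`-algebras
-/

universe u

open SetLike DirectSum

namespace Groth.Agent.Proj16

variable {A : Type u} [CommRing A] (𝒜 : ℕ → AddSubgroup A) [GradedRing 𝒜]

/-- The pieces of a grading by additive subgroups, as `ℤ`-submodules. -/
abbrev intDeg : ℕ → Submodule ℤ A := fun n ↦ AddSubgroup.toIntSubmodule (𝒜 n)

noncomputable instance intGradedAlgebra : GradedAlgebra (intDeg 𝒜) where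
  one_mem := SetLike.one_mem_graded 𝒜
  mul_mem _ _ _ _ ha hb := SetLike.mul_mem_graded (A := 𝒜) ha hb
  decompose' := fun x ↦ DirectSum.decompose 𝒜 x
  left_inv x := DirectSum.Decomposition.left_inv (ℳ := 𝒜) x
  right_inv x := DirectSum.Decomposition.right_inv (ℳ := 𝒜) x

lemma finiteType_degZero {S : Type u} [CommRing S] (f : S →+* A) (hf : f.FiniteType)
    (hmem : ∀ r, f r ∈ 𝒜 0) : Algebra.FiniteType (𝒜 0) A := by
  algebraize [f]
  obtain ⟨T, hT⟩ := Algebra.FiniteType.out (R := S) (A := A)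
  refine ⟨⟨T, top_le_iff.mp fun x hxtop ↦ ?_⟩⟩
  have hx : x ∈ Algebra.adjoin S (T : Set A) := hT ▸ trivial
  clear hxtop
  induction hx using Algebra.adjoin_induction with
  | mem y hy => exact Algebra.subset_adjoin hy
  | algebraMap r => exact Subalgebra.algebraMap_mem (Algebra.adjoin (𝒜 0) (T : Set A)) ⟨f r, hmem r⟩
  | add _ _ _ _ h₁ h₂ => exact add_mem h₁ h₂
  | mul _ _ _ _ h₁ h₂ => exact mul_mem h₁ h₂

lemma exists_finset_deg_eq [Algebra.FiniteType (𝒜 0) A] (n : ℕ) :
    ∃ T : Finset A, (T : Set A) ⊆ (𝒜 n : Set A) ∧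
      intDeg 𝒜 n = intDeg 𝒜 0 * Submodule.span ℤ (T : Set A) := by
  classical
  obtain ⟨N, g, d, hd, hg, hgen⟩ := exists_generators 𝒜
  refine ⟨(Finset.univ.filter fun e : Fin N → Fin (n + 1) ↦ ∑ j, (e j : ℕ) * d j = n).image
    fun e ↦ ∏ j, g j ^ (e j : ℕ), ?_, le_antisymm (fun x hx ↦ ?_) ?_⟩
  · simp only [Finset.coe_image, Finset.coe_filter, Finset.mem_univ, true_and,
      Set.image_subset_iff]
    exact fun e he ↦ monomial_mem hg _ he
  · refine induction_on_monomials hg hgen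
      (P := fun z ↦ z ∈ intDeg 𝒜 0 * _) (zero_mem _) (fun _ _ ↦ add_mem) (fun c hc e he ↦ ?_)
      (show x ∈ 𝒜 n from hx)
    refine Submodule.mul_mem_mul hc (Submodule.subset_span ?_)
    have hlt : ∀ j, e j < n + 1 := fun j ↦ Nat.lt_succ_of_le <|
      (Nat.le_mul_of_pos_right _ (hd j)).trans <| he ▸
        Finset.single_le_sum (f := fun j ↦ e j * d j) (fun i _ ↦ Nat.zero_le _) (Finset.mem_univ j)
    refine Finset.mem_coe.mpr (Finset.mem_image.mpr ⟨fun j ↦ ⟨e j, hlt j⟩, ?_, rfl⟩)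
    simpa using he
  · rw [Submodule.mul_le]
    intro a ha b hb
    induction hb using Submodule.span_induction with
    | mem y hy =>
      obtain ⟨e, he, rfl⟩ := Finset.mem_image.mp hy
      simpa using SetLike.mul_mem_graded (A := intDeg 𝒜) ha
        (show ∏ j, g j ^ (e j : ℕ) ∈ intDeg 𝒜 n from monomial_mem hg _ (Finset.mem_filter.mp he).2)
    | zero => simp
    | add y z _ _ hy hz => rw [mul_add]; exact add_mem hy hz
    | smul r y _ hy => rw [mul_smul_comm]; exact Submodule.smul_mem _ r hy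

end Groth.Agent.Proj16
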