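import Groth.Agent.Proj16.Map
import Mathlib.AlgebraicGeometry.IdealSheaf.Basic
import Mathlib.AlgebraicGeometry.Morphisms.Separated

universe u

open SetLike DirectSum AlgebraicGeometry HomogeneousIdeal HomogeneousLocalization CategoryTheory

namespace Groth.Agent.Proj16

variable {A σ : Type u} [CommRing A] [SetLike σ A] [AddSubgroupClass σ A]
variable (𝒜 : ℕ → σ) [GradedRing 𝒜]

lemma awayMap_injective_of_nonZeroDivisors {f g x : A} {d e : ℕ} (hf : f ∈ 𝒜 d) (hg : g ∈ 𝒜 e)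
    (hx : x = f * g) (hnz : g ∈ nonZeroDivisors A) : Function.Injective (awayMap 𝒜 hg hx) := by
  rw [injective_iff_map_eq_zero]
  intro a ha
  obtain ⟨n, b, hb, rfl⟩ := a.mk_surjective 𝒜 hf
  subst hx
  have h := congrArg HomogeneousLocalization.val ha
  rw [Away.mk, val_awayMap_mk, HomogeneousLocalization.val_zero, Localization.mk_eq_mk'] at h
  obtain ⟨⟨_, m, rfl⟩, hm⟩ := (IsLocalization.mk'_eq_zero_iff _ _).mp h
  change (f * g) ^ m * (b * g ^ n) = 0 at hm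
  have h2 : f ^ m * b * g ^ (m + n) = 0 := by rw [← hm]; ring
  have h3 := (mul_right_mem_nonZeroDivisors_eq_zero_iff (pow_mem hnz (m + n))).mp h2
  apply HomogeneousLocalization.val_injective
  rw [Away.val_mk, HomogeneousLocalization.val_zero, Localization.mk_eq_mk']
  exact (IsLocalization.mk'_eq_zero_iff _ _).mpr ⟨⟨f ^ m, m, rfl⟩, h3⟩

lemma ker_basicOpen_ι {g : A} {e : ℕ} (he : 0 < e) (hg : g ∈ 𝒜 e) (hnz : g ∈ nonZeroDivisors A) :
    (Proj.basicOpen 𝒜 g).ι.ker = ⊥ := by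
  have : IsAffine (Proj.basicOpen 𝒜 g).toScheme := Proj.isAffineOpen_basicOpen 𝒜 g hg he
  have : IsAffineHom (Proj.basicOpen 𝒜 g).ι :=
    IsAffineHom.of_comp _ (Proj.toSpecZero 𝒜)
  let U : (Σ i : PNat, 𝒜 i) → (Proj 𝒜).affineOpens := fun i ↦
    ⟨Proj.basicOpen 𝒜 (i.2 : A), Proj.isAffineOpen_basicOpen 𝒜 _ i.2.2 i.1.2⟩
  refine Scheme.IdealSheafData.ext_of_iSup_eq_top U ?_ fun i ↦ ?_
  · refine Proj.iSup_basicOpen_eq_top 𝒜 _ ?_
    rw [irrelevant_eq_span, Ideal.span_le]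
    simp only [Set.iUnion_subset_iff]
    exact fun j hj a ha ↦ Ideal.subset_span ⟨⟨⟨j, hj⟩, ⟨a, ha⟩⟩, rfl⟩
  rw [Scheme.Hom.ker_apply, Scheme.IdealSheafData.ideal_bot, Pi.bot_apply,
    RingHom.ker_eq_bot_iff_eq_zero]
  intro s hs
  let f : A := i.2
  have hle : Proj.basicOpen 𝒜 (f * g) ≤ Proj.basicOpen 𝒜 f := Proj.basicOpen_mono _ _ _ ⟨g, rfl⟩
  have himage : Proj.basicOpen 𝒜 (f * g) =
      (Proj.basicOpen 𝒜 g).ι ''ᵁ (Proj.basicOpen 𝒜 g).ι ⁻¹ᵁ Proj.basicOpen 𝒜 f := by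
    rw [Scheme.Hom.image_preimage_eq_opensRange_inf, Scheme.Opens.opensRange_ι, Proj.basicOpen_mul,
      inf_comm]
  have hres : ((Proj 𝒜).presheaf.map (homOfLE hle).op).hom s = 0 := by
    rw [Scheme.Opens.ι_app] at hs
    have h := congrArg ((Proj 𝒜).presheaf.map (eqToHom himage).op).hom hs
    refine Eq.trans ?_ (h.trans (map_zero ((Proj 𝒜).presheaf.map (eqToHom himage).op).hom))
    exact ConcreteCategory.congr_hom ((Proj 𝒜).presheaf.map_comp _ _) s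
  let ef := Proj.basicOpenIsoAway 𝒜 f i.2.2 i.1.2
  let efg := Proj.basicOpenIsoAway 𝒜 (f * g) (SetLike.mul_mem_graded i.2.2 hg)
    (Nat.add_pos_left i.1.2 e)
  obtain ⟨a, rfl⟩ : ∃ a, Proj.awayToSection 𝒜 f a = s :=
    (ConcreteCategory.bijective_of_isIso ef.hom).2 s
  have hsq := Proj.awayMap_awayToSection 𝒜 (f := f) (g := g) hg (x := f * g) rfl
  have h2 : Proj.awayToSection 𝒜 (f * g) (awayMap 𝒜 hg (rfl : f * g = f * g) a) = 0 := by
    rw [← hres]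
    exact ConcreteCategory.congr_hom hsq a
  have h3 : awayMap 𝒜 hg (rfl : f * g = f * g) a = 0 :=
    (ConcreteCategory.bijective_of_isIso efg.hom).1 (h2.trans (map_zero efg.hom.hom).symm)
  rw [(injective_iff_map_eq_zero _).mp
    (awayMap_injective_of_nonZeroDivisors 𝒜 i.2.2 hg rfl hnz) a h3, map_zero]

end Groth.Agent.Proj16
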