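import Groth.Agent.Proj16.Graded
import Mathlib.Algebra.Module.GradedModule
import Mathlib.RingTheory.Finiteness.Basic

/-!
# Graded modules of finite type, Veronese subrings, tails of homogeneous primes
-/

universe u v

open SetLike DirectSum

namespace Groth.Agent.Proj16

variable {R A : Type u} [CommRing R] [CommRing A] [Algebra R A]
variable (𝒜 : ℕ → Submodule R A) [GradedAlgebra 𝒜]

section Module

variable {M : Type u} [AddCommGroup M] [Module R M] [Module A M] [IsScalarTower R A M]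
variable (ℳ : ℕ → Submodule R M) [DirectSum.Decomposition ℳ] [SetLike.GradedSMul 𝒜 ℳ]

lemma decompose_smul_of_mem {t : M} {e : ℕ} (ht : t ∈ ℳ e) (a : A) (n : ℕ) :
    ((DirectSum.decompose ℳ (a • t)) n : M) =
      if e ≤ n then GradedRing.proj 𝒜 (n - e) a • t else 0 := by
  classical
  induction a using DirectSum.Decomposition.inductionOn 𝒜 with
  | zero => simp
  | homogeneous b =>
    rename_i i
    have hbt : (b : A) • t ∈ ℳ (i + e) := SetLike.GradedSMul.smul_mem b.2 ht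
    rcases eq_or_ne (i + e) n with h | h
    · subst h
      rw [DirectSum.decompose_of_mem_same ℳ hbt, if_pos (Nat.le_add_left e i),
        show i + e - e = i by omega, proj_of_mem 𝒜 b.2]
    · rw [DirectSum.decompose_of_mem_ne ℳ hbt h]
      split_ifs with he
      · rw [proj_of_mem_ne 𝒜 b.2 (by omega), zero_smul]
      · rfl
  | add a b ha hb =>
    rw [add_smul, DirectSum.decompose_add, DirectSum.add_apply, Submodule.coe_add, ha, hb]
    split_ifs
    · rw [map_add, add_smul]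
    · rw [add_zero]

lemma exists_homogeneous_generators [Module.Finite A M] :
    ∃ (K : ℕ) (t : Fin K → M) (e : Fin K → ℕ), (∀ j, t j ∈ ℳ (e j)) ∧
      Submodule.span A (Set.range t) = ⊤ := by
  classical
  obtain ⟨F, hF⟩ := (Module.finite_def.mp ‹_› : (⊤ : Submodule A M).FG)
  let ι₀ := Σ x : F, (DirectSum.decompose ℳ (x : M)).support
  let t₀ : ι₀ → M := fun i ↦ (DirectSum.decompose ℳ (i.1 : M) i.2 : M)
  refine ⟨Fintype.card ι₀, t₀ ∘ (Fintype.equivFin ι₀).symm,
    fun j ↦ ((Fintype.equivFin ι₀).symm j).2, fun j ↦ SetLike.coe_mem _, ?_⟩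
  rw [(Fintype.equivFin ι₀).symm.surjective.range_comp t₀, ← top_le_iff, ← hF, Submodule.span_le]
  intro x hx
  rw [SetLike.mem_coe, ← DirectSum.sum_support_decompose ℳ x]
  exact sum_mem fun n hn ↦ Submodule.subset_span ⟨⟨⟨x, hx⟩, ⟨n, hn⟩⟩, rfl⟩

lemma exists_eventually_shift [Algebra.FiniteType (𝒜 0) A] [Module.Finite A M] :
    ∃ (n₁ h : ℕ), 0 < h ∧
      ∀ n : ℕ, n₁ ≤ n → ℳ (n + h) = (𝒜 h : Submodule R A) • (ℳ n : Submodule R M) := by
  classical
  obtain ⟨q, n₀, hq, hper⟩ := exists_period_submodule 𝒜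
  obtain ⟨K, t, e, ht, hspan⟩ := exists_homogeneous_generators (R := R) (A := A) ℳ
  refine ⟨n₀ + ∑ j, e j, q, hq, fun n hn ↦ le_antisymm (fun x hx ↦ ?_) ?_⟩
  · have hmem : x ∈ Submodule.span A (Set.range t) := hspan ▸ trivial
    obtain ⟨c, rfl⟩ := (Submodule.mem_span_range_iff_exists_fun A).mp hmem
    rw [← DirectSum.decompose_of_mem_same ℳ hx, DirectSum.decompose_sum,
      DFinsupp.finsetSum_apply, AddSubmonoidClass.coe_finsetSum]
    refine sum_mem fun j _ ↦ ?_
    rw [decompose_smul_of_mem 𝒜 ℳ (ht j)]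
    have hej : e j ≤ ∑ j, e j := Finset.single_le_sum (fun i _ ↦ Nat.zero_le _) (Finset.mem_univ j)
    rw [if_pos (by omega : e j ≤ n + q)]
    have hm : GradedRing.proj 𝒜 (n + q - e j) (c j) ∈ 𝒜 q * 𝒜 (n - e j) := by
      rw [← hper (n - e j) (by omega), show n - e j + q = n + q - e j by omega]
      exact proj_mem 𝒜 _ _
    generalize GradedRing.proj 𝒜 (n + q - e j) (c j) = z at hm ⊢
    induction hm using Submodule.mul_induction_on' with
    | mem_mul_mem a ha b hb =>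
      rw [mul_smul]
      refine Submodule.smul_mem_smul ha ?_
      have hbt : b • t j ∈ ℳ ((n - e j) + e j) := SetLike.GradedSMul.smul_mem hb (ht j)
      rwa [show n - e j + e j = n by omega] at hbt
    | add y hy z hz hy' hz' => rw [add_smul]; exact add_mem hy' hz'
  · rw [Submodule.smul_le]
    exact fun a ha m hm ↦ add_comm q n ▸ SetLike.GradedSMul.smul_mem ha hm

end Module

section Veronese

variable [Algebra.FiniteType (𝒜 0) A] {B : Type u} [CommRing B] [Algebra R B]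
variable (ℬ : ℕ → Submodule R B) [GradedAlgebra ℬ]
variable (d : ℕ) (φ : B →ₐ[R] A) (hdeg : ∀ n : ℕ, Submodule.map φ.toLinearMap (ℬ n) = 𝒜 (n * d))

lemma veronese_finiteType (hd : 0 < d) (hφ : Function.Injective φ)
    (hdeg : ∀ n : ℕ, Submodule.map φ.toLinearMap (ℬ n) = 𝒜 (n * d)) :
    Algebra.FiniteType (ℬ 0) B := by
  classical
  obtain ⟨N, g, dg, hdg, hg, hgen⟩ := exists_generators 𝒜
  let Sset : Set B := {b | ∃ e : Fin N → Fin (d + 1), φ b = ∏ j, g j ^ (e j : ℕ)}
  have hS : Sset.Finite := by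
    refine Set.Finite.of_finite_image (Set.Finite.subset
      (Set.finite_range fun e : Fin N → Fin (d + 1) ↦ ∏ j, g j ^ (e j : ℕ)) ?_) hφ.injOn
    rintro _ ⟨b, ⟨e, he⟩, rfl⟩
    exact ⟨e, he.symm⟩
  let C : Subring A := (Algebra.adjoin (ℬ 0) Sset).toSubring.map φ.toRingHom
  have hlift : ∀ (k : ℕ), ∀ z ∈ 𝒜 (k * d), ∃ b ∈ ℬ k, φ b = z := fun k z hz ↦ by
    rw [← hdeg k] at hz
    exact hz
  have hmonC : ∀ m : ℕ, ∀ e : Fin N → ℕ, ∑ j, e j = m → d ∣ ∑ j, e j * dg j →
      ∏ j, g j ^ e j ∈ C := by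
    intro m
    induction m using Nat.strong_induction_on with
    | h m ih =>
      intro e hem hdvd
      obtain ⟨k, hk⟩ := hdvd
      by_cases hsmall : ∀ j, e j ≤ d
      · obtain ⟨b, -, hb⟩ := hlift k _ (monomial_mem hg e (hk.trans (mul_comm d k)))
        refine ⟨b, Algebra.subset_adjoin ⟨fun j ↦ ⟨e j, Nat.lt_succ_of_le (hsmall j)⟩, ?_⟩, hb⟩
        simpa using hb
      push Not at hsmall
      obtain ⟨i, hi⟩ := hsmall
      let e' := Function.update e i (e i - d)
      have he : ∀ j, e' j + (if j = i then d else 0) = e j := fun j ↦ by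
        by_cases h : j = i
        · subst h; simp [e']; omega
        · simp [e', h]
      have hprod : ∏ j, g j ^ e j = (∏ j, g j ^ e' j) * g i ^ d := by
        simp_rw [← he, pow_add, Finset.prod_mul_distrib, pow_ite, pow_zero, Finset.prod_ite_eq',
          Finset.mem_univ, if_true]
      have hsum : ∑ j, e j * dg j = (∑ j, e' j * dg j) + d * dg i := by
        simp_rw [← he, add_mul, Finset.sum_add_distrib, ite_mul, zero_mul, Finset.sum_ite_eq',
          Finset.mem_univ, if_true]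
      have hsum' : ∑ j, e j = (∑ j, e' j) + d := by
        simp_rw [← he, Finset.sum_add_distrib, Finset.sum_ite_eq', Finset.mem_univ, if_true]
      rw [hprod]
      refine mul_mem (ih _ (by omega) e' rfl ⟨k - dg i, ?_⟩) ?_
      · rw [Nat.mul_sub, ← hk]
        omega
      · obtain ⟨b, -, hb⟩ := hlift (dg i) (g i ^ d)
          (by simpa [mul_comm] using SetLike.pow_mem_graded d (hg i))
        refine ⟨b, Algebra.subset_adjoin ⟨fun j ↦ if j = i then ⟨d, Nat.lt_succ_self d⟩ else 0,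
          ?_⟩, hb⟩
        rw [hb, Finset.prod_eq_single_of_mem i (Finset.mem_univ i) fun j _ h ↦ by simp [h]]
        simp
  refine ⟨⟨hS.toFinset, ?_⟩⟩
  rw [Set.Finite.coe_toFinset, ← top_le_iff]
  intro b _
  refine mem_of_forall_proj_mem ℬ fun k ↦ ?_
  have hmem : φ (GradedRing.proj ℬ k b) ∈ C := by
    refine induction_on_monomials hg hgen (P := fun z ↦ z ∈ C) C.zero_mem (fun _ _ ↦ C.add_mem)
      (fun c hc e he ↦ ?_) ((hdeg k).le ⟨_, proj_mem ℬ k b, rfl⟩)
    refine mul_mem ?_ (hmonC _ e rfl ⟨k, he.trans (mul_comm k d)⟩)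
    obtain ⟨c₀, hc₀, rfl⟩ := hlift 0 c (by simpa using hc)
    exact ⟨c₀, Subalgebra.algebraMap_mem (Algebra.adjoin (ℬ 0) Sset) ⟨c₀, hc₀⟩, rfl⟩
  obtain ⟨b', hb', hbb'⟩ := hmem
  rwa [← hφ hbb']

end Veronese

lemma veronese_noetherian [IsNoetherianRing A] {B : Type u} [CommRing B] [Algebra R B]
    (ℬ : ℕ → Submodule R B) [GradedAlgebra ℬ] (d : ℕ) (φ : B →ₐ[R] A) (hd : 0 < d)
    (hφ : Function.Injective φ)
    (hdeg : ∀ n : ℕ, Submodule.map φ.toLinearMap (ℬ n) = 𝒜 (n * d)) : IsNoetherianRing B := by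
  obtain ⟨_, _⟩ := (isNoetherianRing_iff_degZero 𝒜).mp ‹_›
  refine (isNoetherianRing_iff_degZero ℬ).mpr ⟨?_, veronese_finiteType 𝒜 ℬ d φ hd hφ hdeg⟩
  have hmap : ∀ x : ℬ 0, φ x ∈ 𝒜 0 := fun x ↦ by
    simpa using (hdeg 0).le ⟨x, x.2, rfl⟩
  let f : ℬ 0 →+* 𝒜 0 :=
    { toFun := fun x ↦ ⟨φ x, hmap x⟩
      map_one' := Subtype.ext (map_one φ)
      map_mul' := fun x y ↦ Subtype.ext (map_mul φ _ _)
      map_zero' := Subtype.ext (map_zero φ)
      map_add' := fun x y ↦ Subtype.ext (map_add φ _ _) }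
  have hf : Function.Bijective f := by
    refine ⟨fun x y h ↦ Subtype.ext (hφ (Subtype.ext_iff.mp h)), fun z ↦ ?_⟩
    have hz : (z : A) ∈ 𝒜 (0 * d) := by simp
    rw [← hdeg 0] at hz
    obtain ⟨x, hx, hxz⟩ := hz
    exact ⟨⟨x, hx⟩, Subtype.ext hxz⟩
  exact isNoetherianRing_of_ringEquiv _ (RingEquiv.ofBijective f hf).symm

end Groth.Agent.Proj16
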