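import Groth.Agent.Proj16.Map
import Groth.Agent.Proj16.Veronese

/-!
# The algebra `⊕ tⁿ A_{≥ n}`
-/

universe u

open SetLike Polynomial

namespace Groth.Agent.Proj16

variable {R A B : Type u} [CommRing R] [CommRing A] [Algebra R A] (𝒜 : ℕ → Submodule R A)
  [GradedAlgebra 𝒜]

/-- The part of degree at least `n`. -/
def degGE (n : ℕ) : Submodule R A := ⨆ (m : ℕ) (_ : n ≤ m), 𝒜 m

lemma mem_degGE_of_mem {n m : ℕ} (h : n ≤ m) {a : A} (ha : a ∈ 𝒜 m) : a ∈ degGE 𝒜 n :=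
  Submodule.mem_iSup_of_mem m (Submodule.mem_iSup_of_mem h ha)

lemma degGE_induction {n : ℕ} {P : A → Prop} (h0 : P 0) (hadd : ∀ x y, P x → P y → P (x + y))
    (h : ∀ m, n ≤ m → ∀ a ∈ 𝒜 m, P a) {a : A} (ha : a ∈ degGE 𝒜 n) : P a := by
  refine Submodule.iSup_induction _ (motive := P) ha (fun m x hx ↦ ?_) h0 hadd
  exact Submodule.iSup_induction _ (motive := P) hx (fun hm y hy ↦ h m hm y hy) h0 hadd

lemma proj_eq_zero_of_mem_degGE {n m : ℕ} (hm : m < n) {a : A} (ha : a ∈ degGE 𝒜 n) :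
    GradedRing.proj 𝒜 m a = 0 :=
  degGE_induction 𝒜 (P := fun a ↦ GradedRing.proj 𝒜 m a = 0) (map_zero _)
    (fun x y hx hy ↦ by rw [map_add, hx, hy, add_zero])
    (fun k hk x hx ↦ proj_of_mem_ne 𝒜 hx (by omega)) ha

lemma mem_degGE_iff {n : ℕ} {a : A} :
    a ∈ degGE 𝒜 n ↔ ∀ m, m < n → GradedRing.proj 𝒜 m a = 0 := by
  refine ⟨fun ha m hm ↦ proj_eq_zero_of_mem_degGE 𝒜 hm ha, fun h ↦ ?_⟩
  refine mem_of_forall_proj_mem 𝒜 fun i ↦ ?_
  by_cases hi : n ≤ i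
  · exact mem_degGE_of_mem 𝒜 hi (proj_mem 𝒜 i a)
  · rw [h i (by omega)]; exact zero_mem _

lemma mem_degGE_zero (a : A) : a ∈ degGE 𝒜 0 := (mem_degGE_iff 𝒜).mpr fun m hm ↦ absurd hm (by omega)

lemma mem_degGE_one {a : A} : a ∈ degGE 𝒜 1 ↔ a ∈ (HomogeneousIdeal.irrelevant 𝒜).toIdeal := by
  rw [mem_degGE_iff, HomogeneousIdeal.mem_iff, HomogeneousIdeal.mem_irrelevant_iff]
  exact ⟨fun h ↦ h 0 Nat.one_pos, fun h m hm ↦ by rwa [Nat.lt_one_iff.mp hm]⟩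

lemma degGE_mul_le (i j : ℕ) : degGE 𝒜 i * degGE 𝒜 j ≤ degGE 𝒜 (i + j) := by
  rw [Submodule.mul_le]
  intro x hx y hy
  refine degGE_induction 𝒜 (P := fun x ↦ x * y ∈ degGE 𝒜 (i + j)) (by simp)
    (fun a b ha hb ↦ by rw [add_mul]; exact add_mem ha hb) (fun m hm a ha ↦ ?_) hx
  refine degGE_induction 𝒜 (P := fun y ↦ a * y ∈ degGE 𝒜 (i + j)) (by simp)
    (fun c e hc he ↦ by rw [mul_add]; exact add_mem hc he) (fun l hl c hc ↦ ?_) hy
  exact mem_degGE_of_mem 𝒜 (by omega) (SetLike.mul_mem_graded ha hc)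

lemma proj_mul_degGE {i j : ℕ} {x y : A} (hx : x ∈ degGE 𝒜 i) (hy : y ∈ degGE 𝒜 j) :
    GradedRing.proj 𝒜 (i + j) (x * y) = GradedRing.proj 𝒜 i x * GradedRing.proj 𝒜 j y := by
  refine degGE_induction 𝒜 (P := fun x ↦ GradedRing.proj 𝒜 (i + j) (x * y) =
    GradedRing.proj 𝒜 i x * GradedRing.proj 𝒜 j y) (by simp)
    (fun a b ha hb ↦ by rw [add_mul, map_add, map_add, ha, hb, add_mul]) (fun m hm a ha ↦ ?_) hx
  refine degGE_induction 𝒜 (P := fun y ↦ GradedRing.proj 𝒜 (i + j) (a * y) =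
    GradedRing.proj 𝒜 i a * GradedRing.proj 𝒜 j y) (by simp)
    (fun c e hc he ↦ by rw [mul_add, map_add, map_add, hc, he, mul_add]) (fun l hl c hc ↦ ?_) hy
  by_cases h : m = i ∧ l = j
  · obtain ⟨rfl, rfl⟩ := h
    rw [proj_of_mem 𝒜 ha, proj_of_mem 𝒜 hc, proj_of_mem 𝒜 (SetLike.mul_mem_graded ha hc)]
  · rw [proj_of_mem_ne 𝒜 (SetLike.mul_mem_graded ha hc) (by omega)]
    rcases not_and_or.mp h with h' | h'
    · rw [proj_of_mem_ne 𝒜 ha h', zero_mul]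
    · rw [proj_of_mem_ne 𝒜 hc h', mul_zero]

lemma degGE_step_iff (n₀ : ℕ) :
    (∀ n, n₀ ≤ n → degGE 𝒜 (n + 1) = degGE 𝒜 1 * degGE 𝒜 n) ↔
      ∀ n, n₀ ≤ n → 𝒜 (n + 1) = 𝒜 1 * 𝒜 n := by
  constructor
  · intro h n hn
    refine le_antisymm (fun a ha ↦ ?_) (Submodule.mul_le.mpr fun x hx y hy ↦
      add_comm 1 n ▸ SetLike.mul_mem_graded hx hy)
    have hmem := (h n hn).le (mem_degGE_of_mem 𝒜 le_rfl ha)
    rw [← proj_of_mem 𝒜 ha]
    clear ha
    induction hmem using Submodule.mul_induction_on' with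
    | mem_mul_mem x hx y hy =>
      rw [add_comm n 1, proj_mul_degGE 𝒜 hx hy]
      exact Submodule.mul_mem_mul (proj_mem 𝒜 1 x) (proj_mem 𝒜 n y)
    | add x _ y _ hx hy => rw [map_add]; exact add_mem hx hy
  · intro h n hn
    refine le_antisymm (fun a ha ↦ ?_) ((degGE_mul_le 𝒜 1 n).trans (by rw [add_comm]))
    refine degGE_induction 𝒜 (P := fun a ↦ a ∈ degGE 𝒜 1 * degGE 𝒜 n) (zero_mem _)
      (fun _ _ ↦ add_mem) (fun m hm x hx ↦ ?_) ha
    obtain ⟨k, rfl⟩ : ∃ k, m = k + 1 := ⟨m - 1, by omega⟩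
    have h1 : 𝒜 1 ≤ degGE 𝒜 1 := fun y hy ↦ mem_degGE_of_mem 𝒜 le_rfl hy
    have h2 : 𝒜 k ≤ degGE 𝒜 n := fun y hy ↦ mem_degGE_of_mem 𝒜 (by omega) hy
    have h3 : 𝒜 1 * 𝒜 k ≤ degGE 𝒜 1 * degGE 𝒜 n := mul_le_mul' h1 h2
    exact h3 ((h k (by omega)).le hx)

lemma degGE_pow_le : ∀ n, degGE 𝒜 1 ^ n ≤ degGE 𝒜 n
  | 0 => fun x _ ↦ mem_degGE_zero 𝒜 x
  | n + 1 => by
    rw [pow_succ]
    exact (mul_le_mul_left (degGE_pow_le n) _).trans (degGE_mul_le 𝒜 n 1)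

lemma proj_degGE_pow : ∀ n, 0 < n → ∀ a ∈ degGE 𝒜 1 ^ n, GradedRing.proj 𝒜 n a ∈ 𝒜 1 ^ n
  | 1, _ => fun a _ ↦ by rw [pow_one]; exact proj_mem 𝒜 1 a
  | n + 2, _ => fun a ha ↦ by
    rw [pow_succ] at ha ⊢
    induction ha using Submodule.mul_induction_on' with
    | mem_mul_mem x hx y hy =>
      rw [proj_mul_degGE 𝒜 (i := n + 1) (j := 1) (degGE_pow_le 𝒜 _ hx) hy]
      exact Submodule.mul_mem_mul (proj_degGE_pow (n + 1) (by omega) x hx) (proj_mem 𝒜 1 y)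
    | add x _ y _ hx hy => rw [map_add]; exact add_mem hx hy

lemma degGE_pow_iff (n₀ : ℕ) (hn₀ : 1 ≤ n₀) :
    (∀ n, n₀ ≤ n → degGE 𝒜 n = degGE 𝒜 1 ^ n) ↔ ∀ n, n₀ ≤ n → 𝒜 n = 𝒜 1 ^ n := by
  have hle : ∀ k, 0 < k → 𝒜 1 ^ k ≤ 𝒜 k := fun k hk ↦ by simpa using pow_le_graded 𝒜 1 k hk
  constructor
  · intro h n hn
    refine le_antisymm (fun a ha ↦ ?_) (hle n (by omega))
    rw [← proj_of_mem 𝒜 ha]
    exact proj_degGE_pow 𝒜 n (by omega) a ((h n hn).le (mem_degGE_of_mem 𝒜 le_rfl ha))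
  · intro h n hn
    refine le_antisymm (fun a ha ↦ ?_) (degGE_pow_le 𝒜 n)
    refine degGE_induction 𝒜 (P := fun a ↦ a ∈ degGE 𝒜 1 ^ n) (zero_mem _)
      (fun _ _ ↦ add_mem) (fun m hm x hx ↦ ?_) ha
    obtain ⟨k, rfl⟩ : ∃ k, n = k + 1 := ⟨n - 1, by omega⟩
    have hx' : x ∈ 𝒜 1 ^ k * 𝒜 1 ^ (m - k) := by
      rw [← pow_add, show k + (m - k) = m by omega]
      exact (h m (by omega)).le hx
    rw [pow_succ]
    have h1 : 𝒜 1 ≤ degGE 𝒜 1 := fun y hy ↦ mem_degGE_of_mem 𝒜 le_rfl hy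
    have h2 : 𝒜 1 ^ (m - k) ≤ degGE 𝒜 1 :=
      (hle (m - k) (by omega)).trans fun y hy ↦ mem_degGE_of_mem 𝒜 (by omega) hy
    have h3 : 𝒜 1 ^ k * 𝒜 1 ^ (m - k) ≤ degGE 𝒜 1 ^ k * degGE 𝒜 1 :=
      mul_le_mul' (pow_le_pow_left' h1 k) h2
    exact h3 hx'

variable [CommRing B] [Algebra R B] (ℬ : ℕ → Submodule R B) [GradedAlgebra ℬ]
  (φ : B →ₐ[R] A[X]) (hφ : Function.Injective φ)
  (hdeg : ∀ n : ℕ, Submodule.map φ.toLinearMap (ℬ n) =
    Submodule.map ((Polynomial.monomial n : A →ₗ[A] A[X]).restrictScalars R) (degGE 𝒜 n))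

include hdeg in
lemma natural_apply {n : ℕ} {b : B} (hb : b ∈ ℬ n) :
    φ b = monomial n ((φ b).coeff n) ∧ (φ b).coeff n ∈ degGE 𝒜 n := by
  obtain ⟨a, ha, e⟩ := (hdeg n).le (Submodule.mem_map_of_mem hb)
  change monomial n a = φ b at e
  rw [← e, coeff_monomial_same]
  exact ⟨rfl, ha⟩

include hdeg in
lemma natural_preimage {n : ℕ} {a : A} (ha : a ∈ degGE 𝒜 n) : ∃ b ∈ ℬ n, φ b = monomial n a :=
  (hdeg n).ge (Submodule.mem_map_of_mem ha)

omit [GradedAlgebra 𝒜] in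
lemma map_monomial_mul (i j : ℕ) (P Q : Submodule R A) :
    P.map ((monomial i : A →ₗ[A] A[X]).restrictScalars R) *
      Q.map ((monomial j : A →ₗ[A] A[X]).restrictScalars R) =
      (P * Q).map ((monomial (i + j) : A →ₗ[A] A[X]).restrictScalars R) := by
  refine le_antisymm (Submodule.mul_le.mpr ?_) ?_
  · rintro _ ⟨a, ha, rfl⟩ _ ⟨b, hb, rfl⟩
    exact ⟨a * b, Submodule.mul_mem_mul ha hb, (monomial_mul_monomial i j a b).symm⟩
  · rw [Submodule.map_le_iff_le_comap, Submodule.mul_le]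
    intro a ha b hb
    change monomial (i + j) (a * b) ∈ P.map ((monomial i : A →ₗ[A] A[X]).restrictScalars R) *
      Q.map ((monomial j : A →ₗ[A] A[X]).restrictScalars R)
    rw [← monomial_mul_monomial]
    exact Submodule.mul_mem_mul
      (Submodule.mem_map_of_mem (f := (monomial i : A →ₗ[A] A[X]).restrictScalars R) ha)
      (Submodule.mem_map_of_mem (f := (monomial j : A →ₗ[A] A[X]).restrictScalars R) hb)

include hφ hdeg in
lemma natural_step_iff (n₀ : ℕ) :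
    (∀ n, n₀ ≤ n → ℬ (n + 1) = ℬ 1 * ℬ n) ↔ ∀ n, n₀ ≤ n → 𝒜 (n + 1) = 𝒜 1 * 𝒜 n := by
  rw [← degGE_step_iff 𝒜 n₀]
  refine forall₂_congr fun n _ ↦ ?_
  rw [← (Submodule.map_injective_of_injective (f := φ.toLinearMap) hφ).eq_iff, Submodule.map_mul,
    hdeg, hdeg, hdeg, map_monomial_mul, add_comm 1 n]
  exact (Submodule.map_injective_of_injective (f := (monomial (n + 1) : A →ₗ[A] A[X]).restrictScalars R)
    (monomial_injective (n + 1))).eq_iff

include hφ hdeg in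
lemma natural_pow_iff (n₀ : ℕ) (hn₀ : 1 ≤ n₀) :
    (∀ n, n₀ ≤ n → ℬ n = ℬ 1 ^ n) ↔ ∀ n, n₀ ≤ n → 𝒜 n = 𝒜 1 ^ n := by
  rw [← degGE_pow_iff 𝒜 n₀ hn₀]
  have hpow : ∀ n, 0 < n → (ℬ 1 ^ n).map φ.toLinearMap =
      (degGE 𝒜 1 ^ n).map ((monomial n : A →ₗ[A] A[X]).restrictScalars R) := by
    intro n hn
    induction n, hn using Nat.le_induction with
    | base => rw [pow_one, pow_one, hdeg]
    | succ n hn ih => rw [pow_succ, pow_succ, Submodule.map_mul, ih, hdeg, map_monomial_mul]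
  refine forall₂_congr fun n hn ↦ ?_
  rw [← (Submodule.map_injective_of_injective (f := φ.toLinearMap) hφ).eq_iff, hdeg,
    hpow n (by omega)]
  exact (Submodule.map_injective_of_injective (f := (monomial n : A →ₗ[A] A[X]).restrictScalars R)
    (monomial_injective n)).eq_iff

include hφ hdeg in
/-- The degree zero part is `A`. -/
lemma exists_natural_degZero :
    ∃ e : ℬ 0 ≃+* A, ∀ c : ℬ 0, φ c.1 = Polynomial.C (e c) := by
  let g : ℬ 0 →+* A := (constantCoeff.comp φ.toRingHom).comp (algebraMap (ℬ 0) B)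
  have hg : ∀ c : ℬ 0, φ c.1 = Polynomial.C (g c) := fun c ↦
    (natural_apply 𝒜 ℬ φ hdeg c.2).1.trans (@monomial_zero_left A _ _)
  refine ⟨RingEquiv.ofBijective g ⟨fun c c' h ↦ Subtype.ext (hφ (by rw [hg, hg, h])), fun a ↦ ?_⟩, hg⟩
  obtain ⟨b, hb, e⟩ := natural_preimage 𝒜 ℬ φ hdeg (mem_degGE_zero 𝒜 a)
  refine ⟨⟨b, hb⟩, ?_⟩
  have := hg ⟨b, hb⟩
  rw [e, monomial_zero_left] at this
  exact (C_injective this).symm

include hφ hdeg in
lemma natural_finiteType_iff : Algebra.FiniteType (ℬ 0) B ↔ Algebra.FiniteType (𝒜 0) A := by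
  classical
  obtain ⟨e0, he0⟩ := exists_natural_degZero 𝒜 ℬ φ hφ hdeg
  constructor
  · intro h
    obtain ⟨N, g, d, hd, hg, hgen⟩ := exists_generators ℬ
    rw [← irrelevant_fg_iff]
    let s : Finset A := (Finset.univ.filter fun j ↦ d j = 1).image fun j ↦ (φ (g j)).coeff 1
    refine ⟨s, le_antisymm ?_ ?_⟩
    · rw [Ideal.span_le]
      intro a ha
      obtain ⟨j, hj, rfl⟩ := Finset.mem_image.mp (Finset.mem_coe.mp ha)
      obtain ⟨-, hj⟩ := Finset.mem_filter.mp hj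
      exact (mem_degGE_one 𝒜).mp (natural_apply 𝒜 ℬ φ hdeg (hj ▸ hg j)).2
    · intro a ha
      obtain ⟨b, hb, e⟩ := natural_preimage 𝒜 ℬ φ hdeg ((mem_degGE_one 𝒜).mpr ha)
      rw [← coeff_monomial_same (R := A) 1 a, ← e]
      refine induction_on_monomials (P := fun b ↦ (φ b).coeff 1 ∈ Ideal.span (s : Set A)) hg hgen
        (by simp) (fun x y hx hy ↦ by rw [map_add, coeff_add]; exact add_mem hx hy)
        (fun c hc k hk ↦ ?_) hb
      obtain ⟨j, hj⟩ : ∃ j, k j ≠ 0 := by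
        by_contra! H
        simp [H] at hk
      have hjle := Finset.single_le_sum (f := fun i ↦ k i * d i) (fun i _ ↦ Nat.zero_le _)
        (Finset.mem_univ j)
      rw [hk] at hjle
      have hdj : d j = 1 ∧ k j = 1 := by
        have := hd j
        constructor <;> nlinarith [Nat.pos_of_ne_zero hj]
      have hne : ∀ i, i ≠ j → k i = 0 := by
        intro i hi
        have h2 := Finset.add_sum_erase Finset.univ (fun i ↦ k i * d i) (Finset.mem_univ j)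
        rw [hk, hdj.1, hdj.2] at h2
        have h3 : ∀ i ∈ Finset.univ.erase j, k i * d i = 0 := by
          rw [← Finset.sum_eq_zero_iff]; omega
        exact (Nat.mul_eq_zero.mp (h3 i (Finset.mem_erase.mpr ⟨hi, Finset.mem_univ i⟩))).resolve_right
          (hd i).ne'
      rw [Finset.prod_eq_single j (fun i _ hi ↦ by rw [hne i hi, pow_zero]) (by simp), hdj.2, pow_one,
        map_mul, he0 ⟨c, hc⟩, coeff_C_mul]
      exact Ideal.mul_mem_left _ _ (Ideal.subset_span (Finset.mem_coe.mpr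
        (Finset.mem_image.mpr ⟨j, Finset.mem_filter.mpr ⟨Finset.mem_univ j, hdj.1⟩, rfl⟩)))
  · intro h
    obtain ⟨N, f, d, hd, hf, hgen⟩ := exists_generators 𝒜
    choose b hb hbe using fun p : (j : Fin N) × Fin (d j + 1) ↦
      natural_preimage 𝒜 ℬ φ hdeg (n := p.2.1) (mem_degGE_of_mem 𝒜 (Nat.lt_succ_iff.mp p.2.2) (hf p.1))
    let S : Subalgebra (ℬ 0) B := Algebra.adjoin (ℬ 0) (Set.range b)
    suffices hS : S = ⊤ by
      exact ⟨hS ▸ Subalgebra.fg_def.mpr ⟨_, Set.finite_range b, rfl⟩⟩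
    let P : ℕ → A → Prop := fun m a ↦ ∀ n, n ≤ m → ∃ z ∈ S, φ z = monomial n a
    have hzero : ∀ c, P 0 c := fun c n hn ↦ by
      refine ⟨(e0.symm c).1, S.algebraMap_mem (e0.symm c), ?_⟩
      rw [he0, RingEquiv.apply_symm_apply, Nat.le_zero.mp hn, monomial_zero_left]
    have hstep : ∀ j m a, P m a → P (m + d j) (a * f j) := fun j m a hP n hn ↦ by
      obtain ⟨z, hz, hze⟩ := hP (n - min n (d j)) (by omega)
      refine ⟨z * b ⟨j, ⟨min n (d j), Nat.lt_succ_iff.mpr (min_le_right _ _)⟩⟩,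
        S.mul_mem hz (Algebra.subset_adjoin (Set.mem_range_self _)), ?_⟩
      rw [map_mul, hze, hbe, monomial_mul_monomial]
      simp only
      rw [Nat.sub_add_cancel (min_le_left n (d j))]
    have hpow : ∀ j r m a, P m a → P (m + r * d j) (a * f j ^ r) := by
      intro j r
      induction r with
      | zero => intro m a h; simpa using h
      | succ r ih =>
        intro m a h
        have := hstep j _ _ (ih m a h)
        rw [mul_assoc, ← pow_succ, add_assoc, ← Nat.succ_mul] at this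
        exact this
    have hprod : ∀ (t : Finset (Fin N)) (k : Fin N → ℕ) (c : A),
        P (∑ j ∈ t, k j * d j) (c * ∏ j ∈ t, f j ^ k j) := by
      intro t k c
      induction t using Finset.induction_on with
      | empty => simpa using hzero c
      | insert j t hj ih =>
        have := hpow j (k j) _ _ ih
        rw [Finset.sum_insert hj, Finset.prod_insert hj, add_comm (k j * d j),
          mul_comm (f j ^ k j), ← mul_assoc]
        exact this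
    have hall : ∀ n a, a ∈ degGE 𝒜 n → ∃ z ∈ S, φ z = monomial n a := fun n a ha ↦
      degGE_induction 𝒜 (P := fun a ↦ ∃ z ∈ S, φ z = monomial n a) ⟨0, S.zero_mem, by simp⟩
        (fun x y ⟨z, hz, e⟩ ⟨z', hz', e'⟩ ↦ ⟨z + z', S.add_mem hz hz', by rw [map_add, e, e', map_add]⟩)
        (fun m hm x hx ↦ induction_on_monomials (P := fun x ↦ ∃ z ∈ S, φ z = monomial n x) hf hgen
          ⟨0, S.zero_mem, by simp⟩
          (fun x y ⟨z, hz, e⟩ ⟨z', hz', e'⟩ ↦ ⟨z + z', S.add_mem hz hz', by rw [map_add, e, e', map_add]⟩)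
          (fun c _ k hk ↦ hprod Finset.univ k c n (hk.symm ▸ hm)) hx) ha
    refine top_le_iff.mp fun x _ ↦ mem_of_forall_proj_mem ℬ fun i ↦ ?_
    obtain ⟨he, hg⟩ := natural_apply 𝒜 ℬ φ hdeg (proj_mem ℬ i x)
    obtain ⟨z, hz, hze⟩ := hall i _ hg
    rwa [hφ (he.trans hze.symm)]

include hφ hdeg in
lemma natural_isNoetherianRing_iff : IsNoetherianRing B ↔ IsNoetherianRing A := by
  obtain ⟨e0, -⟩ := exists_natural_degZero 𝒜 ℬ φ hφ hdeg
  rw [isNoetherianRing_iff_degZero ℬ]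
  constructor
  · rintro ⟨h, -⟩
    exact isNoetherianRing_of_ringEquiv _ e0
  · intro h
    exact ⟨isNoetherianRing_of_ringEquiv _ e0.symm,
      (natural_finiteType_iff 𝒜 ℬ φ hφ hdeg).mpr ((isNoetherianRing_iff_degZero 𝒜).mp h).2⟩

include hφ hdeg in
lemma natural_radical {ι : Type u} (d : ι → ℕ) (f : ι → A) (hf : ∀ i, f i ∈ 𝒜 (d i))
    (hrad : ∀ g ∈ (HomogeneousIdeal.irrelevant 𝒜).toIdeal,
      ∃ n : ℕ, 0 < n ∧ g ^ n ∈ Ideal.span (Set.range f))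
    (fn : ι → B) (hfn : ∀ i, φ (fn i) = monomial (d i) (f i)) :
    (HomogeneousIdeal.irrelevant ℬ).toIdeal ≤ (Ideal.span (Set.range fn)).radical := by
  classical
  rw [HomogeneousIdeal.irrelevant_eq_span, Ideal.span_le]
  simp only [Set.iUnion_subset_iff]
  intro n hn b hb
  obtain ⟨hbe, hg⟩ := natural_apply 𝒜 ℬ φ hdeg hb
  suffices H : ∀ a ∈ degGE 𝒜 n,
      ∃ z ∈ (Ideal.span (Set.range fn)).radical, φ z = monomial n a by
    obtain ⟨z, hz, hze⟩ := H _ hg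
    have : b = z := hφ (hbe.trans hze.symm)
    exact this ▸ hz
  intro a ha
  refine degGE_induction 𝒜 (P := fun a ↦ ∃ z ∈ (Ideal.span (Set.range fn)).radical,
    φ z = monomial n a) ⟨0, Ideal.zero_mem _, by simp⟩
    (fun x y ⟨z, hz, e⟩ ⟨z', hz', e'⟩ ↦ ⟨z + z', add_mem hz hz', by rw [map_add, e, e', map_add]⟩)
    (fun m hm x hx ↦ ?_) ha
  obtain ⟨z, -, hze⟩ := natural_preimage 𝒜 ℬ φ hdeg (mem_degGE_of_mem 𝒜 hm hx)
  refine ⟨z, ?_, hze⟩
  obtain ⟨r, hr, hxr⟩ := hrad x (HomogeneousIdeal.mem_irrelevant_of_mem 𝒜 (by omega) hx)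
  obtain ⟨c, hc⟩ := Finsupp.mem_span_range_iff_exists_finsupp.mp hxr
  let K := ∑ i ∈ c.support, d i + 1
  refine ⟨r * K, ?_⟩
  have hxK : x ^ (r * K) = ∑ i ∈ c.support, c i * x ^ (r * (K - 1)) * f i := by
    have hrK : r * K = r + r * (K - 1) := by
      conv_lhs => rw [show K = (K - 1) + 1 by omega, Nat.mul_succ]
      exact add_comm _ _
    conv_lhs => rw [hrK, pow_add, ← hc]
    rw [Finsupp.sum, Finset.sum_mul]
    refine Finset.sum_congr rfl fun i _ ↦ ?_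
    rw [smul_eq_mul]; ring
  have hhom : x ^ (r * K) ∈ 𝒜 ((r * K) * m) := by simpa using SetLike.pow_mem_graded (r * K) hx
  rw [← proj_of_mem 𝒜 hhom, hxK, map_sum] at hhom
  have hxK' : x ^ (r * K) = ∑ i ∈ c.support,
      GradedRing.proj 𝒜 ((r * K) * m) (c i * x ^ (r * (K - 1)) * f i) := by
    rw [← map_sum, ← hxK]
    exact (proj_of_mem 𝒜 (by simpa using SetLike.pow_mem_graded (r * K) hx)).symm
  have hdK : ∀ i ∈ c.support, d i ≤ (r * K) * n := fun i hi ↦ by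
    have h1 := Finset.single_le_sum (fun j _ ↦ Nat.zero_le (d j)) hi
    have : K ≤ r * K * n := le_mul_of_le_of_one_le (Nat.le_mul_of_pos_left K hr) hn
    omega
  choose w hwm hw using fun i : c.support ↦
    natural_preimage 𝒜 ℬ φ hdeg (n := (r * K) * n - d i)
      (mem_degGE_of_mem 𝒜 (m := (r * K) * m - d i)
        (Nat.sub_le_sub_right (Nat.mul_le_mul_left _ hm) _)
        (proj_mem 𝒜 _ (c i.1 * x ^ (r * (K - 1)))))
  have hsum : z ^ (r * K) = ∑ i : c.support, w i * fn i.1 := by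
    apply hφ
    rw [map_pow, hze, monomial_pow, hxK', map_sum, map_sum, mul_comm n, ← Finset.sum_coe_sort]
    refine Finset.sum_congr rfl fun i _ ↦ ?_
    have h1 := hdK i.1 i.2
    have h2 : d i ≤ r * K * m := h1.trans (Nat.mul_le_mul_left _ hm)
    conv_rhs => rw [map_mul, hw, hfn, monomial_mul_monomial]
    rw [proj_mul_of_mem 𝒜 (hf i.1), if_pos h2, Nat.sub_add_cancel h1]
  rw [hsum]
  exact Ideal.sum_mem _ fun i _ ↦ Ideal.mul_mem_left _ _ (Ideal.subset_span ⟨_, rfl⟩)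

end Groth.Agent.Proj16
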