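import Groth.Agent.Proj16.Natural
import Groth.Agent.Proj16.ConeData

/-!
# The quotient of `⊕ tⁿ A_{≥ n}` by the degree zero irrelevant ideal
-/

universe u

open SetLike Polynomial

namespace Groth.Agent.Proj16

variable {R A B C : Type u} [CommRing R] [CommRing A] [Algebra R A] (𝒜 : ℕ → Submodule R A)
  [GradedAlgebra 𝒜] [CommRing B] [Algebra R B] (ℬ : ℕ → Submodule R B) [GradedAlgebra ℬ]
  (φ : B →ₐ[R] A[X]) (hφ : Function.Injective φ)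
  (hdeg : ∀ n : ℕ, Submodule.map φ.toLinearMap (ℬ n) =
    Submodule.map ((Polynomial.monomial n : A →ₗ[A] A[X]).restrictScalars R) (degGE 𝒜 n))
  [CommRing C] [Algebra R C] (𝒞 : ℕ → Submodule R C) [GradedAlgebra 𝒞]
  (π : ℬ →+*ᵍ 𝒞) (hπ : Function.Surjective π)
  (hker : RingHom.ker π.toRingHom =
    Ideal.span (⇑φ ⁻¹' (⇑(Polynomial.C : A →+* A[X]) '' ((HomogeneousIdeal.irrelevant 𝒜).toIdeal : Set A))))
  (ρ : 𝒞 →+*ᵍ 𝒜) (hρ : ∀ (n : ℕ) (b : B), b ∈ ℬ n → ρ (π b) = GradedRing.proj 𝒜 n ((φ b).coeff n))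

include hdeg hρ in
lemma natural_ρ_surjective : Function.Surjective ρ := by
  intro a
  induction a using DirectSum.Decomposition.inductionOn 𝒜 with
  | zero => exact ⟨0, map_zero ρ⟩
  | homogeneous m =>
    rename_i i
    obtain ⟨b, hb, e⟩ := natural_preimage 𝒜 ℬ φ hdeg (mem_degGE_of_mem 𝒜 le_rfl m.2)
    refine ⟨π b, ?_⟩
    rw [hρ i b hb, e, coeff_monomial_same, proj_of_mem 𝒜 m.2]
  | add x y hx hy =>
    obtain ⟨a, rfl⟩ := hx
    obtain ⟨b, rfl⟩ := hy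
    exact ⟨a + b, map_add ρ a b⟩

include hφ hdeg hker in
/-- An element whose image is a product with an element of `A_+` in degree zero is killed by `π`. -/
lemma natural_π_eq_zero {n : ℕ} {z : B} {x y : A} (hz : φ z = monomial n (x * y))
    (hx : x ∈ (HomogeneousIdeal.irrelevant 𝒜).toIdeal) (hy : y ∈ degGE 𝒜 n) : π z = 0 := by
  obtain ⟨w, -, hw⟩ := natural_preimage 𝒜 ℬ φ hdeg (mem_degGE_zero 𝒜 x)
  obtain ⟨v, -, hv⟩ := natural_preimage 𝒜 ℬ φ hdeg hy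
  have hwk : w ∈ RingHom.ker π.toRingHom := by
    rw [hker]
    refine Ideal.subset_span ⟨x, hx, ?_⟩
    rw [hw, monomial_zero_left]
  have : z = w * v := hφ (by rw [map_mul, hw, hv, monomial_mul_monomial, zero_add, hz])
  rw [this, map_mul, show π w = 0 from hwk, zero_mul]

include hdeg hπ hρ in
/-- Homogeneous elements of the kernel of `ρ` come from degree `> n`. -/
lemma natural_ker_ρ {n : ℕ} {c : C} (hc : c ∈ 𝒞 n) (h : ρ c = 0) :
    ∃ b a, φ b = monomial n a ∧ π b = c ∧ a ∈ degGE 𝒜 (n + 1) := by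
  obtain ⟨b, hb, rfl⟩ := exists_mem_of_surjective π hπ hc
  obtain ⟨he, hg⟩ := natural_apply 𝒜 ℬ φ hdeg hb
  rw [hρ n b hb] at h
  refine ⟨b, _, he, rfl, (mem_degGE_iff 𝒜).mpr fun m hm ↦ ?_⟩
  rcases Nat.lt_or_ge m n with h' | h'
  · exact proj_eq_zero_of_mem_degGE 𝒜 h' hg
  · rw [show m = n by omega]; exact h

include hφ hdeg hπ hker hρ in
lemma natural_ker_nilpotent {c : C} (h : ρ c = 0) : IsNilpotent c := by
  suffices c ∈ (⊥ : Ideal C).radical by simpa [Ideal.mem_radical_iff, IsNilpotent] using this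
  refine mem_of_forall_proj_mem 𝒞 fun n ↦ ?_
  have h' : ρ (GradedRing.proj 𝒞 n c) = 0 := by rw [proj_map_commutes, h, map_zero]
  obtain ⟨b, a, he, hb, ha⟩ := natural_ker_ρ 𝒜 ℬ φ hdeg 𝒞 π hπ ρ hρ (proj_mem 𝒞 n c) h'
  suffices H : ∃ z, φ z = monomial n a ∧ π z ∈ (⊥ : Ideal C).radical by
    obtain ⟨z, hz, hz'⟩ := H
    rwa [← hb, hφ (he.trans hz.symm)]
  clear he
  refine degGE_induction 𝒜 (P := fun a ↦ ∃ z, φ z = monomial n a ∧ π z ∈ (⊥ : Ideal C).radical)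
    ⟨0, by simp, by simp⟩
    (fun x y ⟨z, e, hz⟩ ⟨z', e', hz'⟩ ↦ ⟨z + z', by rw [map_add, e, e', map_add],
      by rw [map_add]; exact add_mem hz hz'⟩)
    (fun m hm x hx ↦ ?_) ha
  obtain ⟨z, -, hz⟩ := natural_preimage 𝒜 ℬ φ hdeg (mem_degGE_of_mem 𝒜 (by omega : n ≤ m) hx)
  refine ⟨z, hz, m, ?_⟩
  rw [← map_pow, Ideal.mem_bot]
  obtain ⟨k, rfl⟩ : ∃ k, m = k + 1 := ⟨m - 1, by omega⟩
  refine natural_π_eq_zero 𝒜 ℬ φ hφ hdeg 𝒞 π hker (x := x) (y := x ^ k) (n := n * (k + 1))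
    (by rw [map_pow, hz, monomial_pow, pow_succ']) (HomogeneousIdeal.mem_irrelevant_of_mem 𝒜
      (Nat.succ_pos _) hx) ?_
  refine mem_degGE_of_mem 𝒜 (m := k * (k + 1)) (Nat.mul_le_mul_right _ (by omega)) ?_
  simpa using SetLike.pow_mem_graded k hx

include hφ hdeg hπ hker hρ in
lemma natural_bijOn {n₀ : ℕ} (hgen : ∀ n, n₀ ≤ n → 𝒜 (n + 1) = 𝒜 1 * 𝒜 n) (n : ℕ) (hn : n₀ ≤ n) :
    Set.BijOn ρ (𝒞 n : Set C) (𝒜 n : Set A) := by
  refine ⟨fun c hc ↦ ρ.2 hc, fun c hc c' hc' h ↦ ?_, fun a ha ↦ ?_⟩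
  · obtain ⟨b, a, he, hb, ha⟩ := natural_ker_ρ 𝒜 ℬ φ hdeg 𝒞 π hπ ρ hρ
      (sub_mem hc hc') (show ρ (c - c') = 0 by rw [map_sub, h, sub_self])
    suffices H : ∃ z, φ z = monomial n a ∧ π z = 0 by
      obtain ⟨z, hz, hz'⟩ := H
      rw [← sub_eq_zero, ← hb, hφ (he.trans hz.symm), hz']
    refine degGE_induction 𝒜 (P := fun a ↦ ∃ z, φ z = monomial n a ∧ π z = 0)
      ⟨0, by simp, map_zero π⟩
      (fun x y ⟨z, e, hz⟩ ⟨z', e', hz'⟩ ↦ ⟨z + z', by rw [map_add, e, e', map_add],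
        by rw [map_add, hz, hz', add_zero]⟩)
      (fun m hm x hx ↦ ?_) ha
    obtain ⟨k, rfl⟩ : ∃ k, m = k + 1 := ⟨m - 1, by omega⟩
    rw [hgen k (by omega)] at hx
    induction hx using Submodule.mul_induction_on' with
    | mem_mul_mem p hp q hq =>
      have hq' : q ∈ degGE 𝒜 n := mem_degGE_of_mem 𝒜 (by omega) hq
      obtain ⟨z, -, hz⟩ := natural_preimage 𝒜 ℬ φ hdeg
        (n := n) (mem_degGE_of_mem 𝒜 (m := 1 + k) (by omega) (SetLike.mul_mem_graded hp hq))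
      exact ⟨z, hz, natural_π_eq_zero 𝒜 ℬ φ hφ hdeg 𝒞 π hker hz
        (HomogeneousIdeal.mem_irrelevant_of_mem 𝒜 one_pos hp) hq'⟩
    | add x _ y _ hx hy =>
      obtain ⟨z, e, hz⟩ := hx
      obtain ⟨z', e', hz'⟩ := hy
      exact ⟨z + z', by rw [map_add, e, e', map_add], by rw [map_add, hz, hz', add_zero]⟩
  · obtain ⟨b, hb, e⟩ := natural_preimage 𝒜 ℬ φ hdeg (mem_degGE_of_mem 𝒜 le_rfl ha)
    exact ⟨π b, π.2 hb, by rw [hρ n b hb, e, coeff_monomial_same, proj_of_mem 𝒜 ha]⟩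

end Groth.Agent.Proj16
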