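import Groth.Agent.Proj16.Centre
import Groth.Agent.S9821

/-!
# Sections of integral morphisms over normal schemes
-/

universe u

open CategoryTheory CategoryTheory.Limits AlgebraicGeometry IsLocalRing

namespace Groth.Agent.Proj16

variable {P Y : Scheme.{u}} [IsIntegral Y]

lemma isDominant_genericPoint (T : Scheme.{u}) [IsIntegral T] :
    IsDominant (T.fromSpecStalk (genericPoint T)) := by
  refine ⟨?_⟩
  rw [DenseRange, dense_iff_closure_eq, ← Set.univ_subset_iff, ← genericPoint_spec T]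
  refine closure_mono (Set.singleton_subset_iff.mpr ⟨closedPoint _, ?_⟩)
  exact T.fromSpecStalk_closedPoint

lemma isDominant_of_apply_eq {K T : Scheme.{u}} [IsIntegral T] (δ : K ⟶ T) (k : K)
    (h : δ k = genericPoint T) : IsDominant δ := by
  refine ⟨?_⟩
  rw [DenseRange, dense_iff_closure_eq, ← Set.univ_subset_iff, ← genericPoint_spec T]
  exact closure_mono (Set.singleton_subset_iff.mpr ⟨k, h⟩)

/-- Two morphisms over `Y` from an open subscheme into a separated `Y`-scheme agree if they agree at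
the generic point. -/
lemma hom_ext_generic (q : P ⟶ Y) [IsSeparated q] {T : Scheme.{u}} (j : T ⟶ Y) [IsOpenImmersion j]
    (a b : T ⟶ P) (hab : a ≫ q = b ≫ q)
    (h : ∀ δ : Spec Y.functionField ⟶ T, δ ≫ j = Y.fromSpecStalk (genericPoint Y) → δ ≫ a = δ ≫ b) :
    a = b := by
  rcases isEmpty_or_nonempty T with hT | hT
  · exact (isInitialOfIsEmpty (X := T)).hom_ext a b
  · have : IsIntegral T := isIntegral_of_isOpenImmersion j
    have hj : j (genericPoint T) = genericPoint Y := genericPoint_eq_of_isOpenImmersion j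
    have hr : Set.range (Y.fromSpecStalk (genericPoint Y)) ⊆ Set.range j := by
      rw [Scheme.range_fromSpecStalk]
      intro y hy
      exact (Scheme.Hom.opensRange j).2.stableUnderGeneralization hy ⟨_, hj⟩
    let δ := IsOpenImmersion.lift j (Y.fromSpecStalk (genericPoint Y)) hr
    have hδ : δ ≫ j = Y.fromSpecStalk (genericPoint Y) := IsOpenImmersion.lift_fac _ _ _
    have : IsDominant δ := isDominant_of_apply_eq δ (closedPoint Y.functionField)
      (j.isOpenEmbedding.injective (by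
        rw [← Scheme.Hom.comp_apply, hδ, hj]
        exact Y.fromSpecStalk_closedPoint))
    exact ext_of_isDominant_of_isSeparated q hab δ (h δ hδ)

lemma exists_section_affine (hN : Pi1.IsNormalScheme Y) (q : P ⟶ Y) [IsIntegralHom q]
    (σ : Spec Y.functionField ⟶ P) (hσ : σ ≫ q = Y.fromSpecStalk (genericPoint Y))
    (V : Y.Opens) (hV : IsAffineOpen V) [Nonempty V] :
    ∃ t : (V : Scheme.{u}) ⟶ P, t ≫ q = V.ι ∧ ∀ δ : Spec Y.functionField ⟶ (V : Scheme.{u}),
      δ ≫ V.ι = Y.fromSpecStalk (genericPoint Y) → δ ≫ t = σ := by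
  have hW : IsAffineOpen (q ⁻¹ᵁ V) := hV.preimage q
  have hp : σ (closedPoint Y.functionField) ∈ q ⁻¹ᵁ V := by
    change q (σ (closedPoint Y.functionField)) ∈ V
    have h1 : q (σ (closedPoint Y.functionField)) = genericPoint Y :=
      (congrArg (fun k : Spec Y.functionField ⟶ Y ↦ k (closedPoint Y.functionField)) hσ).trans
        Y.fromSpecStalk_closedPoint
    rw [h1]
    exact ((genericPoint_spec Y).mem_open_set_iff V.2).mpr (by simpa using ‹Nonempty V›)
  have hη : genericPoint Y ∈ V :=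
    ((genericPoint_spec Y).mem_open_set_iff V.2).mpr (by simpa using ‹Nonempty V›)
  let θ : Γ(P, q ⁻¹ᵁ V) ⟶ Y.functionField :=
    P.presheaf.germ _ _ hp ≫ Scheme.stalkClosedPointTo σ
  let α : Γ(Y, V) ⟶ Y.functionField := Y.germToFunctionField V
  have hθσ : Spec.map θ ≫ hW.fromSpec = σ := by
    rw [Spec.map_comp, Category.assoc]
    exact (congrArg (Spec.map (Scheme.stalkClosedPointTo σ) ≫ ·)
      (hW.fromSpecStalk_eq_fromSpecStalk hp)).trans (Scheme.Spec_stalkClosedPointTo_fromSpecStalk σ)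
  have hαY : Spec.map α ≫ hV.fromSpec = Y.fromSpecStalk (genericPoint Y) :=
    hV.fromSpecStalk_eq_fromSpecStalk hη
  have hcomm : q.app V ≫ θ = α := by
    refine Spec.map_injective ((cancel_mono hV.fromSpec).mp ?_)
    rw [Spec.map_comp, Category.assoc, Scheme.Hom.app_eq_appLE,
      IsAffineOpen.SpecMap_appLE_fromSpec q hV hW, ← Category.assoc, hθσ, hσ, hαY]
  have := (Groth.Agent.S9821.result Y).mp hN V hV
  have := functionField_isFractionRing_of_isAffineOpen Y V hV
  have hval : ∀ b, ∃ a : Γ(Y, V), α.hom a = θ.hom b := fun b ↦ by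
    have hint := q.isIntegral_app V hV b
    obtain ⟨p, hp1, hp2⟩ := hint
    refine IsIntegrallyClosed.isIntegral_iff.mp ⟨p, hp1, ?_⟩
    have h3 := congrArg θ.hom hp2
    rw [Polynomial.hom_eval₂, map_zero] at h3
    have h4 : θ.hom.comp (q.app V).hom = algebraMap Γ(Y, V) Y.functionField :=
      congrArg CommRingCat.Hom.hom hcomm
    rwa [h4] at h3
  have hinj : Function.Injective α.hom := Y.germToFunctionField_injective V
  choose t ht using hval
  let τ : Γ(P, q ⁻¹ᵁ V) →+* Γ(Y, V) :=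
    { toFun := t
      map_one' := hinj (by simp [ht])
      map_zero' := hinj (by simp [ht])
      map_add' := fun a b ↦ hinj (by simp [ht])
      map_mul' := fun a b ↦ hinj (by simp [ht]) }
  refine ⟨hV.isoSpec.hom ≫ Spec.map (CommRingCat.ofHom τ) ≫ hW.fromSpec, ?_, fun δ hδ ↦ ?_⟩
  · have h1 : q.app V ≫ CommRingCat.ofHom τ = 𝟙 _ := by
      refine CommRingCat.hom_ext (RingHom.ext fun a ↦ hinj ?_)
      exact (ht _).trans (congrArg (fun k : Γ(Y, V) ⟶ Y.functionField ↦ k a) hcomm)
    rw [Category.assoc, Category.assoc, ← IsAffineOpen.SpecMap_appLE_fromSpec q hV hW le_rfl,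
      ← Scheme.Hom.app_eq_appLE, ← Spec.map_comp_assoc, h1, Spec.map_id, Category.id_comp]
    exact hV.isoSpec_hom_fromSpec
  · have h2 : δ ≫ hV.isoSpec.hom = Spec.map α := by
      rw [← cancel_mono hV.fromSpec, Category.assoc, hV.isoSpec_hom_fromSpec, hδ, hαY]
    rw [reassoc_of% h2, ← Spec.map_comp_assoc]
    refine (congrArg (fun k ↦ Spec.map k ≫ hW.fromSpec) ?_).trans hθσ
    exact CommRingCat.hom_ext (RingHom.ext ht)

/-- An integral morphism to a normal integral scheme with a rational point at the generic point has a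
section. -/
lemma exists_section_of_isIntegralHom (hN : Pi1.IsNormalScheme Y) (q : P ⟶ Y) [IsIntegralHom q]
    (σ : Spec Y.functionField ⟶ P) (hσ : σ ≫ q = Y.fromSpecStalk (genericPoint Y)) :
    ∃ t : Y ⟶ P, t ≫ q = 𝟙 Y ∧ Y.fromSpecStalk (genericPoint Y) ≫ t = σ := by
  let I := {V : Y.affineOpens // Nonempty V.1}
  have hcov : TopologicalSpace.IsOpenCover fun i : I ↦ i.1.1 := by
    refine TopologicalSpace.IsOpenCover.mk (top_le_iff.mp fun y _ ↦ ?_)
    obtain ⟨_, ⟨V, hV, rfl⟩, hyV, -⟩ :=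
      Y.isBasis_affineOpens.exists_subset_of_mem_open (Set.mem_univ y) isOpen_univ
    exact TopologicalSpace.Opens.mem_iSup.mpr ⟨⟨⟨V, hV⟩, ⟨⟨y, hyV⟩⟩⟩, hyV⟩
  choose t ht₁ ht₂ using fun i : I ↦
    (have := i.2; exists_section_affine hN q σ hσ i.1.1 i.1.2)
  let 𝒰 := Y.openCoverOfIsOpenCover _ hcov
  have hcompat : ∀ i k : I, pullback.fst (𝒰.f i) (𝒰.f k) ≫ t i =
      pullback.snd (𝒰.f i) (𝒰.f k) ≫ t k := fun i k ↦ by
    refine hom_ext_generic q (pullback.fst i.1.1.ι k.1.1.ι ≫ i.1.1.ι) _ _ ?_ fun δ hδ ↦ ?_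
    · change (pullback.fst i.1.1.ι k.1.1.ι ≫ t i) ≫ q = (pullback.snd i.1.1.ι k.1.1.ι ≫ t k) ≫ q
      rw [Category.assoc, Category.assoc, ht₁, ht₁, pullback.condition]
    · change δ ≫ pullback.fst i.1.1.ι k.1.1.ι ≫ t i = δ ≫ pullback.snd i.1.1.ι k.1.1.ι ≫ t k
      rw [← Category.assoc, ← Category.assoc, ht₂ i _ (by rw [Category.assoc, hδ]),
        ht₂ k _ (by rw [Category.assoc, ← pullback.condition, hδ])]
  refine ⟨𝒰.glueMorphisms t hcompat, Scheme.Cover.hom_ext 𝒰 _ _ fun i ↦ ?_, ?_⟩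
  · rw [Scheme.Cover.ι_glueMorphisms_assoc, Category.comp_id]
    exact ht₁ i
  · obtain ⟨i, hi⟩ := TopologicalSpace.Opens.mem_iSup.mp
      (hcov.iSup_eq_top.ge (Set.mem_univ (genericPoint Y)))
    have hr : Set.range (Y.fromSpecStalk (genericPoint Y)) ⊆ Set.range i.1.1.ι := by
      rw [Scheme.range_fromSpecStalk, Scheme.Opens.range_ι]
      exact fun y hy ↦ Specializes.mem_open hy i.1.1.2 hi
    have e := IsOpenImmersion.lift_fac i.1.1.ι _ hr
    conv_lhs => rw [← e]
    rw [Category.assoc]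
    exact (congrArg (_ ≫ ·) (Scheme.Cover.ι_glueMorphisms 𝒰 t hcompat i)).trans (ht₂ i _ e)

/-- An integral morphism from an integral scheme to a normal one, with a rational point over the
generic point, is an isomorphism. -/
lemma isIso_of_isIntegralHom [IsIntegral P] (hN : Pi1.IsNormalScheme Y) (q : P ⟶ Y) [IsIntegralHom q]
    (σ : Spec Y.functionField ⟶ P) (hσ : σ ≫ q = Y.fromSpecStalk (genericPoint Y)) : IsIso q := by
  obtain ⟨t, ht, htσ⟩ := exists_section_of_isIntegralHom hN q σ hσ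
  have : IsClosedImmersion (t ≫ q) := by rw [ht]; infer_instance
  have : IsClosedImmersion t := IsClosedImmersion.of_comp t q
  have hgen : σ (closedPoint Y.functionField) = genericPoint P := by
    obtain ⟨_, ⟨V, hV, rfl⟩, hηV, -⟩ :=
      Y.isBasis_affineOpens.exists_subset_of_mem_open (Set.mem_univ (genericPoint Y)) isOpen_univ
    have : Nonempty V := ⟨⟨_, hηV⟩⟩
    have hW : IsAffineOpen (q ⁻¹ᵁ V) := hV.preimage q
    have hqσ : q (σ (closedPoint Y.functionField)) = genericPoint Y :=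
      (congrArg (fun k : Spec Y.functionField ⟶ Y ↦ k (closedPoint Y.functionField)) hσ).trans
        Y.fromSpecStalk_closedPoint
    have hp : σ (closedPoint Y.functionField) ∈ q ⁻¹ᵁ V := by
      change q (σ (closedPoint Y.functionField)) ∈ V
      rwa [hqσ]
    have : Nonempty (q ⁻¹ᵁ V) := ⟨⟨_, hp⟩⟩
    let : Algebra Γ(Y, V) Γ(P, q ⁻¹ᵁ V) := (q.app V).hom.toAlgebra
    have : Algebra.IsIntegral Γ(Y, V) Γ(P, q ⁻¹ᵁ V) := ⟨q.isIntegral_app V hV⟩
    let 𝔭 := (hW.primeIdealOf ⟨_, hp⟩).asIdeal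
    have hc : 𝔭.comap (algebraMap Γ(Y, V) Γ(P, q ⁻¹ᵁ V)) = ⊥ := by
      have h1 : Spec.map (q.app V) (hW.primeIdealOf ⟨_, hp⟩) =
          hV.primeIdealOf ⟨genericPoint Y, hηV⟩ := by
        apply hV.fromSpec.isOpenEmbedding.injective
        rw [hV.fromSpec_primeIdealOf, ← Scheme.Hom.comp_apply, Scheme.Hom.app_eq_appLE,
          IsAffineOpen.SpecMap_appLE_fromSpec q hV hW, Scheme.Hom.comp_apply,
          hW.fromSpec_primeIdealOf]
        exact hqσ
      change (Spec.map (q.app V) (hW.primeIdealOf ⟨_, hp⟩)).asIdeal = ⊥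
      rw [h1, hV.primeIdealOf_genericPoint, genericPoint_eq_bot_of_affine]
      rfl
    have hbot : 𝔭 = ⊥ := Ideal.eq_bot_of_comap_eq_bot hc
    have h2 : hW.primeIdealOf ⟨_, hp⟩ = hW.primeIdealOf ⟨genericPoint P,
        ((genericPoint_spec P).mem_open_set_iff (q ⁻¹ᵁ V).2).mpr (by simpa using ⟨_, hp⟩)⟩ := by
      rw [hW.primeIdealOf_genericPoint, genericPoint_eq_bot_of_affine]
      exact PrimeSpectrum.ext hbot
    have h3 := congrArg (fun z ↦ hW.fromSpec z) h2
    simpa only [hW.fromSpec_primeIdealOf] using h3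
  have : Surjective t := by
    refine ⟨Set.range_eq_univ.mp (Set.univ_subset_iff.mp ?_)⟩
    rw [← genericPoint_spec P]
    refine closure_minimal (Set.singleton_subset_iff.mpr
      ⟨Y.fromSpecStalk (genericPoint Y) (closedPoint Y.functionField), ?_⟩)
      t.isClosedEmbedding.isClosed_range
    rw [← hgen]
    exact congrArg (fun k : Spec Y.functionField ⟶ P ↦ k (closedPoint Y.functionField)) htσ
  have : IsIso t := AlgebraicGeometry.isIso_of_isClosedImmersion_of_surjective t
  have : IsIso (t ≫ q) := by rw [ht]; infer_instance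
  exact IsIso.of_isIso_comp_left t q

omit [IsIntegral Y] in
lemma exists_genericLift [IsIntegral Y] (U : Y.Opens) (hU : Dense (U : Set Y)) :
    ∃ δ : Spec Y.functionField ⟶ (U : Scheme.{u}), δ ≫ U.ι = Y.fromSpecStalk (genericPoint Y) := by
  have hη : genericPoint Y ∈ U :=
    ((genericPoint_spec Y).mem_open_set_iff U.2).mpr (by simpa using hU.nonempty)
  have hr : Set.range (Y.fromSpecStalk (genericPoint Y)) ⊆ Set.range U.ι := by
    rw [Scheme.range_fromSpecStalk, Scheme.Opens.range_ι]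
    exact fun y hy ↦ Specializes.mem_open hy U.2 hη
  exact ⟨_, IsOpenImmersion.lift_fac U.ι _ hr⟩

end Groth.Agent.Proj16
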