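import Groth.Agent.Proj16.RelMap

/-!
# Degree one generation; integrality of relative `Proj`
-/

universe u

open CategoryTheory CategoryTheory.Limits AlgebraicGeometry TopologicalSpace Opposite
open scoped HomogeneousIdeal

noncomputable section

namespace Groth.Agent.Proj16

variable {Y P : Scheme.{u}} {𝒮 : RelProj.QCGrAlg Y} {p : P ⟶ Y}
  {chart : ∀ (U : Y.Opens) (hU : IsAffineOpen U),
    (((p ⁻¹ᵁ U : P.Opens) : Scheme.{u}) ≅ Proj (𝒮.deg U hU))}

lemma adjoin_degOne_eq_top (hgen : 𝒮.IsGenDegOne) (U : Y.Opens) (hU : IsAffineOpen U)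
    {T : Finset (𝒮.presheaf.obj (op U))}
    (hT : ∀ x ∈ 𝒮.deg U hU 1, ∃ c : (𝒮.presheaf.obj (op U)) → Γ(Y, U),
      x = ∑ t ∈ T, (𝒮.str.app (op U)).hom (c t) * t) :
    Algebra.adjoin (𝒮.deg U hU 0) (T : Set (𝒮.presheaf.obj (op U))) = ⊤ := by
  rw [← top_le_iff]
  intro x _
  have hle : Subring.closure ((𝒮.deg U hU 0 : Set (𝒮.presheaf.obj (op U))) ∪
      (𝒮.deg U hU 1 : Set _)) ≤ (Algebra.adjoin (𝒮.deg U hU 0) (T : Set _)).toSubring := by
    rw [Subring.closure_le]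
    rintro y (hy | hy)
    · exact Subalgebra.algebraMap_mem (Algebra.adjoin (𝒮.deg U hU 0) _) ⟨y, hy⟩
    · obtain ⟨c, rfl⟩ := hT y hy
      exact sum_mem fun t ht ↦ mul_mem
        (Subalgebra.algebraMap_mem (Algebra.adjoin (𝒮.deg U hU 0) _) ⟨_, 𝒮.str_mem U hU (c t)⟩)
        (Algebra.subset_adjoin ht)
  exact hle (hgen U hU ▸ trivial)

lemma locallyOfFiniteType_of_genDegOne (hP : RelProj.IsRelProj 𝒮 p chart)
    (hgen : 𝒮.IsGenDegOne) (hft : 𝒮.IsFTDeg 1) : LocallyOfFiniteType p ∧ QuasiCompact p := by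
  classical
  refine ⟨of_affineOpens hP @LocallyOfFiniteType fun U hU ↦ ?_,
    of_affineOpens hP @QuasiCompact fun U hU ↦ ?_⟩
  swap
  · obtain ⟨T, hT1, hT⟩ := hft U hU
    have : Algebra.FiniteType (𝒮.deg U hU 0) (𝒮.presheaf.obj (op U)) :=
      ⟨⟨T, adjoin_degOne_eq_top hgen U hU hT⟩⟩
    infer_instance
  obtain ⟨T, hT1, hT⟩ := hft U hU
  have hadj := adjoin_degOne_eq_top hgen U hU hT
  let 𝒜 := 𝒮.deg U hU
  have hspan := irrelevant_le_span_of_adjoin_eq_top 𝒜
    (fun t ht ↦ ⟨1, Nat.one_pos, hT1 ht⟩) hadj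
  let 𝒰 := Proj.affineOpenCoverOfIrrelevantLESpan 𝒜 (fun t : T ↦ (t : 𝒮.presheaf.obj (op U)))
    (m := fun _ ↦ 1) (fun t ↦ hT1 t.2) (fun _ ↦ Nat.one_pos) (by simpa using hspan)
  refine IsZariskiLocalAtSource.of_openCover (P := @LocallyOfFiniteType) 𝒰.openCover ?_
  suffices H : ∀ t : T, LocallyOfFiniteType
      (Proj.awayι 𝒜 (t : 𝒮.presheaf.obj (op U)) (hT1 t.2) Nat.one_pos ≫
        Proj.toSpecZero 𝒜 ≫ Spec.map (𝒮.strZero U hU)) from fun t ↦ H t
  intro t
  rw [Proj.awayι_toSpecZero_assoc, ← Spec.map_comp, HasRingHomProperty.Spec_iff (P := @LocallyOfFiniteType)]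
  simp only [CommRingCat.hom_comp, CommRingCat.hom_ofHom]
  algebraize [((HomogeneousLocalization.fromZeroRingHom 𝒜
    (Submonoid.powers (t : 𝒮.presheaf.obj (op U)))).comp (𝒮.strZero U hU).hom)]
  let s : 𝒮.presheaf.obj (op U) := t
  have hs : s ∈ 𝒜 1 := hT1 t.2
  let gen : T → HomogeneousLocalization.Away 𝒜 s := fun u ↦
    HomogeneousLocalization.Away.mk 𝒜 hs 1 u.1 (by simpa using hT1 u.2)
  refine ⟨⟨Finset.univ.image gen, ?_⟩⟩
  rw [← top_le_iff]
  intro z _
  obtain ⟨n, a, ha, rfl⟩ := HomogeneousLocalization.Away.mk_surjective 𝒜 hs z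
  rw [awayMk_succ]
  set S := Algebra.adjoin Γ(Y, U) (↑(Finset.univ.image gen) : Set (HomogeneousLocalization.Away 𝒜 s))
  have hgenmem : ∀ u : T, gen u ∈ S := fun u ↦ Algebra.subset_adjoin
    (Finset.mem_coe.mpr (Finset.mem_image_of_mem gen (Finset.mem_univ u)))
  let e := T.equivFin
  have hrange : Set.range (fun j : Fin T.card ↦ (e.symm j : 𝒮.presheaf.obj (op U))) = T := by
    rw [show (fun j : Fin T.card ↦ (e.symm j : 𝒮.presheaf.obj (op U))) = Subtype.val ∘ e.symm from rfl,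
      e.symm.surjective.range_comp]
    simp
  have hmem : s * a ∈ 𝒜 (n + 1) := by simpa [add_comm] using SetLike.mul_mem_graded hs ha
  let sp : ℕ → Submonoid.powers s := fun k ↦ ⟨s ^ k, k, rfl⟩
  suffices H : ∀ y ∈ 𝒜 (n + 1), ∃ z ∈ S, z.val = Localization.mk y (sp (n + 1)) by
    obtain ⟨z, hz, hzv⟩ := H _ hmem
    convert hz
    exact HomogeneousLocalization.val_injective _ (by rw [hzv, HomogeneousLocalization.Away.val_mk])
  intro y hy
  refine induction_on_monomials (g := fun j : Fin T.card ↦ (e.symm j : 𝒮.presheaf.obj (op U)))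
    (d := fun _ ↦ 1) (P := fun y ↦ ∃ z ∈ S, z.val = Localization.mk y (sp (n + 1)))
    (fun j ↦ hT1 (e.symm j).2) (by rw [hrange]; exact hadj)
    ⟨0, S.zero_mem, by rw [HomogeneousLocalization.val_zero, Localization.mk_zero]⟩ ?_ ?_ hy
  · rintro x x' ⟨z, hz, hzv⟩ ⟨z', hz', hzv'⟩
    exact ⟨z + z', add_mem hz hz', by
      rw [HomogeneousLocalization.val_add, hzv, hzv', Localization.add_mk_self]⟩
  intro c hc ee hee
  simp only [mul_one] at hee
  obtain ⟨j, hj⟩ : ∃ j, 0 < ee j := by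
    by_contra! H
    simp [fun j ↦ Nat.le_zero.mp (H j)] at hee
  obtain ⟨γ, hγ⟩ := hT (c * e.symm j) (by simpa using SetLike.mul_mem_graded (A := 𝒜) hc (hT1 (e.symm j).2))
  let ee' := Function.update ee j (ee j - 1)
  have hee' : ∀ i, ee' i + (if i = j then 1 else 0) = ee i := fun i ↦ by
    by_cases h : i = j
    · subst h; simp [ee']; omega
    · simp [ee', h]
  have hsum : ∑ i, ee' i + 1 = n + 1 := by
    rw [← hee]
    simp_rw [← hee', Finset.sum_add_distrib, Finset.sum_ite_eq', Finset.mem_univ, if_true]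
  refine ⟨(∑ u ∈ T.attach, algebraMap Γ(Y, U) _ (γ u) * gen u) * ∏ i, gen (e.symm i) ^ ee' i,
    mul_mem (sum_mem fun u _ ↦ mul_mem (S.algebraMap_mem _) (hgenmem u))
      (prod_mem fun i _ ↦ pow_mem (hgenmem _) _), ?_⟩
  let L := algebraMap (HomogeneousLocalization.Away 𝒜 s) (Localization.Away s)
  have hv : ∀ x : HomogeneousLocalization.Away 𝒜 s, x.val = L x := fun x ↦ rfl
  have hg : ∀ u : T, L (gen u) = algebraMap _ (Localization.Away s) (u : 𝒮.presheaf.obj (op U)) *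
      Localization.mk 1 (sp 1) := fun u ↦ by
    rw [← hv, HomogeneousLocalization.Away.val_mk, ← Localization.mk_one_eq_algebraMap,
      Localization.mk_mul, mul_one, one_mul]
  have hc0 : ∀ r, L (algebraMap Γ(Y, U) _ r) =
      algebraMap _ (Localization.Away s) ((𝒮.str.app (op U)).hom r) := fun r ↦ by
    rw [RingHom.algebraMap_toAlgebra, ← hv, RingHom.comp_apply]
    simp only [HomogeneousLocalization.fromZeroRingHom, RingHom.coe_mk, MonoidHom.coe_mk,
      OneHom.coe_mk, HomogeneousLocalization.val_mk, ← Localization.mk_one_eq_algebraMap]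
    rfl
  rw [hv, map_mul, map_sum, map_prod]
  simp only [map_mul, map_pow, hg, hc0]
  simp_rw [← mul_assoc, ← map_mul, ← Finset.sum_mul, ← map_sum, mul_pow, Finset.prod_mul_distrib,
    Finset.prod_pow_eq_pow_sum]
  rw [Finset.sum_attach T fun u ↦ (𝒮.str.app (op U)).hom (γ u) * u, ← hγ, ← Nat.succ_injective hsum]
  simp only [← map_pow, ← map_prod]
  rw [mul_assoc, mul_left_comm (Localization.mk 1 _), ← pow_succ', ← mul_assoc, ← map_mul, Localization.mk_pow, one_pow,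
    ← Localization.mk_one_eq_algebraMap, Localization.mk_mul, one_mul, mul_one]
  congr 1
  · simp_rw [← hee', pow_add, Finset.prod_mul_distrib, pow_ite, pow_zero, pow_one,
      Finset.prod_ite_eq', Finset.mem_univ, if_true]
    ring
  · exact Subtype.ext (by simp [sp])

end Groth.Agent.Proj16
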