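import Groth.Agent.Proj16.Map

/-!
# Morphisms to `Proj` glued from charts
-/

universe u

open SetLike AlgebraicGeometry HomogeneousLocalization CategoryTheory CategoryTheory.Limits

namespace Groth.Agent.Proj16

variable {A σ : Type u} [CommRing A] [SetLike σ A] [AddSubgroupClass σ A]
variable (𝒜 : ℕ → σ) [GradedRing 𝒜]

/-- Chart data for a morphism to `Proj 𝒜`: for every homogeneous element of positive degree an affine
open chart of the source, compatible with products, and a ring map. -/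
structure ToProjData (E : Scheme.{u}) where
  ring : A → CommRingCat.{u}
  chart : ∀ {d : ℕ} {f : A}, f ∈ 𝒜 d → 0 < d → (Spec (ring f) ⟶ E)
  isOpenImmersion : ∀ {d : ℕ} {f : A} (hf : f ∈ 𝒜 d) (hd : 0 < d), IsOpenImmersion (chart hf hd)
  covers : ∀ z : E, ∃ (d : ℕ) (f : A) (hf : f ∈ 𝒜 d) (hd : 0 < d), z ∈ Set.range (chart hf hd)
  range_inter : ∀ {d e : ℕ} {f g : A} (hf : f ∈ 𝒜 d) (hd : 0 < d) (hg : g ∈ 𝒜 e) (he : 0 < e),
    Set.range (chart hf hd) ∩ Set.range (chart hg he) =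
      Set.range (chart (SetLike.mul_mem_graded hf hg) (Nat.add_pos_left hd e))
  toRing : ∀ f : A, CommRingCat.of (Away 𝒜 f) ⟶ ring f
  exists_res : ∀ {d e : ℕ} {f g x : A} (hf : f ∈ 𝒜 d) (hd : 0 < d) (hg : g ∈ 𝒜 e) (_ : 0 < e)
    (hx : x = f * g) (hxm : x ∈ 𝒜 (d + e)), ∃ ρ : ring f ⟶ ring x,
      Spec.map ρ ≫ chart hf hd = chart hxm (Nat.add_pos_left hd e) ∧
      CommRingCat.ofHom (awayMap 𝒜 hg hx) ≫ toRing x = toRing f ≫ ρ

namespace ToProjData

variable {𝒜} {E : Scheme.{u}} (D : ToProjData 𝒜 E)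

instance {d : ℕ} {f : A} (hf : f ∈ 𝒜 d) (hd : 0 < d) : IsOpenImmersion (D.chart hf hd) :=
  D.isOpenImmersion hf hd

/-- The local morphism on a chart. -/
noncomputable def loc {d : ℕ} {f : A} (hf : f ∈ 𝒜 d) (hd : 0 < d) : Spec (D.ring f) ⟶ Proj 𝒜 :=
  Spec.map (D.toRing f) ≫ Proj.awayι 𝒜 f hf hd

lemma res_loc {d e : ℕ} {f g x : A} (hf : f ∈ 𝒜 d) (hd : 0 < d) (hg : g ∈ 𝒜 e)
    (hx : x = f * g) (hxm : x ∈ 𝒜 (d + e)) (ρ : D.ring f ⟶ D.ring x)
    (h : CommRingCat.ofHom (awayMap 𝒜 hg hx) ≫ D.toRing x = D.toRing f ≫ ρ) :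
    Spec.map ρ ≫ D.loc hf hd = D.loc hxm (Nat.add_pos_left hd e) := by
  rw [loc, loc, ← Spec.map_comp_assoc, ← h, Spec.map_comp_assoc, Proj.SpecMap_awayMap_awayι]

lemma compat {d e : ℕ} {f g : A} (hf : f ∈ 𝒜 d) (hd : 0 < d) (hg : g ∈ 𝒜 e) (he : 0 < e) :
    pullback.fst (D.chart hf hd) (D.chart hg he) ≫ D.loc hf hd =
      pullback.snd (D.chart hf hd) (D.chart hg he) ≫ D.loc hg he := by
  have hm : f * g ∈ 𝒜 (d + e) := SetLike.mul_mem_graded hf hg
  have hr : Set.range (pullback.fst (D.chart hf hd) (D.chart hg he) ≫ D.chart hf hd) =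
      Set.range (D.chart hm (Nat.add_pos_left hd e)) := by
    rw [IsOpenImmersion.range_pullback_to_base_of_left]
    exact D.range_inter hf hd hg he
  let θ := IsOpenImmersion.isoOfRangeEq _ _ hr
  have hθ := IsOpenImmersion.isoOfRangeEq_hom_fac _ _ hr
  obtain ⟨ρ, hρ, hρ'⟩ := D.exists_res hf hd hg he rfl hm
  have hm' : f * g ∈ 𝒜 (e + d) := add_comm e d ▸ hm
  obtain ⟨ρ₂, hρ₂, hρ₂'⟩ := D.exists_res hg he hf hd (mul_comm f g) hm'
  have hchart : ∀ (i : ℕ) (hi : f * g ∈ 𝒜 i) (hip : 0 < i) (_ : i = d + e),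
      D.chart hi hip = D.chart hm (Nat.add_pos_left hd e) ∧
        D.loc hi hip = D.loc hm (Nat.add_pos_left hd e) := by
    rintro i hi hip rfl
    exact ⟨rfl, rfl⟩
  obtain ⟨hc, hl⟩ := hchart (e + d) hm' (Nat.add_pos_left he d) (add_comm e d)
  have h1 : pullback.fst (D.chart hf hd) (D.chart hg he) = θ.hom ≫ Spec.map ρ := by
    rw [← cancel_mono (D.chart hf hd), Category.assoc, hρ, hθ]
  have h2 : pullback.snd (D.chart hf hd) (D.chart hg he) = θ.hom ≫ Spec.map ρ₂ := by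
    rw [← cancel_mono (D.chart hg he), Category.assoc, hρ₂, hc, hθ, pullback.condition]
  rw [h1, h2, Category.assoc, Category.assoc, D.res_loc hf hd hg rfl hm ρ hρ',
    D.res_loc hg he hf (mul_comm f g) hm' ρ₂ hρ₂', hl]

/-- The index set of the charts. -/
def Index : Type u := {i : ULift.{u} ℕ × A // i.2 ∈ 𝒜 i.1.down ∧ 0 < i.1.down}

/-- The cover by charts. -/
noncomputable def cover : E.OpenCover where
  I₀ := Index (𝒜 := 𝒜)
  X i := Spec (D.ring i.1.2)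
  f i := D.chart i.2.1 i.2.2
  mem₀ := by
    rw [Scheme.ofArrows_mem_precoverage_iff]
    refine ⟨fun z ↦ ?_, fun i ↦ inferInstance⟩
    obtain ⟨d, f, hf, hd, hz⟩ := D.covers z
    exact ⟨⟨(⟨d⟩, f), hf, hd⟩, hz⟩

/-- The glued morphism. -/
noncomputable def map : E ⟶ Proj 𝒜 :=
  D.cover.glueMorphisms (fun i ↦ D.loc i.2.1 i.2.2) fun i j ↦ D.compat i.2.1 i.2.2 j.2.1 j.2.2

@[reassoc]
lemma chart_map {d : ℕ} {f : A} (hf : f ∈ 𝒜 d) (hd : 0 < d) :
    D.chart hf hd ≫ D.map = D.loc hf hd :=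
  Scheme.Cover.ι_glueMorphisms D.cover _ _ ⟨(⟨d⟩, f), hf, hd⟩

lemma hom_ext {Z : Scheme.{u}} {p q : E ⟶ Z}
    (h : ∀ {d : ℕ} {f : A} (hf : f ∈ 𝒜 d) (hd : 0 < d), D.chart hf hd ≫ p = D.chart hf hd ≫ q) :
    p = q :=
  Scheme.Cover.hom_ext D.cover _ _ fun i ↦ h i.2.1 i.2.2

lemma eq_map {p : E ⟶ Proj 𝒜}
    (h : ∀ (d : ℕ) (f : A) (hd : 0 < d) (hf : f ∈ 𝒜 d), D.chart hf hd ≫ p = D.loc hf hd) :
    p = D.map :=
  D.hom_ext fun {d f} hf hd ↦ (h d f hd hf).trans (D.chart_map hf hd).symm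

/-- A sufficient condition for the charts to be exactly the preimages of the standard opens. -/
lemma preimage_basicOpen
    (h : ∀ {d e : ℕ} {f g : A} (hf : f ∈ 𝒜 d) (hd : 0 < d) (hg : g ∈ 𝒜 e) (he : 0 < e)
      (z : Spec (D.ring g)), Spec.map (D.toRing g) z ∈
        PrimeSpectrum.basicOpen (Away.isLocalizationElem hg hf) →
      D.chart hg he z ∈ Set.range (D.chart hf hd))
    {d : ℕ} {f : A} (hf : f ∈ 𝒜 d) (hd : 0 < d) :
    D.map ⁻¹ᵁ Proj.basicOpen 𝒜 f = (D.chart hf hd).opensRange := by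
  apply SetLike.coe_injective
  ext z
  constructor
  · intro hz
    obtain ⟨e, g, hg, he, w, rfl⟩ := D.covers z
    refine h hf hd hg he w ?_
    change D.map (D.chart hg he w) ∈ Proj.basicOpen 𝒜 f at hz
    rw [← Scheme.Hom.comp_apply, D.chart_map, loc, Scheme.Hom.comp_apply] at hz
    rw [← Proj.awayι_preimage_basicOpen 𝒜 hg he hf hd]
    exact hz
  · rintro ⟨w, rfl⟩
    change D.map (D.chart hf hd w) ∈ Proj.basicOpen 𝒜 f
    rw [← Scheme.Hom.comp_apply, D.chart_map, loc, Scheme.Hom.comp_apply,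
      ← Proj.opensRange_awayι 𝒜 f hf hd]
    exact ⟨_, rfl⟩

/-- A property local at the target holds for the glued morphism if it holds on the charts. -/
lemma map_of_charts {P : MorphismProperty Scheme.{u}} [IsZariskiLocalAtTarget P]
    (hpre : ∀ {d : ℕ} {f : A} (hf : f ∈ 𝒜 d) (hd : 0 < d),
      D.map ⁻¹ᵁ Proj.basicOpen 𝒜 f = (D.chart hf hd).opensRange)
    (h : ∀ (d : ℕ) (f : A), 0 < d → f ∈ 𝒜 d → P (Spec.map (D.toRing f))) : P D.map := by
  refine IsZariskiLocalAtTarget.of_openCover (Proj.affineOpenCover 𝒜).openCover fun i ↦ ?_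
  let hs := i.2.2
  have sq : IsPullback (Spec.map (D.toRing (i.2 : A))) (D.chart hs i.1.2)
      (Proj.awayι 𝒜 _ hs i.1.2) D.map := by
    refine IsOpenImmersion.isPullback _ _ _ _ (D.chart_map hs i.1.2) ?_
    rw [Proj.opensRange_awayι, hpre hs i.1.2]
  change P (pullback.snd D.map (Proj.awayι 𝒜 _ hs i.1.2))
  rw [← sq.flip.isoPullback_inv_snd]
  exact (MorphismProperty.cancel_left_of_respectsIso P _ _).mpr (h _ _ i.1.2 hs)

lemma isIso_map
    (hpre : ∀ {d : ℕ} {f : A} (hf : f ∈ 𝒜 d) (hd : 0 < d),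
      D.map ⁻¹ᵁ Proj.basicOpen 𝒜 f = (D.chart hf hd).opensRange)
    (h : ∀ (d : ℕ) (f : A), 0 < d → f ∈ 𝒜 d → Function.Bijective (D.toRing f).hom) : IsIso D.map :=
  D.map_of_charts (P := MorphismProperty.isomorphisms Scheme.{u}) hpre fun d f hd hf ↦ by
    have : IsIso (D.toRing f) := (ConcreteCategory.isIso_iff_bijective _).mpr (h d f hd hf)
    simp only [MorphismProperty.isomorphisms.iff]
    infer_instance

lemma isAffineHom_map
    (hpre : ∀ {d : ℕ} {f : A} (hf : f ∈ 𝒜 d) (hd : 0 < d),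
      D.map ⁻¹ᵁ Proj.basicOpen 𝒜 f = (D.chart hf hd).opensRange) : IsAffineHom D.map :=
  D.map_of_charts hpre fun _ _ _ _ ↦ inferInstance

end ToProjData

end Groth.Agent.Proj16
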