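import Groth.Agent.Proj16.Centre

/-!
# Sections over valuation rings of closed maps
-/

universe u

open CategoryTheory CategoryTheory.Limits AlgebraicGeometry IsLocalRing

namespace Groth.Agent.Proj16

variable {A : Type u} [CommRing A] [IsDomain A] [ValuationRing A] {K : Type u} [Field K]
  [Algebra A K] [IsFractionRing A K] {X : Scheme.{u}} (f : X ⟶ Spec (CommRingCat.of A))

/-- A `K`-point of a closed map to the spectrum of a valuation ring extends to a section. -/
lemma exists_section_of_isClosedMap (hf : IsClosedMap f) (x : Spec (CommRingCat.of K) ⟶ X)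
    (hx : x ≫ f = Spec.map (CommRingCat.ofHom (algebraMap A K))) :
    ∃ s : Spec (CommRingCat.of A) ⟶ X, s ≫ f = 𝟙 _ ∧
      Spec.map (CommRingCat.ofHom (algebraMap A K)) ≫ s = x := by
  let P : PrimeSpectrum K := closedPoint K
  have hgen : f (x P) ⤳ closedPoint A := specializes_closedPoint _
  have hcl : closure {f (x P)} ⊆ f '' closure {x P} :=
    closure_minimal (by rintro _ rfl; exact ⟨x P, subset_closure rfl, rfl⟩) (hf _ isClosed_closure)
  obtain ⟨z, hz, hfz⟩ := hcl (specializes_iff_mem_closure.mp hgen)
  have hsp : x P ⤳ z := specializes_iff_mem_closure.mpr hz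
  let φ : X.presheaf.stalk z ⟶ CommRingCat.of K :=
    X.presheaf.stalkSpecializes hsp ≫ Scheme.stalkClosedPointTo x
  have hφ : Spec.map φ ≫ X.fromSpecStalk z = x := by
    rw [Spec.map_comp, Category.assoc]
    exact (congrArg (Spec.map (Scheme.stalkClosedPointTo x) ≫ ·)
      (Scheme.SpecMap_stalkSpecializes_fromSpecStalk hsp)).trans
        (Scheme.Spec_stalkClosedPointTo_fromSpecStalk x)
  let σ : CommRingCat.of A ⟶ X.presheaf.stalk z := Spec.preimage (X.fromSpecStalk z ≫ f)
  have hσ : Spec.map σ = X.fromSpecStalk z ≫ f := Spec.map_preimage _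
  have hσφ : σ ≫ φ = CommRingCat.ofHom (algebraMap A K) := by
    refine Spec.map_injective ?_
    rw [Spec.map_comp, hσ, ← Category.assoc, hφ, hx]
  have hval : ∀ a, φ.hom (σ.hom a) = algebraMap A K a := fun a ↦
    congrArg (fun k : CommRingCat.of A ⟶ CommRingCat.of K ↦ k a) hσφ
  have hloc : ∀ a, IsUnit (σ.hom a) → IsUnit a := by
    intro a ha
    by_contra hn
    have h1 : Spec.map σ (closedPoint (X.presheaf.stalk z)) = closedPoint A := by
      rw [hσ, Scheme.Hom.comp_apply, Scheme.fromSpecStalk_closedPoint, hfz]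
    have h2 : a ∈ (Spec.map σ (closedPoint (X.presheaf.stalk z))).asIdeal := by
      rw [h1]
      exact (mem_maximalIdeal a).mpr hn
    exact (mem_maximalIdeal (σ.hom a)).mp h2 ha
  have hmem : ∀ c, φ.hom c ∈ (algebraMap A K).range := by
    intro c
    rcases ValuationRing.isInteger_or_isInteger A (φ.hom c) with h | ⟨a, ha⟩
    · exact h
    · rcases eq_or_ne (φ.hom c) 0 with h0 | h0
      · exact h0 ▸ Subring.zero_mem _
      · have h1 : φ.hom (c * σ.hom a) = 1 := by
          rw [map_mul, hval, show algebraMap A K a = (φ.hom c)⁻¹ from ha, mul_inv_cancel₀ h0]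
        by_cases hu : IsUnit (σ.hom a)
        · obtain ⟨b, hb⟩ := (hloc a hu).exists_right_inv
          refine ⟨b, ?_⟩
          have h2 : algebraMap A K a * algebraMap A K b = 1 := by rw [← map_mul, hb, map_one]
          rw [show algebraMap A K a = (φ.hom c)⁻¹ from ha] at h2
          rw [eq_inv_of_mul_eq_one_right h2, inv_inv]
        · have hm : c * σ.hom a ∈ maximalIdeal (X.presheaf.stalk z) :=
            Ideal.mul_mem_left _ _ ((mem_maximalIdeal _).mpr hu)
          refine absurd ((isUnit_one_sub_self_of_mem_nonunits _ hm).map φ.hom) ?_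
          rw [map_sub, map_one, h1, sub_self]
          exact not_isUnit_zero
  choose t ht using hmem
  let τ : X.presheaf.stalk z →+* A :=
    { toFun := t
      map_one' := IsFractionRing.injective A K (by simp [ht])
      map_zero' := IsFractionRing.injective A K (by simp [ht])
      map_add' := fun a b ↦ IsFractionRing.injective A K (by simp [ht])
      map_mul' := fun a b ↦ IsFractionRing.injective A K (by simp [ht]) }
  refine ⟨Spec.map (CommRingCat.ofHom τ) ≫ X.fromSpecStalk z, ?_, ?_⟩
  · rw [Category.assoc, ← hσ, ← Spec.map_comp, ← Spec.map_id]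
    exact congrArg Spec.map (CommRingCat.hom_ext (RingHom.ext fun a ↦
      IsFractionRing.injective A K ((ht _).trans (hval a))))
  · rw [← Spec.map_comp_assoc, ← hφ]
    exact congrArg (fun k ↦ Spec.map k ≫ X.fromSpecStalk z) (CommRingCat.hom_ext (RingHom.ext ht))

end Groth.Agent.Proj16
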