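import Groth.Agent.Proj16.DegOneQuot

/-!
# The Veronese isomorphism of `Proj`
-/

universe u

open SetLike AlgebraicGeometry HomogeneousLocalization CategoryTheory


namespace Groth.Agent.Proj16

variable {R A B : Type u} [CommRing R] [CommRing A] [Algebra R A] (𝒜 : ℕ → Submodule R A)
  [GradedAlgebra 𝒜] [CommRing B] [Algebra R B] (ℬ : ℕ → Submodule R B) [GradedAlgebra ℬ]
  {d : ℕ} (hd : 0 < d) (φ : B →+* A) (hdeg : ∀ k, ∀ b ∈ ℬ k, φ b ∈ 𝒜 (k * d))
  (hsurj : ∀ k, ∀ a ∈ 𝒜 (k * d), ∃ b ∈ ℬ k, φ b = a)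

include hd hsurj in
lemma exists_mem_basicOpen_veronese (p : Proj 𝒜) :
    ∃ (n : ℕ) (g : B), 0 < n ∧ g ∈ ℬ n ∧ p ∈ Proj.basicOpen 𝒜 (φ g) := by
  obtain ⟨e, a, he, ha, hap⟩ : ∃ (e : ℕ) (a : A), 0 < e ∧ a ∈ 𝒜 e ∧ a ∉ p.asHomogeneousIdeal := by
    by_contra! H
    refine p.not_irrelevant_le ?_
    rw [← toIdeal_le_toIdeal_iff, HomogeneousIdeal.irrelevant_eq_span, Ideal.span_le]
    simp only [Set.iUnion_subset_iff]
    exact fun i hi a ha ↦ H i a hi ha
  obtain ⟨g, hg, hga⟩ := hsurj e (a ^ d) (by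
    rw [mul_comm]; simpa using SetLike.pow_mem_graded d ha)
  exact ⟨e, g, he, hg, fun hm ↦ hap (p.isPrime.mem_of_pow_mem d (hga ▸ hm))⟩

/-- The chart data of the Veronese morphism. -/
noncomputable def veroneseData : ToProjData ℬ (Proj 𝒜) where
  ring g := CommRingCat.of (Away 𝒜 (φ g))
  chart {n g} hg hn := Proj.awayι 𝒜 (φ g) (hdeg n g hg) (Nat.mul_pos hn hd)
  isOpenImmersion _ _ := inferInstance
  covers p := by
    obtain ⟨n, g, hn, hg, hp⟩ := exists_mem_basicOpen_veronese 𝒜 ℬ hd φ hsurj p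
    refine ⟨n, g, hg, hn, ?_⟩
    rw [← Proj.opensRange_awayι 𝒜 (φ g) (hdeg n g hg) (Nat.mul_pos hn hd)] at hp
    exact hp
  range_inter {n m f g} hf hn hg hm := by
    change ((Proj.awayι 𝒜 (φ f) _ _).opensRange ⊓ (Proj.awayι 𝒜 (φ g) _ _).opensRange).1 =
      (Proj.awayι 𝒜 (φ (f * g)) _ _).opensRange.1
    rw [Proj.opensRange_awayι, Proj.opensRange_awayι, Proj.opensRange_awayι, map_mul,
      Proj.basicOpen_mul]
  toRing g := CommRingCat.ofHom (veroneseAwayMap ℬ 𝒜 φ hdeg g)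
  exists_res {n m f g x} hf hn hg hm hx hxm := by
    refine ⟨CommRingCat.ofHom (awayMap 𝒜 (hdeg m g hg) (by rw [hx, map_mul])), ?_, ?_⟩
    · have key : ∀ (i : ℕ) (hi : φ x ∈ 𝒜 i) (hip : 0 < i) (_ : i = n * d + m * d),
          Proj.awayι 𝒜 (φ x) hi hip = Proj.awayι 𝒜 (φ x)
            ((show φ x = φ f * φ g by rw [hx, map_mul]) ▸
              SetLike.mul_mem_graded (hdeg n f hf) (hdeg m g hg))
            (Nat.add_pos_left (Nat.mul_pos hn hd) _) := by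
        rintro i hi hip rfl
        rfl
      rw [Proj.SpecMap_awayMap_awayι]
      exact (key _ (hdeg _ x hxm) (Nat.mul_pos (Nat.add_pos_left hn m) hd) (add_mul n m d)).symm
    · refine CommRingCat.hom_ext (RingHom.ext fun a ↦ ?_)
      obtain ⟨k, b, hb, rfl⟩ := a.mk_surjective ℬ hf
      apply HomogeneousLocalization.val_injective
      simp only [CommRingCat.hom_comp, CommRingCat.hom_ofHom, RingHom.comp_apply]
      rw [awayMap_mk, veroneseAwayMap_mk, veroneseAwayMap_mk, awayMap_mk, Away.val_mk, Away.val_mk]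
      simp [map_mul, map_pow]

lemma veroneseData_preimage {n : ℕ} {f : B} (hf : f ∈ ℬ n) (hn : 0 < n) :
    (veroneseData 𝒜 ℬ hd φ hdeg hsurj).map ⁻¹ᵁ Proj.basicOpen ℬ f = Proj.basicOpen 𝒜 (φ f) := by
  rw [← Proj.opensRange_awayι 𝒜 (φ f) (hdeg n f hf) (Nat.mul_pos hn hd)]
  refine ToProjData.preimage_basicOpen _ (fun {n m f g} hf hn hg hm z hz ↦ ?_) hf hn
  change Proj.awayι 𝒜 (φ g) (hdeg m g hg) (Nat.mul_pos hm hd) z ∈
    Set.range (Proj.awayι 𝒜 (φ f) (hdeg n f hf) (Nat.mul_pos hn hd))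
  rw [← Scheme.Hom.coe_opensRange, Proj.opensRange_awayι]
  have h1 : veroneseAwayMap ℬ 𝒜 φ hdeg g (Away.isLocalizationElem hg hf) ^ d =
      Away.isLocalizationElem (hdeg m g hg) (hdeg n f hf) := by
    apply HomogeneousLocalization.val_injective
    rw [veroneseAwayMap_mk, HomogeneousLocalization.val_pow, Away.val_mk, Away.val_mk,
      Localization.mk_pow]
    simp [map_pow, pow_mul]
  have h2 : z ∈ PrimeSpectrum.basicOpen
      (veroneseAwayMap ℬ 𝒜 φ hdeg g (Away.isLocalizationElem hg hf)) := hz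
  rw [← PrimeSpectrum.basicOpen_pow _ d hd, h1] at h2
  exact (Proj.awayι_preimage_basicOpen 𝒜 (hdeg m g hg) (Nat.mul_pos hm hd) (hdeg n f hf)
    (Nat.mul_pos hn hd)).ge h2

lemma isIso_veronese (hφ : Function.Injective φ) :
    IsIso (veroneseData 𝒜 ℬ hd φ hdeg hsurj).map :=
  ToProjData.isIso_map _
    (fun {n f} hf hn ↦ by
      rw [veroneseData_preimage 𝒜 ℬ hd φ hdeg hsurj hf hn,
        ← Proj.opensRange_awayι 𝒜 (φ f) (hdeg n f hf) (Nat.mul_pos hn hd)]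
      rfl)
    fun _ _ _ hf ↦ veroneseAwayMap_bijective ℬ 𝒜 φ hdeg hφ hsurj hf

lemma veronese_apply (p : Proj 𝒜) :
    ((veroneseData 𝒜 ℬ hd φ hdeg hsurj).map p).asHomogeneousIdeal.toIdeal =
      Ideal.comap φ p.asHomogeneousIdeal.toIdeal := by
  let m := (veroneseData 𝒜 ℬ hd φ hdeg hsurj).map
  have hpos : ∀ (n : ℕ) (b : B), 0 < n → b ∈ ℬ n →
      (b ∈ (m p).asHomogeneousIdeal ↔ φ b ∈ p.asHomogeneousIdeal) := fun n b hn hb ↦ by
    rw [← not_iff_not]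
    exact SetLike.ext_iff.mp (veroneseData_preimage 𝒜 ℬ hd φ hdeg hsurj hb hn) p
  obtain ⟨n, g, hn, hg, hgp⟩ := exists_mem_basicOpen_veronese 𝒜 ℬ hd φ hsurj p
  have hgp' : φ g ∉ p.asHomogeneousIdeal := hgp
  have hgm : g ∉ (m p).asHomogeneousIdeal := fun h ↦ hgp' ((hpos n g hn hg).mp h)
  have hall : ∀ (k : ℕ) (b : B), b ∈ ℬ k →
      (b ∈ (m p).asHomogeneousIdeal ↔ φ b ∈ p.asHomogeneousIdeal) := fun k b hb ↦ by
    have h := hpos (k + n) (b * g) (Nat.add_pos_right k hn) (SetLike.mul_mem_graded hb hg)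
    rw [map_mul] at h
    constructor
    · intro hb'
      exact (p.isPrime.mem_or_mem (h.mp (Ideal.mul_mem_right _ _ hb'))).resolve_right hgp'
    · intro hb'
      exact ((m p).isPrime.mem_or_mem (h.mpr (Ideal.mul_mem_right _ _ hb'))).resolve_right hgm
  ext b
  rw [Ideal.mem_comap]
  constructor
  · intro hb
    classical
    rw [← DirectSum.sum_support_decompose ℬ b, map_sum]
    exact Ideal.sum_mem _ fun k _ ↦ (hall k _ (SetLike.coe_mem _)).mp
      ((m p).asHomogeneousIdeal.isHomogeneous k hb)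
  · intro hb
    refine mem_of_forall_proj_mem ℬ fun k ↦ (hall k _ (proj_mem ℬ k b)).mpr ?_
    rw [← proj_map_veronese ℬ 𝒜 φ hdeg hd]
    exact p.asHomogeneousIdeal.isHomogeneous _ hb

end Groth.Agent.Proj16
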